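import Mathlib
import Cfsg.Agent.Cit.ParabSL2
import Cfsg.Agent.Classification.QDW.SUTwoTrace
import Cfsg.Agent.Classification.InvCent.GLTwo
import Cfsg.Agent.Lib.Cores

/-!
# Normal subgroups of odd order of `GL₂(q)` and `GU₂(q)`, `q` odd, are cyclic (scalars)
-/

set_option autoImplicit false

namespace Cfsg.Agent.GTwoOdd.Core.HFiveA

open Subgroup Matrix Cfsg.Agent.Classification.InvCent.GLTwo

/-- A normal subgroup of odd order commutes with a normal image of `SL₂(K)`. -/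
theorem comm_of_odd {X : Type*} [Group X] [Finite X] {K : Type*} [Field K] [Fintype K]
    (hK : Odd (Fintype.card K)) (j : SpecialLinearGroup (Fin 2) K →* X) (hj : Function.Injective j)
    (hn : ∀ (x : X) (s : SpecialLinearGroup (Fin 2) K), ∃ s', j s' = x * j s * x⁻¹)
    (R : Subgroup X) [hR : R.Normal] (hodd : Odd (Nat.card R)) (r : X) (hr : r ∈ R)
    (s : SpecialLinearGroup (Fin 2) K) : r * j s = j s * r := by
  have h1 : R.comap j ≤ Cfsg.pPrimeCore 2 (SpecialLinearGroup (Fin 2) K) := by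
    apply Cfsg.Agent.Lib.Cores.le_pPrimeCore (hR.comap j)
    have h2 : Nat.card (R.comap j) ∣ Nat.card R := by
      have h3 : (R.comap j).map j ≤ R := map_comap_le j R
      have h4 : Nat.card ((R.comap j).map j) = Nat.card (R.comap j) :=
        Subgroup.card_map_of_injective hj
      rw [← h4]
      exact Subgroup.card_dvd_of_le h3
    exact (Nat.coprime_two_right.2 (hodd.of_dvd_nat h2))
  have h2 : Cfsg.pPrimeCore 2 (SpecialLinearGroup (Fin 2) K) = ⊥ := Cfsg.Agent.Cit.ParabSL2.oddCore_sl hK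
  rw [h2, le_bot_iff] at h1
  obtain ⟨s', hs'⟩ := hn r s
  have h3 : s' * s⁻¹ ∈ R.comap j := by
    rw [mem_comap, map_mul, hs', map_inv]
    have h4 := hR.conj_mem r⁻¹ (inv_mem hr) (j s)
    have e : r * j s * r⁻¹ * (j s)⁻¹ = r * (j s * r⁻¹ * (j s)⁻¹) := by group
    rw [e]
    exact mul_mem hr h4
  rw [h1, mem_bot] at h3
  have h4 : s' = s := by rwa [mul_inv_eq_one] at h3
  rw [h4] at hs'
  calc r * j s = r * j s * r⁻¹ * r := by group
    _ = j s * r := by rw [← hs']

/-- A group of scalar matrices is cyclic. -/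
theorem isCyclic_of_scalar {X F : Type*} [Group X] [Finite X] [Field F] (f : X →* GL (Fin 2) F)
    (hf : Function.Injective f) (R : Subgroup X)
    (h : ∀ r ∈ R, (f r).1 0 1 = 0 ∧ (f r).1 1 0 = 0 ∧ (f r).1 0 0 = (f r).1 1 1) : IsCyclic R := by
  let g : R →* F :=
    { toFun := fun r => (f r).1 0 0
      map_one' := by simp
      map_mul' := by
        intro a b
        rw [Subgroup.coe_mul, map_mul, m00, (h a a.2).1]
        ring }
  apply isCyclic_of_injective_ringHom g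
  intro a b hab
  have hab' : (f a).1 0 0 = (f b).1 0 0 := hab
  apply Subtype.ext
  apply hf
  obtain ⟨a1, a2, a3⟩ := h a a.2
  obtain ⟨b1, b2, b3⟩ := h b b.2
  exact ext2 hab' (by rw [a1, b1]) (by rw [a2, b2]) (by rw [← a3, ← b3, hab'])

/-- Scalar matrices are central. -/
theorem le_center_of_scalar {X F : Type*} [Group X] [Field F] (f : X →* GL (Fin 2) F)
    (hf : Function.Injective f) (R : Subgroup X)
    (h : ∀ r ∈ R, (f r).1 0 1 = 0 ∧ (f r).1 1 0 = 0 ∧ (f r).1 0 0 = (f r).1 1 1) : R ≤ center X := by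
  intro r hr
  rw [mem_center_iff]
  intro x
  apply hf
  obtain ⟨h1, h2, h3⟩ := h r hr
  rw [map_mul, map_mul]
  apply ext2
  · rw [m00, m00, h1, h2]; ring
  · rw [m01, m01, h1, h3]; ring
  · rw [m10, m10, h2, h3]; ring
  · rw [m11, m11, h1, h2]; ring

/-- passing to a quotient by a normal subgroup of odd order -/
theorem core_of_surjective {X Y : Type*} [Group X] [Finite X] [Group Y] [Finite Y] (f : X →* Y)
    (hf : Function.Surjective f) (hker : Odd (Nat.card f.ker))
    (h : ∀ R : Subgroup X, R.Normal → Odd (Nat.card R) → R ≤ center X ∧ IsCyclic R) :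
    Cfsg.pPrimeCore 2 Y ≤ center Y ∧ IsCyclic (Cfsg.pPrimeCore 2 Y) := by
  have hn : (Cfsg.pPrimeCore 2 Y).Normal := Cfsg.Agent.Lib.Cores.pPrimeCore_normal 2
  have hodd : Odd (Nat.card (Cfsg.pPrimeCore 2 Y)) :=
    Nat.coprime_two_right.1 (Cfsg.Agent.Lib.Cores.pPrimeCore_coprime (G := Y) 2)
  set R := (Cfsg.pPrimeCore 2 Y).comap f with hR
  have hRn : R.Normal := hn.comap f
  have hmap : R.map f = Cfsg.pPrimeCore 2 Y := map_comap_eq_self_of_surjective hf _
  have hRo : Odd (Nat.card R) := by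
    rw [← Nat.not_even_iff_odd, even_iff_two_dvd]
    intro h2
    have p2 : Fact (Nat.Prime 2) := ⟨Nat.prime_two⟩
    obtain ⟨r, hr⟩ := exists_prime_orderOf_dvd_card' 2 h2
    have hrR : f r ∈ Cfsg.pPrimeCore 2 Y := r.2
    have h3 : orderOf (f r) ∣ 2 := by
      have := orderOf_map_dvd f (r : X)
      rwa [Subgroup.orderOf_coe, hr] at this
    have h4 : orderOf (f r) ∣ Nat.card (Cfsg.pPrimeCore 2 Y) := by
      have := orderOf_dvd_natCard (⟨f r, hrR⟩ : Cfsg.pPrimeCore 2 Y)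
      rwa [← Subgroup.orderOf_coe] at this
    have h5 : orderOf (f r) = 1 :=
      Nat.eq_one_of_dvd_coprimes (Nat.coprime_two_left.2 hodd) h3 h4
    have h6 : (r : X) ∈ f.ker := orderOf_eq_one_iff.1 h5
    have h7 : orderOf (r : X) ∣ Nat.card f.ker := by
      have := orderOf_dvd_natCard (⟨r, h6⟩ : f.ker)
      rwa [← Subgroup.orderOf_coe] at this
    rw [Subgroup.orderOf_coe, hr] at h7
    exact (Nat.not_even_iff_odd.2 hker) (even_iff_two_dvd.2 h7)
  obtain ⟨h1, h2⟩ := h R hRn hRo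
  constructor
  · rw [← hmap]
    rintro _ ⟨r, hr, rfl⟩
    rw [mem_center_iff]
    intro y
    obtain ⟨x, rfl⟩ := hf y
    rw [← map_mul, ← map_mul, mem_center_iff.1 (h1 hr) x]
  · rw [← hmap]
    exact isCyclic_of_surjective (f.subgroupMap R) (f.subgroupMap_surjective R)

section LinPart

variable {F : Type*} [Field F] [Fintype F]

theorem core_GL (hF : Odd (Fintype.card F)) (R : Subgroup (GL (Fin 2) F)) (hR : R.Normal)
    (hodd : Odd (Nat.card R)) : R ≤ center (GL (Fin 2) F) ∧ IsCyclic R := by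
  have key : ∀ r ∈ R, ∀ s : SpecialLinearGroup (Fin 2) F,
      r * SpecialLinearGroup.toGL s = SpecialLinearGroup.toGL s * r := by
    intro r hr s
    refine comm_of_odd hF (SpecialLinearGroup.toGL) ?_ ?_ R hodd r hr s
    · intro a b hab
      exact Subtype.ext (congrArg (fun x : GL (Fin 2) F => x.1) hab)
    · intro x s
      have hd : (x.1 * s.1 * (x⁻¹).1).det = 1 := by
        rw [det_mul, det_mul, s.2, mul_one, ← det_mul]
        have : x.1 * (x⁻¹).1 = 1 := Units.mul_inv x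
        rw [this, det_one]
      refine ⟨⟨x.1 * s.1 * (x⁻¹).1, hd⟩, ?_⟩
      apply Units.ext
      rfl
  suffices hsc : ∀ r ∈ R, ((MonoidHom.id (GL (Fin 2) F)) r).1 0 1 = 0 ∧ ((MonoidHom.id (GL (Fin 2) F)) r).1 1 0 = 0 ∧
      ((MonoidHom.id (GL (Fin 2) F)) r).1 0 0 = ((MonoidHom.id (GL (Fin 2) F)) r).1 1 1 from
    ⟨le_center_of_scalar (MonoidHom.id _) Function.injective_id R hsc,
      isCyclic_of_scalar (MonoidHom.id _) Function.injective_id R hsc⟩
  intro r hr
  have hu : (!![1, 1; 0, 1] : Matrix (Fin 2) (Fin 2) F).det = 1 := by rw [det_fin_two_of]; ring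
  have hw : (!![0, 1; -1, 0] : Matrix (Fin 2) (Fin 2) F).det = 1 := by rw [det_fin_two_of]; ring
  have h1 := congrArg (fun x : GL (Fin 2) F => x.1) (key r hr ⟨_, hu⟩)
  have h2 := congrArg (fun x : GL (Fin 2) F => x.1) (key r hr ⟨_, hw⟩)
  have e1 : r.1 * !![1, 1; 0, 1] = !![1, 1; 0, 1] * r.1 := h1
  have e2 : r.1 * !![0, 1; -1, 0] = !![0, 1; -1, 0] * r.1 := h2
  have a00 := congrFun (congrFun e1 0) 0
  have a01 := congrFun (congrFun e1 0) 1
  have b00 := congrFun (congrFun e2 0) 0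
  simp [Matrix.mul_apply, Fin.sum_univ_two] at a00 a01 b00
  refine ⟨?_, ?_, ?_⟩
  · change r.1 0 1 = 0
    linear_combination -b00 - a00
  · exact a00
  · change r.1 0 0 = r.1 1 1
    linear_combination a01

end LinPart

section UniPart

variable {F : Type*} [Field F] [Fintype F] {q : ℕ}

theorem core_GU (hF : Fintype.card F = q ^ 2) (hq : Odd q) (R : Subgroup (Cfsg.GU 2 F q)) (hR : R.Normal)
    (hodd : Odd (Nat.card R)) : R ≤ center (Cfsg.GU 2 F q) ∧ IsCyclic R := by
  obtain ⟨p, k, hp, -, hq', hk⟩ := Cfsg.Agent.LieClassical.HermBasic.exists_prime_pow hF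
  have : Fact p.Prime := ⟨hp⟩
  have : Fintype (GaloisField p k) := Fintype.ofFinite _
  have hK : Fintype.card (GaloisField p k) = q := by
    rw [← Nat.card_eq_fintype_card, GaloisField.card p k hk.ne', hq']
  obtain ⟨f, j, hj, hdet, hsurj, -⟩ := Cfsg.Agent.Classification.QDW.SUTwoTrace.exists_hom_GU hF hK
  have key : ∀ r ∈ R, ∀ y : Cfsg.GU 2 F q, GeneralLinearGroup.det (y : GL (Fin 2) F) = 1 →
      r * y = y * r := by
    intro r hr y hy
    obtain ⟨s, rfl⟩ := hsurj y hy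
    refine comm_of_odd (by rw [hK]; exact hq) j hj ?_ R hodd r hr s
    intro x s
    apply hsurj
    rw [Subgroup.coe_mul, Subgroup.coe_mul, map_mul, map_mul, hdet, Subgroup.coe_inv, map_inv]
    simp
  suffices hsc : ∀ r ∈ R, ((Cfsg.GU 2 F q).subtype r).1 0 1 = 0 ∧ ((Cfsg.GU 2 F q).subtype r).1 1 0 = 0 ∧
      ((Cfsg.GU 2 F q).subtype r).1 0 0 = ((Cfsg.GU 2 F q).subtype r).1 1 1 from
    ⟨le_center_of_scalar (Cfsg.GU 2 F q).subtype Subtype.val_injective R hsc,
      isCyclic_of_scalar (Cfsg.GU 2 F q).subtype Subtype.val_injective R hsc⟩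
  intro r hr
  have h2 := Cfsg.Agent.TwoFusion.GUTwo.two_le hF
  have h3 : 3 ≤ q := by
    obtain ⟨c, hc⟩ := hq
    omega
  have hw0 : (!![0, 1; -1, 0] : Matrix (Fin 2) (Fin 2) F).det ≠ 0 := by
    rw [det_fin_two_of]; simp
  let w : GL (Fin 2) F := GeneralLinearGroup.mkOfDetNeZero !![0, 1; -1, 0] hw0
  have hw : w ∈ Cfsg.GU 2 F q := by
    refine (Cfsg.Agent.TwoFusion.GUTwo.mem_iff hF w).2 ?_
    have e00 : w.1 0 0 = 0 := rfl
    have e01 : w.1 0 1 = 1 := rfl
    have e10 : w.1 1 0 = -1 := rfl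
    have e11 : w.1 1 1 = 0 := rfl
    rw [e00, e01, e10, e11]
    refine ⟨?_, ?_, ?_⟩
    · rw [hq.neg_one_pow]; ring
    · rw [zero_pow (by omega)]; ring
    · rw [zero_pow (by omega)]; ring
  have hwd : GeneralLinearGroup.det w = 1 := by
    apply Units.ext
    rw [GeneralLinearGroup.val_det_apply]
    change (!![0, 1; -1, 0] : Matrix (Fin 2) (Fin 2) F).det = 1
    rw [det_fin_two_of]; ring
  obtain ⟨a, ha⟩ := Cfsg.Agent.TwoFusion.GUTwo.exists_primitiveRoot hF (d := q + 1) (Dvd.intro_left _ rfl)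
  have ha1 : a * a ^ q = 1 := by rw [← pow_succ', ← ha, pow_orderOf_eq_one]
  have ha1' : (a : F) * (a : F) ^ q = 1 := by
    have := congrArg Units.val ha1
    simpa using this
  have ha2 : (a : F) ≠ ((a⁻¹ : Fˣ) : F) := by
    intro h
    have h4 : a = a⁻¹ := Units.ext h
    have h5 : a ^ 2 = 1 := by
      rw [pow_two]
      nth_rewrite 1 [h4]
      exact inv_mul_cancel a
    have h6 := orderOf_dvd_of_pow_eq_one h5
    rw [ha] at h6
    have := Nat.le_of_dvd (by norm_num) h6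
    omega
  have hd : dg a a⁻¹ ∈ Cfsg.GU 2 F q := by
    refine (Cfsg.Agent.TwoFusion.GUTwo.mem_iff hF _).2 ?_
    rw [dg00, dg01, dg10, dg11]
    refine ⟨?_, ?_, ?_⟩
    · rw [zero_pow (by omega)]
      linear_combination ha1'
    · rw [zero_pow (by omega)]
      have h7 : ((a⁻¹ : Fˣ) : F) * ((a⁻¹ : Fˣ) : F) ^ q = 1 := by
        have : a⁻¹ * a⁻¹ ^ q = 1 := by
          rw [inv_pow, ← mul_inv, ha1, inv_one]
        have := congrArg Units.val this
        simpa using this
      linear_combination h7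
    · rw [zero_pow (by omega)]; ring
  have hdd : GeneralLinearGroup.det (dg a a⁻¹) = 1 := by
    rw [det_dg, mul_inv_cancel]
  have k1 := congrArg (fun x : Cfsg.GU 2 F q => x.1.1) (key r hr ⟨w, hw⟩ hwd)
  have k2 := congrArg (fun x : Cfsg.GU 2 F q => x.1.1) (key r hr ⟨dg a a⁻¹, hd⟩ hdd)
  have e1 : r.1.1 * !![0, 1; -1, 0] = !![0, 1; -1, 0] * r.1.1 := k1
  have e2 : r.1.1 * (dg a a⁻¹).1 = (dg a a⁻¹).1 * r.1.1 := k2
  have b01 := congrFun (congrFun e1 0) 1
  have c01 := congrFun (congrFun e2 0) 1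
  have c10 := congrFun (congrFun e2 1) 0
  simp only [Matrix.mul_apply, Fin.sum_univ_two, dg00, dg01, dg10, dg11] at c01 c10
  simp [Matrix.mul_apply, Fin.sum_univ_two] at b01
  have hne : ((a⁻¹ : Fˣ) : F) - (a : F) ≠ 0 := sub_ne_zero.2 (Ne.symm ha2)
  refine ⟨?_, ?_, ?_⟩
  · change r.1.1 0 1 = 0
    have : r.1.1 0 1 * (((a⁻¹ : Fˣ) : F) - (a : F)) = 0 := by linear_combination c01
    exact (mul_eq_zero.1 this).resolve_right hne
  · change r.1.1 1 0 = 0
    have : r.1.1 1 0 * (((a⁻¹ : Fˣ) : F) - (a : F)) = 0 := by linear_combination -c10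
    exact (mul_eq_zero.1 this).resolve_right hne
  · change r.1.1 0 0 = r.1.1 1 1
    linear_combination b01

end UniPart

end Cfsg.Agent.GTwoOdd.Core.HFiveA
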