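import Mathlib
import Cfsg.Agent.GTwoOdd.Core.HFiveA
import Cfsg.Agent.LieClassical.HermBasic

/-!
# The centralizer of an involution of `PSU₃(q)`, `q` odd
-/

set_option autoImplicit false

namespace Cfsg.Agent.GTwoOdd.Core.HFiveB

open Subgroup Matrix Cfsg.Agent.Classification.InvCent.GLTwo Cfsg.Agent.LieClassical.HermBasic

section gen

variable {F : Type*} [Field F]

/-- `diag(d, A)` -/
def blk (d : F) (A : Matrix (Fin 2) (Fin 2) F) : Matrix (Fin 3) (Fin 3) F :=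
  !![d, 0, 0; 0, A 0 0, A 0 1; 0, A 1 0, A 1 1]

theorem blk_det (d : F) (A : Matrix (Fin 2) (Fin 2) F) : (blk d A).det = d * A.det := by
  rw [blk, det_fin_three, det_fin_two]
  simp
  ring

theorem blk_mul (d e : F) (A B : Matrix (Fin 2) (Fin 2) F) : blk d A * blk e B = blk (d * e) (A * B) := by
  ext i j
  fin_cases i <;> fin_cases j <;> simp [blk, Matrix.mul_apply, Fin.sum_univ_three, Fin.sum_univ_two]

theorem blk_one : blk (1 : F) 1 = 1 := by
  ext i j
  fin_cases i <;> fin_cases j <;> simp [blk]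

theorem blk_mulVec (d : F) (A : Matrix (Fin 2) (Fin 2) F) (u : Fin 3 → F) :
    blk d A *ᵥ u = ![d * u 0, (A *ᵥ ![u 1, u 2]) 0, (A *ᵥ ![u 1, u 2]) 1] := by
  ext i
  fin_cases i <;> simp [blk, Matrix.mulVec, dotProduct, Fin.sum_univ_three, Fin.sum_univ_two]

/-- `A ↦ diag(det A⁻¹, A)` -/
noncomputable def toSL : GL (Fin 2) F →* SpecialLinearGroup (Fin 3) F where
  toFun A := ⟨blk ((A.1.det)⁻¹) A.1, by
    rw [blk_det]
    refine inv_mul_cancel₀ ?_
    have := det_ne A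
    rwa [← det_fin_two] at this⟩
  map_one' := Subtype.ext (by simp [blk_one])
  map_mul' A B := Subtype.ext (by
    change blk (((A.1 * B.1).det)⁻¹) (A.1 * B.1) = blk ((A.1.det)⁻¹) A.1 * blk ((B.1.det)⁻¹) B.1
    rw [blk_mul, det_mul, mul_inv])

theorem toSL_val (A : GL (Fin 2) F) : (toSL A).1 = blk ((A.1.det)⁻¹) A.1 := rfl

theorem toSL_injective : Function.Injective (toSL (F := F)) := by
  intro A B h
  have h1 : blk ((A.1.det)⁻¹) A.1 = blk ((B.1.det)⁻¹) B.1 := congrArg Subtype.val h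
  apply ext2
  · simpa [blk] using congrFun (congrFun h1 1) 1
  · simpa [blk] using congrFun (congrFun h1 1) 2
  · simpa [blk] using congrFun (congrFun h1 2) 1
  · simpa [blk] using congrFun (congrFun h1 2) 2

end gen

variable {F : Type*} [Field F] [Fintype F] {q : ℕ}

omit [Fintype F] in
theorem herm_three (u v : Fin 3 → F) :
    Cfsg.hermForm 3 F q u v = u 0 * v 0 ^ q + Cfsg.hermForm 2 F q ![u 1, u 2] ![v 1, v 2] := by
  rw [herm_def, herm_def, Fin.sum_univ_three, Fin.sum_univ_two]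
  simp
  ring

theorem det_norm (hF : Fintype.card F = q ^ 2) {A : GL (Fin 2) F} (hA : A ∈ Cfsg.GU 2 F q) :
    (A.1.det)⁻¹ * ((A.1.det)⁻¹) ^ q = 1 := by
  obtain ⟨h1, h3, h4⟩ := (Cfsg.Agent.TwoFusion.GUTwo.mem_iff hF A).1 hA
  have h := Cfsg.Agent.TwoFusion.GUTwo.det_norm hF h1 h3 h4
  rw [← det_fin_two] at h
  rw [← pow_succ', inv_pow, h, inv_one]

theorem toSL_mem (hF : Fintype.card F = q ^ 2) {A : GL (Fin 2) F} (hA : A ∈ Cfsg.GU 2 F q) :
    toSL A ∈ Cfsg.SU 3 F q := by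
  rw [mem_SU_iff]
  intro u v
  have hA' := (mem_GU_iff A).1 hA ![u 1, u 2] ![v 1, v 2]
  have hd := det_norm hF hA
  change Cfsg.hermForm 3 F q (blk ((A.1.det)⁻¹) A.1 *ᵥ u) (blk ((A.1.det)⁻¹) A.1 *ᵥ v) = _
  rw [blk_mulVec, blk_mulVec, herm_three, herm_three u v]
  have e1 : ∀ (a : F) (w : Fin 2 → F), ![(![a, w 0, w 1] : Fin 3 → F) 1, (![a, w 0, w 1] : Fin 3 → F) 2] = w := by
    intro a w; ext i; fin_cases i <;> rfl
  rw [e1, e1, hA']
  change (A.1.det)⁻¹ * u 0 * ((A.1.det)⁻¹ * v 0) ^ q + _ = _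
  rw [mul_pow]
  linear_combination (u 0 * v 0 ^ q) * hd

/-- the embedding of `GU₂(q)` in `SU₃(q)` -/
noncomputable def emb (hF : Fintype.card F = q ^ 2) : Cfsg.GU 2 F q →* Cfsg.SU 3 F q :=
  (toSL.comp (Cfsg.GU 2 F q).subtype).codRestrict (Cfsg.SU 3 F q) (fun A => toSL_mem hF A.2)

theorem emb_val (hF : Fintype.card F = q ^ 2) (A : Cfsg.GU 2 F q) :
    (emb hF A).1.1 = blk ((A.1.1.det)⁻¹) A.1.1 := rfl

theorem emb_injective (hF : Fintype.card F = q ^ 2) : Function.Injective (emb (F := F) hF) := by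
  intro A B h
  apply Subtype.ext
  apply toSL_injective
  exact congrArg Subtype.val h

/-- `-1` in `GU₂` -/
noncomputable def negOne (hq : Odd q) (hF : Fintype.card F = q ^ 2) : Cfsg.GU 2 F q :=
  ⟨-1, by
    have h2 := Cfsg.Agent.TwoFusion.GUTwo.two_le hF
    refine (Cfsg.Agent.TwoFusion.GUTwo.mem_iff hF _).2 ?_
    have e00 : (-1 : GL (Fin 2) F).1 0 0 = -1 := by simp
    have e01 : (-1 : GL (Fin 2) F).1 0 1 = 0 := by simp
    have e10 : (-1 : GL (Fin 2) F).1 1 0 = 0 := by simp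
    have e11 : (-1 : GL (Fin 2) F).1 1 1 = -1 := by simp
    rw [e00, e01, e10, e11]
    refine ⟨?_, ?_, ?_⟩
    · rw [hq.neg_one_pow, zero_pow (by omega)]; ring
    · rw [hq.neg_one_pow, zero_pow (by omega)]; ring
    · rw [zero_pow (by omega)]; ring⟩

theorem emb_negOne (hq : Odd q) (hF : Fintype.card F = q ^ 2) :
    (emb hF (negOne hq hF)).1.1 = !![1, 0, 0; 0, -1, 0; 0, 0, -1] := by
  rw [emb_val]
  have h : (negOne hq hF : Cfsg.GU 2 F q).1.1 = (-1 : Matrix (Fin 2) (Fin 2) F) := rfl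
  rw [h]
  ext i j
  fin_cases i <;> fin_cases j <;> simp [blk, det_fin_two]

/-- the cyclic permutation matrix -/
theorem cyc_mem (_hF : Fintype.card F = q ^ 2) :
    ∃ c : Cfsg.SU 3 F q, c.1.1 = !![0, 1, 0; 0, 0, 1; 1, 0, 0] := by
  have hd : (!![0, 1, 0; 0, 0, 1; 1, 0, 0] : Matrix (Fin 3) (Fin 3) F).det = 1 := by
    rw [det_fin_three]; simp
  let c : SpecialLinearGroup (Fin 3) F := ⟨!![0, 1, 0; 0, 0, 1; 1, 0, 0], hd⟩
  suffices hc : c ∈ Cfsg.SU 3 F q from ⟨⟨c, hc⟩, rfl⟩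
  rw [mem_SU_iff]
  intro u v
  change Cfsg.hermForm 3 F q (!![0, 1, 0; 0, 0, 1; 1, 0, 0] *ᵥ u) (!![0, 1, 0; 0, 0, 1; 1, 0, 0] *ᵥ v) = _
  rw [herm_def, herm_def, Fin.sum_univ_three, Fin.sum_univ_three]
  simp [Matrix.mulVec, dotProduct, Fin.sum_univ_three]
  ring

/-- elements commuting with `diag(1,-1,-1)` -/
theorem block_of_comm (hF : Fintype.card F = q ^ 2) (hq : Odd q) {g : Cfsg.SU 3 F q}
    (hg : g * emb hF (negOne hq hF) = emb hF (negOne hq hF) * g) :
    g.1.1 0 1 = 0 ∧ g.1.1 0 2 = 0 ∧ g.1.1 1 0 = 0 ∧ g.1.1 2 0 = 0 := by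
  have h2 : (2 : F) ≠ 0 := by
    apply Ring.two_ne_zero
    intro h
    have h1 := FiniteField.even_card_iff_char_two.mp h
    rw [hF] at h1
    have h2 := Nat.odd_iff.mp (hq.pow (n := 2))
    omega
  have h1 : g.1.1 * (emb hF (negOne hq hF)).1.1 = (emb hF (negOne hq hF)).1.1 * g.1.1 :=
    congrArg (fun x : Cfsg.SU 3 F q => x.1.1) hg
  rw [emb_negOne] at h1
  have a01 := congrFun (congrFun h1 0) 1
  have a02 := congrFun (congrFun h1 0) 2
  have a10 := congrFun (congrFun h1 1) 0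
  have a20 := congrFun (congrFun h1 2) 0
  simp [Matrix.mul_apply, Fin.sum_univ_three] at a01 a02 a10 a20
  have key : ∀ x : F, -x = x → x = 0 := by
    intro x hx
    have : (2 : F) * x = 0 := by linear_combination -hx
    exact (mul_eq_zero.1 this).resolve_left h2
  exact ⟨key _ a01, key _ a02, key _ a10.symm, key _ a20.symm⟩

theorem center_scalar (hF : Fintype.card F = q ^ 2) (hq : Odd q) {z : Cfsg.SU 3 F q}
    (hz : z ∈ center (Cfsg.SU 3 F q)) : z.1.1 = z.1.1 0 0 • (1 : Matrix (Fin 3) (Fin 3) F) := by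
  obtain ⟨h01, h02, h10, h20⟩ := block_of_comm hF hq ((mem_center_iff.1 hz (emb hF (negOne hq hF))).symm)
  obtain ⟨c, hc⟩ := cyc_mem (q := q) hF
  have h1 : c.1.1 * z.1.1 = z.1.1 * c.1.1 :=
    congrArg (fun x : Cfsg.SU 3 F q => x.1.1) (mem_center_iff.1 hz c)
  rw [hc] at h1
  have a := fun i j => congrFun (congrFun h1 i) j
  have a00 := a 0 0
  have a01 := a 0 1
  have a02 := a 0 2
  have a10 := a 1 0
  have a11 := a 1 1
  have a12 := a 1 2
  simp [Matrix.mul_apply, Fin.sum_univ_three] at a00 a01 a02 a10 a11 a12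
  ext i j
  fin_cases i <;> fin_cases j <;> simp [h01, h02, h10, h20, a01, a02, a11, a12]

theorem pow_three_of_center (hF : Fintype.card F = q ^ 2) (hq : Odd q) {z : Cfsg.SU 3 F q}
    (hz : z ∈ center (Cfsg.SU 3 F q)) : z ^ 3 = 1 := by
  have h := center_scalar hF hq hz
  have hd : z.1.1.det = 1 := z.1.2
  rw [h, det_smul, det_one, mul_one, Fintype.card_fin] at hd
  apply Subtype.ext
  apply Subtype.ext
  change (z.1.1) ^ 3 = 1
  rw [h, smul_pow, one_pow, hd, one_smul]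

/-- an element of `SU₃(q)` commuting with `diag(1,-1,-1)` comes from `GU₂(q)` -/
theorem exists_emb (hF : Fintype.card F = q ^ 2) (hq : Odd q) {g : Cfsg.SU 3 F q}
    (hg : g * emb hF (negOne hq hF) = emb hF (negOne hq hF) * g) : ∃ A, emb hF A = g := by
  obtain ⟨h01, h02, h10, h20⟩ := block_of_comm hF hq hg
  set B : Matrix (Fin 2) (Fin 2) F := !![g.1.1 1 1, g.1.1 1 2; g.1.1 2 1, g.1.1 2 2] with hB
  have hgB : g.1.1 = blk (g.1.1 0 0) B := by
    ext i j
    fin_cases i <;> fin_cases j <;> simp [blk, hB, h01, h02, h10, h20]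
  have hd : g.1.1 0 0 * B.det = 1 := by
    have : g.1.1.det = 1 := g.1.2
    rw [hgB, blk_det] at this
    exact this
  have hB0 : B.det ≠ 0 := by
    intro h
    rw [h, mul_zero] at hd
    exact zero_ne_one hd
  have hinv : g.1.1 0 0 = (B.det)⁻¹ := eq_inv_of_mul_eq_one_left hd
  let A : GL (Fin 2) F := GeneralLinearGroup.mkOfDetNeZero B hB0
  have hA1 : A.1 = B := rfl
  have hA : A ∈ Cfsg.GU 2 F q := by
    rw [mem_GU_iff]
    intro u v
    have h1 := (mem_SU_iff g.1).1 g.2 ![0, u 0, u 1] ![0, v 0, v 1]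
    change Cfsg.hermForm 3 F q (g.1.1 *ᵥ ![0, u 0, u 1]) (g.1.1 *ᵥ ![0, v 0, v 1]) = _ at h1
    rw [hgB, blk_mulVec, blk_mulVec, herm_three, herm_three (![0, u 0, u 1]) (![0, v 0, v 1])] at h1
    have e1 : ∀ (a : F) (w : Fin 2 → F), ![(![a, w 0, w 1] : Fin 3 → F) 1, (![a, w 0, w 1] : Fin 3 → F) 2] = w := by
      intro a w; ext i; fin_cases i <;> rfl
    rw [e1, e1, e1, e1] at h1
    change (g.1.1 0 0 * 0) * (g.1.1 0 0 * 0) ^ q + _ = 0 * (0 : F) ^ q + _ at h1
    rw [mul_zero, zero_mul, zero_add, zero_add] at h1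
    exact h1
  refine ⟨⟨A, hA⟩, ?_⟩
  apply Subtype.ext
  apply Subtype.ext
  rw [emb_val]
  change blk ((B.det)⁻¹) B = g.1.1
  rw [hgB, ← hinv]

/-- the image of `diag(1,-1,-1)` in `PSU₃(q)` -/
noncomputable def vv (hF : Fintype.card F = q ^ 2) (hq : Odd q) : Cfsg.PSU 3 F q :=
  QuotientGroup.mk (emb hF (negOne hq hF))

theorem negOne_mul (hF : Fintype.card F = q ^ 2) (hq : Odd q) : negOne hq hF * negOne hq hF = (1 : Cfsg.GU 2 F q) := by
  apply Subtype.ext
  change (-1 : GL (Fin 2) F) * -1 = 1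
  simp

theorem orderOf_vv (hF : Fintype.card F = q ^ 2) (hq : Odd q) : orderOf (vv (F := F) hF hq) = 2 := by
  apply orderOf_eq_prime
  · rw [pow_two, vv, ← QuotientGroup.mk_mul, ← map_mul, negOne_mul, map_one, QuotientGroup.mk_one]
  · intro h
    rw [vv, QuotientGroup.eq_one_iff] at h
    have h1 := center_scalar hF hq h
    have h2 := pow_three_of_center hF hq h
    rw [← map_pow, pow_succ, pow_two, negOne_mul, one_mul] at h2
    have h3 : (emb hF (negOne hq hF)).1.1 1 1 = 1 := by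
      rw [h2]; rfl
    rw [emb_negOne] at h3
    have h4 : (-1 : F) = 1 := by simpa using h3
    have h5 : (2 : F) = 0 := by linear_combination -h4
    have h6 : (2 : F) ≠ 0 := by
      apply Ring.two_ne_zero
      intro h
      have h1 := FiniteField.even_card_iff_char_two.mp h
      rw [hF] at h1
      have h2 := Nat.odd_iff.mp (hq.pow (n := 2))
      omega
    exact h6 h5

/-- `GU₂(q) → C(v)` -/
noncomputable def toC (hF : Fintype.card F = q ^ 2) (hq : Odd q) :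
    Cfsg.GU 2 F q →* Subgroup.centralizer ({vv (F := F) hF hq} : Set (Cfsg.PSU 3 F q)) :=
  ((QuotientGroup.mk' (center (Cfsg.SU 3 F q))).comp (emb hF)).codRestrict _ (fun A => by
    rw [mem_centralizer_singleton_iff]
    change (QuotientGroup.mk (emb hF A) : Cfsg.PSU 3 F q) * vv hF hq = vv hF hq * QuotientGroup.mk (emb hF A)
    rw [vv, ← QuotientGroup.mk_mul, ← QuotientGroup.mk_mul, ← map_mul, ← map_mul]
    congr 2
    apply Subtype.ext
    change A.1 * (-1 : GL (Fin 2) F) = -1 * A.1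
    simp)

theorem toC_surjective (hF : Fintype.card F = q ^ 2) (hq : Odd q) : Function.Surjective (toC (F := F) hF hq) := by
  rintro ⟨y, hy⟩
  obtain ⟨g, rfl⟩ := QuotientGroup.mk_surjective y
  rw [mem_centralizer_singleton_iff] at hy
  set t := emb hF (negOne hq hF) with ht
  have htt : t * t = 1 := by rw [ht, ← map_mul, negOne_mul, map_one]
  have h1 : (QuotientGroup.mk (g * t) : Cfsg.PSU 3 F q) = QuotientGroup.mk (t * g) := hy
  have h2 : (t * g)⁻¹ * (g * t) ∈ center (Cfsg.SU 3 F q) := QuotientGroup.eq.1 h1.symm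
  set z := (t * g)⁻¹ * (g * t) with hz
  have hcomm := fun x => mem_center_iff.1 h2 x
  have h3 : g * t = t * g * z := by rw [hz]; group
  have h4 : g * t * g⁻¹ = t * z := by
    rw [h3, mul_assoc, mul_assoc, hcomm g⁻¹ |>.symm]
    group
  have h5 : z * z = 1 := by
    have h6 : (g * t * g⁻¹) * (g * t * g⁻¹) = 1 := by
      calc (g * t * g⁻¹) * (g * t * g⁻¹) = g * (t * t) * g⁻¹ := by group
        _ = 1 := by rw [htt]; group
    rw [h4] at h6
    calc z * z = t * t * (z * z) := by rw [htt, one_mul]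
      _ = t * (t * z) * z := by group
      _ = t * (z * t) * z := by rw [hcomm t]
      _ = (t * z) * (t * z) := by group
      _ = 1 := h6
  have h6 : z ^ 3 = 1 := pow_three_of_center hF hq h2
  have h7 : z = 1 := by
    rw [pow_succ, pow_two, h5, one_mul] at h6
    exact h6
  rw [h7, mul_one] at h3
  obtain ⟨A, hA⟩ := exists_emb hF hq h3
  refine ⟨A, Subtype.ext ?_⟩
  change (QuotientGroup.mk (emb hF A) : Cfsg.PSU 3 F q) = QuotientGroup.mk g
  rw [hA]

theorem odd_ker (hF : Fintype.card F = q ^ 2) (hq : Odd q) : Odd (Nat.card (toC (F := F) hF hq).ker) := by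
  rw [← Nat.not_even_iff_odd, even_iff_two_dvd]
  intro h
  have p2 : Fact (Nat.Prime 2) := ⟨Nat.prime_two⟩
  obtain ⟨r, hr⟩ := exists_prime_orderOf_dvd_card' 2 h
  have h1 : (toC hF hq (r : Cfsg.GU 2 F q)) = 1 := r.2
  have h2 : (QuotientGroup.mk (emb hF (r : Cfsg.GU 2 F q)) : Cfsg.PSU 3 F q) = 1 := congrArg Subtype.val h1
  rw [QuotientGroup.eq_one_iff] at h2
  have h3 := pow_three_of_center hF hq h2
  rw [← map_pow, ← map_one (emb hF)] at h3
  have h4 : (r : Cfsg.GU 2 F q) ^ 3 = 1 := emb_injective hF h3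
  have h5 : orderOf (r : Cfsg.GU 2 F q) ∣ 3 := orderOf_dvd_of_pow_eq_one h4
  rw [Subgroup.orderOf_coe, hr] at h5
  omega

theorem core_PSU (hF : Fintype.card F = q ^ 2) (hq : Odd q) :
    Cfsg.pPrimeCore 2 (Subgroup.centralizer ({vv (F := F) hF hq} : Set (Cfsg.PSU 3 F q))) ≤ center _ ∧
      IsCyclic (Cfsg.pPrimeCore 2 (Subgroup.centralizer ({vv (F := F) hF hq} : Set (Cfsg.PSU 3 F q)))) :=
  HFiveA.core_of_surjective (toC hF hq) (toC_surjective hF hq) (odd_ker hF hq)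
    (fun R hR hR' => HFiveA.core_GU hF hq R hR hR')

end Cfsg.Agent.GTwoOdd.Core.HFiveB
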