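import Cfsg.Agent.GTwoOdd.Calc
import Cfsg.Agent.GTwoOdd.Bruhat
import Cfsg.Agent.Lib.AutSL2Out

/-!
# Automorphisms of `SL(2,F)` centralising a torus are conjugations by matrices

`F` a finite field of odd order, `D` a matrix of trace `0` and determinant `≠ 0`.
-/

set_option autoImplicit false

namespace Cfsg.Agent.GTwoOdd

open Matrix Cfsg.Agent.Lib.AutSL2 Cfsg.Agent.Lib.SL2Mat

section field

variable {F : Type*} [Field F]

/-- a field automorphism which fixes all `(u² + δ)/(u² - δ)` is trivial -/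
theorem ringEquiv_eq_refl (h2 : (2 : F) ≠ 0) {δ : F} (hδ : δ ≠ 0) (σ : F ≃+* F)
    (h : ∀ u : F, u * u ≠ δ → σ ((u * u + δ) / (u * u - δ)) = (u * u + δ) / (u * u - δ)) (x : F) : σ x = x := by
  -- `u² / δ` is fixed
  have h1 : ∀ u : F, σ (u * u / δ) = u * u / δ := by
    intro u
    by_cases hu : u * u = δ
    · rw [hu, div_self hδ, map_one]
    · have h3 := h u hu
      have hd : u * u - δ ≠ 0 := sub_ne_zero.2 hu
      set s : F := (u * u + δ) / (u * u - δ) with hs
      have hs1 : s - 1 = 2 * δ / (u * u - δ) := by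
        rw [hs, div_sub_one hd]
        congr 1
        ring
      have hs0 : s - 1 ≠ 0 := by
        rw [hs1]
        exact div_ne_zero (mul_ne_zero h2 hδ) hd
      have hs2 : u * u / δ = (s + 1) / (s - 1) := by
        have hs3 : s + 1 = 2 * (u * u) / (u * u - δ) := by
          rw [hs, div_add_one hd]
          congr 1
          ring
        rw [hs1, hs3, div_div_div_cancel_right₀ hd, mul_div_mul_left _ _ h2]
      rw [hs2, map_div₀, map_add, map_sub, map_one, h3]
  have h3 : σ δ = δ := by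
    have h4 := h1 1
    rw [mul_one, map_div₀, map_one] at h4
    have h5 : σ δ ≠ 0 := by rwa [ne_eq, map_eq_zero]
    field_simp at h4
    exact h4.symm
  have h4 : ∀ u : F, σ (u * u) = u * u := by
    intro u
    have h5 := h1 u
    rw [map_div₀, h3] at h5
    field_simp at h5
    simpa [pow_two] using h5
  have h5 := h4 (x + 1)
  have h6 := h4 (x - 1)
  have h7 : σ (4 * x) = 4 * x := by
    have e : 4 * x = (x + 1) * (x + 1) - (x - 1) * (x - 1) := by ring
    rw [e, map_sub, h5, h6]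
  have h8 : σ 4 = 4 := map_ofNat σ 4
  rw [map_mul, h8] at h7
  have h9 : (4 : F) ≠ 0 := by
    have : (4 : F) = 2 * 2 := by norm_num
    rw [this]; exact mul_ne_zero h2 h2
  exact mul_left_cancel₀ h9 h7

variable {G : Type*} [Group G] {e : SL2 F →* G}

/-- the automorphism of `SL(2,F)` induced by an element normalising the image of `e` -/
theorem exists_mulAut [Finite F] (he : Function.Injective e) {c : G} (h : ∀ x, ∃ y, c * e x = e y * c) :
    ∃ α : MulAut (SL2 F), ∀ x, c * e x = e (α x) * c := by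
  choose f hf using h
  have h1 : ∀ x y, f (x * y) = f x * f y := by
    intro x y
    apply he
    have h2 := hf (x * y)
    rw [map_mul, ← mul_assoc, hf x, mul_assoc, hf y, ← mul_assoc, ← map_mul] at h2
    exact (mul_right_cancel h2).symm
  let g : SL2 F →* SL2 F := MonoidHom.mk' f h1
  have hinj : Function.Injective g := by
    intro x y hxy
    have h3 : f x = f y := hxy
    have h4 := hf x
    rw [h3, ← hf y] at h4
    exact he (mul_left_cancel h4)
  exact ⟨MulEquiv.ofBijective g (Finite.injective_iff_bijective.1 hinj), hf⟩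

/-- an element normalising the image of `SL(2,F)` and centralising the elements commuting with `D` acts as
conjugation by a matrix -/
theorem Acts.exists_of_fix [Finite F] (h2 : (2 : F) ≠ 0) (he : Function.Injective e) {D : M2 F} (hD : D.det ≠ 0)
    (ht : D.trace = 0) {c : G} (hn : ∀ x, ∃ y, c * e x = e y * c)
    (hc : ∀ x : SL2 F, (x : M2 F) * D = D * x → c * e x = e x * c) : ∃ A : M2 F, Acts e c A := by
  obtain ⟨α, hα⟩ := exists_mulAut he hn
  obtain ⟨g, σ, hg⟩ := Cfsg.Agent.Lib.AutSL2Out.exists_eq α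
  have hfix : ∀ x : SL2 F, (x : M2 F) * D = D * x → α x = x := by
    intro x hx
    apply he
    have h3 := hc x hx
    rw [hα x] at h3
    exact mul_right_cancel h3
  -- the value of `α`
  have hval : ∀ x : SL2 F, ((α x : SL2 F) : M2 F) * g.1 = g.1 * (σ.toRingHom.mapMatrix (x : M2 F)) := by
    intro x
    rw [hg]
    change (g.1 * (σ.toRingHom.mapMatrix x.1) * g⁻¹.1) * g.1 = _
    rw [Matrix.mul_assoc, Matrix.mul_assoc]
    have h4 : g⁻¹.1 * g.1 = (1 : M2 F) := by
      have h5 : (g⁻¹ * g) = 1 := inv_mul_cancel g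
      have h6 := congrArg (fun z : GL (Fin 2) F => z.1) h5
      exact h6
    rw [h4, Matrix.mul_one]
  have hσ : ∀ x : F, σ x = x := by
    apply ringEquiv_eq_refl h2 (δ := -D.det) (neg_ne_zero.2 hD)
    intro u hu
    have hd0 : u * u + D.det ≠ 0 := by
      intro h
      apply hu
      linear_combination h
    -- the element
    have hdet : ((u * u + D.det)⁻¹ • ((u * u - D.det) • (1 : M2 F) + (2 * u) • D)).det = 1 := by
      rw [det_smul2, cent_det ht]
      have e1 : (u * u - D.det) * (u * u - D.det) + D.det * (2 * u * (2 * u)) =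
          (u * u + D.det) * (u * u + D.det) := by ring
      rw [e1, mul_mul_mul_comm, inv_mul_cancel₀ hd0, one_mul]
    let x : SL2 F := ⟨(u * u + D.det)⁻¹ • ((u * u - D.det) • (1 : M2 F) + (2 * u) • D), hdet⟩
    have hx : (x : M2 F) * D = D * x := by
      change ((u * u + D.det)⁻¹ • ((u * u - D.det) • (1 : M2 F) + (2 * u) • D)) * D = D * ((u * u + D.det)⁻¹ • ((u * u - D.det) • (1 : M2 F) + (2 * u) • D))
      simp only [Matrix.smul_mul, Matrix.mul_smul, add_mul, mul_add, one_mul, mul_one]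
    have h3 := hval x
    rw [hfix x hx] at h3
    have htr : (x : M2 F).trace = 2 * ((u * u - D.det) / (u * u + D.det)) := by
      change ((u * u + D.det)⁻¹ • ((u * u - D.det) • (1 : M2 F) + (2 * u) • D)).trace = _
      rw [Matrix.trace_smul, cent_trace ht, smul_eq_mul]
      field_simp
    -- traces
    have hginv : g.1 * g⁻¹.1 = (1 : M2 F) := by
      have h5 : (g * g⁻¹) = 1 := mul_inv_cancel g
      have h6 := congrArg (fun z : GL (Fin 2) F => z.1) h5
      exact h6
    have h4 : (x : M2 F) = g.1 * (σ.toRingHom.mapMatrix (x : M2 F)) * g⁻¹.1 := by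
      rw [← h3, Matrix.mul_assoc, hginv, Matrix.mul_one]
    have hginv' : g⁻¹.1 * g.1 = (1 : M2 F) := by
      have h5 : (g⁻¹ * g) = 1 := inv_mul_cancel g
      have h6 := congrArg (fun z : GL (Fin 2) F => z.1) h5
      exact h6
    have h5 : (x : M2 F).trace = (σ.toRingHom.mapMatrix (x : M2 F)).trace := by
      conv_lhs => rw [h4]
      rw [Matrix.trace_mul_comm, ← Matrix.mul_assoc, hginv', Matrix.one_mul]
    have h6 : (σ.toRingHom.mapMatrix (x : M2 F)).trace = σ (x : M2 F).trace := by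
      rw [Matrix.trace_fin_two, Matrix.trace_fin_two, map_add]
      rfl
    rw [h6, htr, map_mul, map_ofNat] at h5
    have h7 := mul_left_cancel₀ h2 h5
    have e1 : u * u + -D.det = u * u - D.det := by ring
    have e2 : u * u - -D.det = u * u + D.det := by ring
    rw [e1, e2]
    exact h7.symm
  have hmap : ∀ x : SL2 F, σ.toRingHom.mapMatrix (x : M2 F) = (x : M2 F) := by
    intro x
    ext i j
    exact hσ _
  refine ⟨g.1, ?_, ?_⟩
  · intro h0
    have h5 : (g * g⁻¹) = 1 := mul_inv_cancel g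
    have h6 : g.1 * g⁻¹.1 = (1 : M2 F) := congrArg (fun z : GL (Fin 2) F => z.1) h5
    have h7 := congrArg Matrix.det h6
    rw [Matrix.det_mul, h0, zero_mul, Matrix.det_one] at h7
    exact zero_ne_one h7
  · intro x y hxy
    have h3 := hval x
    rw [hmap, ← hxy] at h3
    have hg0 : g.1.det ≠ 0 := by
      intro h0
      have h5 : (g * g⁻¹) = 1 := mul_inv_cancel g
      have h6 : g.1 * g⁻¹.1 = (1 : M2 F) := congrArg (fun z : GL (Fin 2) F => z.1) h5
      have h7 := congrArg Matrix.det h6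
      rw [Matrix.det_mul, h0, zero_mul, Matrix.det_one] at h7
      exact zero_ne_one h7
    have h8 : α x = y := Subtype.ext (cancel_right hg0 h3)
    rw [hα x, h8]

end field

namespace LocalSL

variable {G : Type*} [Group G] {t : G} {F1 F2 : Type*} [Field F1] [Field F2] {L : LocalSL t F1 F2}

/-- an element of `C(t)` which centralises a torus of `L1` and a torus of `L2` acts as matrices -/
theorem Hyp.rep_of_fix [Finite F1] [Finite F2] (H : L.Hyp) {D1 : M2 F1} {D2 : M2 F2} (hD1 : D1.det ≠ 0)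
    (ht1 : D1.trace = 0) (hD2 : D2.det ≠ 0) (ht2 : D2.trace = 0) {c : G} (hct : c * t = t * c)
    (h1 : ∀ x : SL2 F1, (x : M2 F1) * D1 = D1 * x → c * L.e1 x = L.e1 x * c)
    (h2 : ∀ y : SL2 F2, (y : M2 F2) * D2 = D2 * y → c * L.e2 y = L.e2 y * c) : ∃ A B, L.Rep c A B := by
  obtain ⟨A, hA⟩ := Acts.exists_of_fix H.two_ne1 L.inj1 hD1 ht1 (H.norm1 c hct) h1
  obtain ⟨B, hB⟩ := Acts.exists_of_fix H.two_ne2 L.inj2 hD2 ht2 (H.norm2 c hct) h2
  exact ⟨A, B, hct, hA, hB⟩

/-- `d` an involution `≠ t` of `C(t)`, `I` a subgroup of `C(t)` normalised by `C(t) ∩ C(d)` which has no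
nontrivial element acting as matrices: `I = 1` -/
theorem Hyp.eq_bot_of_normal [Finite F1] [Finite F2] (H : L.Hyp) {d : G} {D1 : M2 F1} {D2 : M2 F2}
    (hd : L.Rep d D1 D2) (ht1 : D1.trace = 0) (ht2 : D2.trace = 0) {I : Subgroup G} (hIt : ∀ i ∈ I, i * t = t * i)
    (hn : ∀ c, c * t = t * c → c * d = d * c → ∀ i ∈ I, c * i * c⁻¹ ∈ I)
    (h0 : ∀ i ∈ I, i ∈ L.zero → i = 1) : I = ⊥ := by
  rw [Subgroup.eq_bot_iff_forall]
  intro i hi
  apply h0 i hi
  -- commutators with elements of `L1`, `L2` commuting with `d`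
  have key : ∀ c, c * t = t * c → c * d = d * c → c ∈ L.zero → (∃ y ∈ L.zero, i * c = y * i) → i * c = c * i := by
    rintro c hct hcd hc0 ⟨y, hy0, hy⟩
    have h3 : c * i * c⁻¹ * i⁻¹ ∈ I := mul_mem (hn c hct hcd i hi) (inv_mem hi)
    have h4 : c * i * c⁻¹ * i⁻¹ = c * y⁻¹ := by
      have : c⁻¹ * i⁻¹ = i⁻¹ * y⁻¹ := by
        rw [← _root_.mul_inv_rev, hy, _root_.mul_inv_rev]
      calc c * i * c⁻¹ * i⁻¹ = c * i * (c⁻¹ * i⁻¹) := by group
        _ = c * i * (i⁻¹ * y⁻¹) := by rw [this]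
        _ = c * y⁻¹ := by group
    have h5 : c * i * c⁻¹ * i⁻¹ ∈ L.zero := by rw [h4]; exact mul_mem hc0 (inv_mem hy0)
    have h6 := h0 _ h3 h5
    have h7 : c * i = i * c := by
      rw [mul_inv_eq_one] at h6
      rw [mul_inv_eq_iff_eq_mul] at h6
      exact h6
    exact h7.symm
  have hit := hIt i hi
  apply H.rep_of_fix (D1 := D1) (D2 := D2) hd.det1 ht1 hd.det2 ht2 hit
  · intro x hx
    obtain ⟨y, hy⟩ := H.norm1 i hit x
    exact key (L.e1 x) (e1_t x) (hd.acts1.2 x x hx).symm ⟨_, _, Rep.e1 L x⟩ ⟨L.e1 y, ⟨_, _, Rep.e1 L y⟩, hy⟩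
  · intro x hx
    obtain ⟨y, hy⟩ := H.norm2 i hit x
    exact key (L.e2 x) (e2_t x) (hd.acts2.2 x x hx).symm ⟨_, _, Rep.e2 L x⟩ ⟨L.e2 y, ⟨_, _, Rep.e2 L y⟩, hy⟩

end LocalSL

end Cfsg.Agent.GTwoOdd
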