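import Cfsg.Agent.GTwoOdd.Core.OddTwo
import Cfsg.Agent.GTwoOdd.Torus

/-!
# Subgroups of odd order of `C(v) / O(C(v))`

`X` a finite group with a central involution `t` and `L : LocalSL t F1 F2`, `H : L.Hyp`.

* `Hyp.comm_sq_of_inv`: a subgroup of odd order normalised by `a` and `w`, where `s = a²` is an
  involution `≠ t` and `w` inverts `a`, is centralised by `s`;
* `Hyp.exists_coord1`, `Hyp.exists_coord2`: an `r`-group normalised by `v`, `w` (anticommuting in both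
  coordinates) has in each coordinate a centralising element in `{v, w, wv}`;
* `Hyp.exists_trivial`: for one `u` of `{v, w, wv}` the part in `C0` of the centraliser of `u` is trivial.
-/

set_option autoImplicit false

namespace Cfsg.Agent.GTwoOdd

open Matrix

/-- a matrix commuting with two anticommuting matrices is scalar -/
theorem scalar_of_comm_anti {F : Type*} [Field F] (h2 : (2 : F) ≠ 0) {D n A : M2 F} (hD : D.det ≠ 0) (hn : n.det ≠ 0)
    (hnD : n * D = -(D * n)) (h1 : A * D = D * A) (h3 : A * n = n * A) : ∃ a : F, A = a • (1 : M2 F) := by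
  have htD : D.trace = 0 := trace_of_anti h2 hn (by rw [hnD, neg_neg])
  obtain ⟨a, b, rfl⟩ := cent_form h2 hD htD h1
  refine ⟨a, ?_⟩
  have h4 : b • (D * n) = b • (n * D) := by
    rw [add_mul, mul_add, Matrix.smul_mul, Matrix.smul_mul, Matrix.mul_smul, Matrix.mul_smul, one_mul, mul_one] at h3
    exact add_left_cancel h3
  rw [hnD, smul_neg] at h4
  have h5 : (2 * b) • (D * n) = 0 := by
    rw [two_mul, add_smul]
    nth_rewrite 1 [h4]
    exact neg_add_cancel _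
  rcases smul_eq_zero.1 h5 with h6 | h6
  · rcases mul_eq_zero.1 h6 with h7 | h7
    · exact absurd h7 h2
    · rw [h7, zero_smul, add_zero]
  · exfalso
    have := congrArg Matrix.det h6
    rw [Matrix.det_mul] at this
    simp [hD, hn] at this

namespace LocalSL

variable {X : Type*} [Group X] {t : X} {F1 F2 : Type*} [Field F1] [Field F2] [Finite F1] [Finite F2]
  {L : LocalSL t F1 F2}

set_option linter.unusedSectionVars false

/-- `c` of odd order which acts trivially on `L1` and on `L2` is `1` -/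
theorem eq_one_of_triv {c : X} (hc : c * t = t * c) (h1 : Triv L.e1 c) (h2 : Triv L.e2 c) {m : ℕ} (hm : Odd m)
    (h : c ^ m = 1) : c = 1 := by
  rcases L.cent c hc h1 h2 with h3 | h3
  · exact h3
  · obtain ⟨k, rfl⟩ := hm
    rw [pow_succ, pow_mul, pow_two, h3, L.t_sq, one_pow, one_mul] at h
    rw [h3, h]

/-- `2`-elements lie in `C0` -/
theorem Hyp.rep_of_two_pow (H : L.Hyp) {c : X} (hc : c * t = t * c) {k : ℕ} (h : c ^ (2 ^ k) = 1) :
    ∃ A B, L.Rep c A B := by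
  induction k generalizing c with
  | zero =>
    rw [pow_zero, pow_one] at h
    rw [h]
    exact ⟨1, 1, Rep.one L⟩
  | succ k ih =>
    apply H.sq_mem c hc
    apply ih
    · exact ((show Commute c t from hc).mul_left hc)
    · rw [← pow_two, ← pow_mul, ← pow_succ']
      exact h

/-- the axis in the first coordinate of an `r`-group in `C0` -/
theorem Hyp.axis1 (H : L.Hyp) {r : ℕ} (hr : r.Prime) (hr2 : r ≠ 2) (R : Subgroup X) [Finite R] (hR : IsPGroup r R)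
    (hA : ∀ c ∈ R, ∃ A B, L.Rep c A B) :
    (∀ c ∈ R, Triv L.e1 c) ∨ ∃ z : M2 F1, z ≠ 0 ∧ z.trace = 0 ∧
      (∀ c ∈ R, ∀ A, Acts L.e1 c A → ∃ a b : F1, A = a • (1 : M2 F1) + b • z) ∧
      ∀ (h : X) (H : M2 F1), (∀ c ∈ R, h * c * h⁻¹ ∈ R) → Acts L.e1 h H → ∃ c : F1, H * z = c • (z * H) := by
  by_cases h : ∀ c ∈ R, Triv L.e1 c
  · exact Or.inl h
  · push Not at h
    obtain ⟨c, hc, hc'⟩ := h
    exact Or.inr (exists_axis H.two_ne1 L.inj1 hr hr2 R hR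
      (fun c hc => (hA c hc).imp fun A ⟨B, h⟩ => h.acts1) ⟨c, hc, hc'⟩)

/-- the axis in the second coordinate of an `r`-group in `C0` -/
theorem Hyp.axis2 (H : L.Hyp) {r : ℕ} (hr : r.Prime) (hr2 : r ≠ 2) (R : Subgroup X) [Finite R] (hR : IsPGroup r R)
    (hA : ∀ c ∈ R, ∃ A B, L.Rep c A B) :
    (∀ c ∈ R, Triv L.e2 c) ∨ ∃ z : M2 F2, z ≠ 0 ∧ z.trace = 0 ∧
      (∀ c ∈ R, ∀ A, Acts L.e2 c A → ∃ a b : F2, A = a • (1 : M2 F2) + b • z) ∧
      ∀ (h : X) (H : M2 F2), (∀ c ∈ R, h * c * h⁻¹ ∈ R) → Acts L.e2 h H → ∃ c : F2, H * z = c • (z * H) := by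
  by_cases h : ∀ c ∈ R, Triv L.e2 c
  · exact Or.inl h
  · push Not at h
    obtain ⟨c, hc, hc'⟩ := h
    exact Or.inr (exists_axis H.two_ne2 L.inj2 hr hr2 R hR
      (fun c hc => let ⟨A, B, h⟩ := hA c hc; ⟨B, h.acts2⟩) ⟨c, hc, hc'⟩)

/-- anticommuting data of two elements of `C0` -/
structure Anti (L : LocalSL t F1 F2) (v w : X) (D1 : M2 F1) (D2 : M2 F2) (n1 : M2 F1) (n2 : M2 F2) : Prop where
  rep : L.Rep v D1 D2
  repw : L.Rep w n1 n2
  anti1 : n1 * D1 = -(D1 * n1)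
  anti2 : n2 * D2 = -(D2 * n2)

/-- one coordinate of an `r`-group normalised by a four-group -/
theorem coord_of_axis {F : Type*} [Field F] (h2 : (2 : F) ≠ 0) {e : SL2 F →* X} {R : Subgroup X} {v w : X} {D n z : M2 F}
    (hv : ∀ c ∈ R, v * c * v⁻¹ ∈ R) (hw : ∀ c ∈ R, w * c * w⁻¹ ∈ R) (hD : Acts e v D) (hn : Acts e w n)
    (hnD : n * D = -(D * n)) (hz : z ≠ 0)
    (h1 : ∀ c ∈ R, ∀ A, Acts e c A → ∃ a b : F, A = a • (1 : M2 F) + b • z)
    (h3 : ∀ (h : X) (H : M2 F), (∀ c ∈ R, h * c * h⁻¹ ∈ R) → Acts e h H → ∃ c : F, H * z = c • (z * H)) :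
    (∀ c ∈ R, ∀ A, Acts e c A → A * D = D * A) ∨ (∀ c ∈ R, ∀ A, Acts e c A → A * n = n * A) ∨
      (∀ c ∈ R, ∀ A, Acts e c A → A * (n * D) = (n * D) * A) := by
  obtain ⟨a, ha⟩ := h3 v D hv hD
  obtain ⟨b, hb⟩ := h3 w n hw hn
  rcases comm_of_four h2 hD.1 hn.1 hnD hz ha hb with h | h | h
  · left
    intro c hc A hA
    obtain ⟨x, y, hxy⟩ := h1 c hc A hA
    exact comm_of_axis hxy h
  · right; left
    intro c hc A hA
    obtain ⟨x, y, hxy⟩ := h1 c hc A hA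
    exact comm_of_axis hxy h
  · right; right
    intro c hc A hA
    obtain ⟨x, y, hxy⟩ := h1 c hc A hA
    exact comm_of_axis hxy h

/-- if `c` (matrix `A`) commutes with `u` (matrix `U`) in the group, then `A` and `U` commute, `U` of order two,
`A` of odd order -/
theorem comm_of_comm {F : Type*} [Field F] (h2 : (2 : F) ≠ 0) {e : SL2 F →* X} (he : Function.Injective e) {c u : X}
    {A U : M2 F} (hA : Acts e c A) (hU : Acts e u U) (h : c * u = u * c) {m : ℕ} (hm : Odd m) (hc : c ^ m = 1) :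
    A * U = U * A := by
  have h1 := hA.mul hU
  have h3 := hU.mul hA
  rw [h] at h1
  obtain ⟨k, hk, hk'⟩ := h3.proportional he h1
  have hdet : k * k = 1 := by
    have := congrArg Matrix.det hk'
    rw [Matrix.det_mul, det_smul2, Matrix.det_mul] at this
    have h8 : A.det * U.det * (k * k - 1) = 0 := by linear_combination -this
    rcases mul_eq_zero.1 h8 with h9 | h9
    · exact absurd h9 (mul_ne_zero hA.1 hU.1)
    · linear_combination h9
  rcases mul_self_eq_one_iff.1 hdet with rfl | rfl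
  · rw [hk', one_smul]
  · exfalso
    rw [neg_one_smul] at hk'
    have htr : A.trace = 0 := trace_of_anti h2 hU.1 hk'
    have h9 := hA.mul hA
    rw [m2_sq_of_trace htr] at h9
    have ht : Triv e (c * c) := (h9.triv_iff he).2 ⟨_, rfl⟩
    obtain ⟨j, rfl⟩ := hm
    have h4 : ∀ m : ℕ, Triv e ((c * c) ^ m) := by
      intro m
      induction m with
      | zero => rw [pow_zero]; exact Triv.one
      | succ m ih => rw [pow_succ]; exact ih.mul ht
    have h5 : c = ((c * c) ^ j)⁻¹ := by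
      rw [eq_inv_iff_mul_eq_one]
      rw [← hc, ← pow_two, ← pow_mul]
      rw [pow_succ']
    have h6 : Triv e c := by
      rw [h5]; exact (h4 j).inv
    obtain ⟨a, ha⟩ := (hA.triv_iff he).1 h6
    have h7 : U ≠ 0 := by
      rintro rfl
      exact hU.1 (by simp)
    rw [ha, Matrix.smul_mul, Matrix.mul_smul, one_mul, mul_one] at hk'
    have h8 : (2 * a) • U = 0 := by
      rw [two_mul, add_smul]
      nth_rewrite 1 [hk']
      exact neg_add_cancel _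
    rcases smul_eq_zero.1 h8 with h9 | h9
    · rcases mul_eq_zero.1 h9 with h10 | h10
      · exact h2 h10
      · apply hA.1
        rw [ha, h10]
        simp
    · exact h7 h9

/-- the coordinate statement for one factor -/
theorem coord_triv {F : Type*} [Field F] (h2 : (2 : F) ≠ 0) {e : SL2 F →* X} (he : Function.Injective e) {r : ℕ}
    (hr : r.Prime) (hr2 : r ≠ 2) {R : Subgroup X} [Finite R] (hR : IsPGroup r R)
    (hRA : ∀ c ∈ R, ∃ A, Acts e c A) {v w : X} {D n : M2 F}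
    (hv : ∀ c ∈ R, v * c * v⁻¹ ∈ R) (hw : ∀ c ∈ R, w * c * w⁻¹ ∈ R) (hD : Acts e v D) (hn : Acts e w n)
    (hnD : n * D = -(D * n)) :
    ∃ u ∈ ({v, w, w * v} : Set X), ∀ u' ∈ ({v, w, w * v} : Set X), u' ≠ u → ∀ c ∈ R, c * u' = u' * c → Triv e c := by
  by_cases hnt : ∀ c ∈ R, Triv e c
  · exact ⟨v, by simp, fun _ _ _ c hc _ => hnt c hc⟩
  push Not at hnt
  obtain ⟨z, hz, hzt, h1, h3⟩ := exists_axis h2 he hr hr2 R hR hRA hnt
  have hnd : Acts e (w * v) (n * D) := hn.mul hD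
  have hndD : (n * D) * D = -(D * (n * D)) := by
    rw [hnD, neg_mul, mul_assoc D n D, hnD]
  have hndn : n * (n * D) = -((n * D) * n) := by
    rw [mul_assoc n D n, ← neg_eq_iff_eq_neg.2 hnD]
    simp
  have hodd : ∀ c ∈ R, ∃ m, Odd m ∧ c ^ m = 1 := by
    intro c hc
    obtain ⟨k, hk⟩ := hR ⟨c, hc⟩
    exact ⟨r ^ k, (hr.odd_of_ne_two hr2).pow, by have h9 := congrArg Subtype.val hk; simpa using h9⟩
  have key : ∀ {u u' : X} {U U' : M2 F}, Acts e u' U' → U.det ≠ 0 → U' * U = -(U * U') →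
      (∀ c ∈ R, ∀ A, Acts e c A → A * U = U * A) → ∀ c ∈ R, c * u' = u' * c → Triv e c := by
    intro u u' U U' hU' hU hUU hcU c hc hcu
    obtain ⟨A, hA⟩ := hRA c hc
    obtain ⟨m, hm, hcm⟩ := hodd c hc
    have h4 := comm_of_comm h2 he hA hU' hcu hm hcm
    obtain ⟨a, ha⟩ := scalar_of_comm_anti h2 hU hU'.1 hUU (hcU c hc A hA) h4
    exact (hA.triv_iff he).2 ⟨a, ha⟩
  rcases coord_of_axis h2 hv hw hD hn hnD hz h1 h3 with h | h | h
  · refine ⟨v, by simp, ?_⟩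
    rintro u' (rfl | rfl | rfl) hne
    · exact absurd rfl hne
    · exact key (u := v) hn hD.1 hnD h
    · exact key (u := v) hnd hD.1 hndD h
  · refine ⟨w, by simp, ?_⟩
    rintro u' (rfl | rfl | rfl) hne
    · exact key (u := w) hD hn.1 (by rw [hnD, neg_neg]) h
    · exact absurd rfl hne
    · exact key (u := w) hnd hn.1 (by rw [hndn, neg_neg]) h
  · refine ⟨w * v, by simp, ?_⟩
    rintro u' (rfl | rfl | rfl) hne
    · exact key (u := w * u') hD hnd.1 (by rw [hndD, neg_neg]) h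
    · exact key (u := u' * v) hn hnd.1 hndn h
    · exact absurd rfl hne

/-- **[A3], coordinate 1** -/
theorem Hyp.coord1 (H : L.Hyp) {r : ℕ} (hr : r.Prime) (hr2 : r ≠ 2) {R : Subgroup X} [Finite R] (hR : IsPGroup r R)
    (hRA : ∀ c ∈ R, ∃ A B, L.Rep c A B) {v w : X} {D1 n1 : M2 F1} {D2 n2 : M2 F2} (h : L.Anti v w D1 D2 n1 n2)
    (hv : ∀ c ∈ R, v * c * v⁻¹ ∈ R) (hw : ∀ c ∈ R, w * c * w⁻¹ ∈ R) :
    ∃ u ∈ ({v, w, w * v} : Set X), ∀ u' ∈ ({v, w, w * v} : Set X), u' ≠ u → ∀ c ∈ R, c * u' = u' * c → Triv L.e1 c :=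
  coord_triv H.two_ne1 L.inj1 hr hr2 hR (fun c hc => let ⟨A, _, h⟩ := hRA c hc; ⟨A, h.acts1⟩) hv hw h.rep.acts1
    h.repw.acts1 h.anti1

/-- **[A3], coordinate 2** -/
theorem Hyp.coord2 (H : L.Hyp) {r : ℕ} (hr : r.Prime) (hr2 : r ≠ 2) {R : Subgroup X} [Finite R] (hR : IsPGroup r R)
    (hRA : ∀ c ∈ R, ∃ A B, L.Rep c A B) {v w : X} {D1 n1 : M2 F1} {D2 n2 : M2 F2} (h : L.Anti v w D1 D2 n1 n2)
    (hv : ∀ c ∈ R, v * c * v⁻¹ ∈ R) (hw : ∀ c ∈ R, w * c * w⁻¹ ∈ R) :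
    ∃ u ∈ ({v, w, w * v} : Set X), ∀ u' ∈ ({v, w, w * v} : Set X), u' ≠ u → ∀ c ∈ R, c * u' = u' * c → Triv L.e2 c :=
  coord_triv H.two_ne2 L.inj2 hr hr2 hR (fun c hc => let ⟨_, B, h⟩ := hRA c hc; ⟨B, h.acts2⟩) hv hw h.rep.acts2
    h.repw.acts2 h.anti2

/-- the elements of `C0` (those which have a `Rep`) -/
def zeroG (L : LocalSL t F1 F2) : Subgroup X where
  carrier := {c | ∃ A B, L.Rep c A B}
  mul_mem' := fun ⟨_, _, h⟩ ⟨_, _, h'⟩ => ⟨_, _, h.mul h'⟩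
  one_mem' := ⟨1, 1, Rep.one L⟩
  inv_mem' := fun ⟨_, _, h⟩ => ⟨_, _, h.inv⟩

theorem mem_zeroG {c : X} : c ∈ zeroG L ↔ ∃ A B, L.Rep c A B := Iff.rfl

/-- `[C(t), C(t)] ≤ C0` -/
theorem Hyp.mem_zeroG_comm (H : L.Hyp) {c d : X} (hc : c * t = t * c) (hd : d * t = t * d) :
    c * d * c⁻¹ * d⁻¹ ∈ zeroG L := by
  obtain ⟨x, y, h⟩ := H.comm_mem c d hc hd
  have h1 : c * d * c⁻¹ * d⁻¹ = L.e1 x * L.e2 y := by
    rw [h]; group
  rw [h1]
  exact ⟨_, _, Rep.e12 L x y⟩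

theorem Hyp.conj_mem_zeroG (H : L.Hyp) {c d : X} (hc : c * t = t * c) (hd : d ∈ zeroG L) : c * d * c⁻¹ ∈ zeroG L := by
  obtain ⟨A, B, h⟩ := hd
  have h1 : c * d * c⁻¹ = (c * d * c⁻¹ * d⁻¹) * d := by group
  rw [h1]
  exact (zeroG L).mul_mem (H.mem_zeroG_comm hc h.comm) ⟨A, B, h⟩

/-- **[A5]** an `r`-group normalised by `v` and `w` (anticommuting in both coordinates): for one `u` of `{v, w, wv}` the
only element of its `C0`-part which commutes with `u` is `1` -/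
theorem Hyp.exists_trivial (H : L.Hyp) (hX : ∀ c : X, c * t = t * c) {r : ℕ} (hr : r.Prime) (hr2 : r ≠ 2) {R : Subgroup X}
    [Finite R] (hR : IsPGroup r R) {v w : X} {D1 n1 : M2 F1} {D2 n2 : M2 F2} (h : L.Anti v w D1 D2 n1 n2)
    (hvw : v ≠ w) (hv1 : v ≠ 1) (hw1 : w ≠ 1)
    (hv : ∀ c ∈ R, v * c * v⁻¹ ∈ R) (hw : ∀ c ∈ R, w * c * w⁻¹ ∈ R) :
    ∃ u ∈ ({v, w, w * v} : Set X), ∀ c ∈ R, c ∈ zeroG L → c * u = u * c → c = 1 := by
  have hfin : Finite (R ⊓ zeroG L : Subgroup X) := Finite.of_injective _ (Subgroup.inclusion_injective (inf_le_left : R ⊓ zeroG L ≤ R))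
  have hR' : IsPGroup r (R ⊓ zeroG L : Subgroup X) := hR.to_le inf_le_left
  have hv' : ∀ c ∈ (R ⊓ zeroG L : Subgroup X), v * c * v⁻¹ ∈ (R ⊓ zeroG L : Subgroup X) := fun c hc =>
    ⟨hv c hc.1, H.conj_mem_zeroG (hX v) hc.2⟩
  have hw' : ∀ c ∈ (R ⊓ zeroG L : Subgroup X), w * c * w⁻¹ ∈ (R ⊓ zeroG L : Subgroup X) := fun c hc =>
    ⟨hw c hc.1, H.conj_mem_zeroG (hX w) hc.2⟩
  obtain ⟨u1, hu1, k1⟩ := H.coord1 hr hr2 hR' (fun c hc => hc.2) h hv' hw'
  obtain ⟨u2, hu2, k2⟩ := H.coord2 hr hr2 hR' (fun c hc => hc.2) h hv' hw'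
  have hex : ∃ u ∈ ({v, w, w * v} : Set X), u ≠ u1 ∧ u ≠ u2 := by
    have h3 : w * v ≠ v := by simpa using hw1
    have h4 : w * v ≠ w := by simpa using hv1
    rcases hu1 with rfl | rfl | rfl <;> rcases hu2 with rfl | rfl | rfl
    · exact ⟨w, by simp, hvw.symm, hvw.symm⟩
    · exact ⟨u2 * u1, by simp, h3, h4⟩
    · exact ⟨w, by simp, hvw.symm, h4.symm⟩
    · exact ⟨u1 * u2, by simp, h4, h3⟩
    · exact ⟨v, by simp, hvw, hvw⟩
    · exact ⟨v, by simp, hvw, h3.symm⟩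
    · exact ⟨w, by simp, h4.symm, hvw.symm⟩
    · exact ⟨v, by simp, h3.symm, hvw⟩
    · exact ⟨v, by simp, h3.symm, h3.symm⟩
  obtain ⟨u, hu, hne1, hne2⟩ := hex
  refine ⟨u, hu, fun c hc hcz hcu => ?_⟩
  obtain ⟨k, hk⟩ := hR ⟨c, hc⟩
  exact eq_one_of_triv (hX c) (k1 u hu hne1 c ⟨hc, hcz⟩ hcu) (k2 u hu hne2 c ⟨hc, hcz⟩ hcu)
    ((hr.odd_of_ne_two hr2).pow (n := k)) (by have h9 := congrArg Subtype.val hk; simpa using h9)

end LocalSL

end Cfsg.Agent.GTwoOdd
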