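import Cfsg.Agent.GTwoOdd.Core.AutTorus
import Cfsg.Agent.GTwoOdd.Core.OddX
import Cfsg.Agent.Lib.PGroupCoprimeAction

/-!
# Local algebra of outer balance

`core`: an abstract group of odd order `W` acted on by a four-group `⟨a, a₀⟩`, an element `y` centralised by `a` and
inverted by `a₀`, an element `y'` centralised by `a a₀` and inverted by `a₀`: impossible if for every invariant
`r`-subgroup all but one of the involutions of `⟨a, a₀⟩` have centraliser in a normal subgroup `C` not containing `y`, `y'`.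

`Hyp.outer_balance`: `a` an outer involution, `a₀` an inner involution.
-/

set_option autoImplicit false

namespace Cfsg.Agent.GTwoOdd

open Matrix

namespace Balance

open Subgroup Cfsg.Agent.Lib.PGroupCoprimeAction

variable {G : Type*} [Group G]

/-- the powers of an element are stable under `v` if `v` centralises or inverts it -/
theorem conj_mem_zpowers {v y : G} (h : v * y * v⁻¹ = y ∨ v * y * v⁻¹ = y⁻¹) {u : G} (hu : u ∈ zpowers y) :
    v * u * v⁻¹ ∈ zpowers y := by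
  obtain ⟨n, rfl⟩ := hu
  have h1 : v * y ^ n * v⁻¹ = (v * y * v⁻¹) ^ n := (conj_zpow).symm
  change v * y ^ n * v⁻¹ ∈ _
  rw [h1]
  rcases h with h | h <;> rw [h]
  · exact zpow_mem (mem_zpowers y) n
  · exact zpow_mem (inv_mem (mem_zpowers y)) n

theorem mem_of_sq {C : Subgroup G} {y : G} {n : ℕ} (hn : Odd n) (hy : y ^ n = 1) (h : y⁻¹ * y⁻¹ ∈ C) : y ∈ C := by
  obtain ⟨k, hk⟩ := hn
  have h1 : y = (y⁻¹ * y⁻¹) ^ k * (y ^ n) := by
    have h2 : (y⁻¹ * y⁻¹) ^ k = (y ^ (2 * k))⁻¹ := by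
      rw [← pow_two, ← pow_mul, inv_pow]
    rw [h2, hk, pow_succ]
    group
  rw [h1, hy, mul_one]
  exact pow_mem h k

theorem core [Finite G] {W : Subgroup G} {a a₀ y y' : G} {C Z : Subgroup G} [C.Normal] [Z.Normal] (ha : a * a = 1)
    (ha₀ : a₀ * a₀ = 1) (comm : a * a₀ = a₀ * a) (hW : Odd (Nat.card W)) (na : ∀ w ∈ W, a * w * a⁻¹ ∈ W)
    (na₀ : ∀ w ∈ W, a₀ * w * a₀⁻¹ ∈ W) {r : ℕ} [Fact r.Prime] (hyW : y ∈ W) (hy'W : y' ∈ W) (hr : orderOf y = r)
    (hr' : orderOf y' = r) (hyC : y ∉ C) (hy'C : y' ∉ C) (hyZ : y ∈ Z) (hy'Z : y' ∈ Z) (hay : a * y * a⁻¹ = y)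
    (ha₀y : a₀ * y * a₀⁻¹ = y⁻¹) (hby' : a * a₀ * y' * (a * a₀)⁻¹ = y') (ha₀y' : a₀ * y' * a₀⁻¹ = y'⁻¹)
    (hA : ∀ R : Subgroup G, R ≤ W → R ≤ Z → IsPGroup r R → (∀ u ∈ R, a * u * a⁻¹ ∈ R) →
      (∀ u ∈ R, a₀ * u * a₀⁻¹ ∈ R) →
      ∃ v, ∀ v', (v' = a ∨ v' = a₀ * a) → v' ≠ v → ∀ u ∈ R, u * v' = v' * u → u ∈ C) : False := by
  classical
  have hrodd : Odd r := by
    have h1 : r ∣ Nat.card W := by
      have := Subgroup.orderOf_dvd_natCard W hyW
      rwa [hr] at this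
    exact Odd.of_dvd_nat hW h1
  -- the four-group
  let A : Subgroup G :=
    { carrier := {v | v = 1 ∨ v = a ∨ v = a₀ ∨ v = a * a₀}
      one_mem' := Or.inl rfl
      mul_mem' := by
        have e1 : a * (a * a₀) = a₀ := by rw [← mul_assoc, ha, one_mul]
        have e2 : a₀ * (a * a₀) = a := by rw [comm, ← mul_assoc, ha₀, one_mul]
        have e3 : a * a₀ * a = a₀ := by rw [comm, mul_assoc, ha, mul_one]
        have e4 : a * a₀ * a₀ = a := by rw [mul_assoc, ha₀, mul_one]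
        have e5 : a * a₀ * (a * a₀) = 1 := by rw [mul_assoc, e2, ha]
        rintro u v (rfl | rfl | rfl | rfl) (rfl | rfl | rfl | rfl) <;>
          simp [ha, ha₀, comm.symm, e1, e2, e3, e4, e5]
      inv_mem' := by
        have i1 : a⁻¹ = a := inv_eq_of_mul_eq_one_left ha
        have i2 : a₀⁻¹ = a₀ := inv_eq_of_mul_eq_one_left ha₀
        have i3 : (a * a₀)⁻¹ = a * a₀ := by rw [_root_.mul_inv_rev, i1, i2, comm]
        rintro u (rfl | rfl | rfl | rfl)
        · simp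
        · rw [i1]; simp
        · rw [i2]; simp
        · rw [i3]; simp }
  have hA2 : IsPGroup 2 A := by
    rintro ⟨v, hv⟩
    refine ⟨1, Subtype.ext ?_⟩
    change v ^ 2 ^ 1 = 1
    rw [pow_one, pow_two]
    have e2 : a₀ * (a * a₀) = a := by rw [comm, ← mul_assoc, ha₀, one_mul]
    rcases hv with rfl | rfl | rfl | rfl
    · simp
    · exact ha
    · exact ha₀
    · rw [mul_assoc, e2, ha]
  have hWA : ∀ b ∈ A, ∀ u ∈ W, b * u * b⁻¹ ∈ W := by
    rintro b (rfl | rfl | rfl | rfl) u hu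
    · simpa using hu
    · exact na u hu
    · exact na₀ u hu
    · have h1 := na _ (na₀ u hu)
      have e : a * (a₀ * u * a₀⁻¹) * a⁻¹ = a * a₀ * u * (a * a₀)⁻¹ := by group
      rwa [e] at h1
  have h2W : ¬ 2 ∣ Nat.card W := by
    intro h
    exact (Nat.not_even_iff_odd.2 hW) (even_iff_two_dvd.2 h)
  have inva : ∀ z : G, a * z * a⁻¹ = z → a₀ * z * a₀⁻¹ = z⁻¹ → ∀ b ∈ A, b * z * b⁻¹ = z ∨ b * z * b⁻¹ = z⁻¹ := by
    rintro z h1 h2 b (rfl | rfl | rfl | rfl)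
    · left; simp
    · left; exact h1
    · right; exact h2
    · right
      have e : a * a₀ * z * (a * a₀)⁻¹ = a * (a₀ * z * a₀⁻¹) * a⁻¹ := by group
      rw [e, h2]
      calc a * z⁻¹ * a⁻¹ = (a * z * a⁻¹)⁻¹ := by group
        _ = z⁻¹ := by rw [h1]
  have invb : ∀ z : G, a * a₀ * z * (a * a₀)⁻¹ = z → a₀ * z * a₀⁻¹ = z⁻¹ →
      a * z * a⁻¹ = z⁻¹ := by
    intro z h1 h2
    have e : a * a₀ * z * (a * a₀)⁻¹ = a * (a₀ * z * a₀⁻¹) * a⁻¹ := by group
    rw [e, h2] at h1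
    have e2 : a * z⁻¹ * a⁻¹ = (a * z * a⁻¹)⁻¹ := by group
    rw [e2] at h1
    exact inv_eq_iff_eq_inv.1 h1
  -- invariant Sylow subgroups containing `y`, `y'`
  have pz : ∀ z : G, orderOf z = r → IsPGroup r (zpowers z) := by
    intro z hz
    apply IsPGroup.of_card (n := 1)
    rw [Nat.card_zpowers, hz, pow_one]
  obtain ⟨S, hS, hSA, hyS⟩ := exists_invariant_sylow_ge (q := r) hA2 h2W hWA (R := zpowers y)
    (zpowers_le.2 hyW) (pz y hr) (fun b hb u hu => conj_mem_zpowers (inva y hay ha₀y b hb) hu)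
  have invb' : ∀ b ∈ A, b * y' * b⁻¹ = y' ∨ b * y' * b⁻¹ = y'⁻¹ := by
    rintro b (rfl | rfl | rfl | rfl)
    · left; simp
    · right; exact invb y' hby' ha₀y'
    · right; exact ha₀y'
    · left; exact hby'
  obtain ⟨S', hS', hSA', hyS'⟩ := exists_invariant_sylow_ge (q := r) hA2 h2W hWA (R := zpowers y')
    (zpowers_le.2 hy'W) (pz y' hr') (fun b hb u hu => conj_mem_zpowers (invb' b hb) hu)
  obtain ⟨c, hc, hcS⟩ := exists_centralizer_conj (q := r) hA2 h2W hWA hS' hS hSA' hSA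
  have hcA : ∀ b ∈ A, b * c = c * b := fun b hb => (mem_centralizer_iff.1 (mem_inf.1 hc).2) b hb
  have hcb : ∀ b ∈ A, ∀ z : G, b * (c * z * c⁻¹) * b⁻¹ = c * (b * z * b⁻¹) * c⁻¹ := by
    intro b hb z
    have h1 := hcA b hb
    have h2 : c⁻¹ * b⁻¹ = b⁻¹ * c⁻¹ := by rw [← _root_.mul_inv_rev, h1, _root_.mul_inv_rev]
    calc b * (c * z * c⁻¹) * b⁻¹ = (b * c) * z * (c⁻¹ * b⁻¹) := by group
      _ = (c * b) * z * (b⁻¹ * c⁻¹) := by rw [h1, h2]
      _ = c * (b * z * b⁻¹) * c⁻¹ := by group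
  -- the conjugate of `y'` in `S`
  set y₁ : G := c * y' * c⁻¹ with hy₁
  have hy₁S : y₁ ∈ S := by
    rw [← hcS]
    exact ⟨y', hyS' (mem_zpowers y'), rfl⟩
  have haA : a ∈ A := Or.inr (Or.inl rfl)
  have ha₀A : a₀ ∈ A := Or.inr (Or.inr (Or.inl rfl))
  have hbA : a * a₀ ∈ A := Or.inr (Or.inr (Or.inr rfl))
  have h1b : a * a₀ * y₁ * (a * a₀)⁻¹ = y₁ := by rw [hy₁, hcb _ hbA, hby']
  have h1a₀ : a₀ * y₁ * a₀⁻¹ = y₁⁻¹ := by
    rw [hy₁, hcb _ ha₀A, ha₀y']
    group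
  have h1a : a * y₁ * a⁻¹ = y₁⁻¹ := invb y₁ h1b h1a₀
  have hy₁Z : y₁ ∈ Z := Normal.conj_mem inferInstance y' hy'Z c
  have hy₁C : y₁ ∉ C := by
    intro h
    apply hy'C
    have := Normal.conj_mem (inferInstance : C.Normal) y₁ h c⁻¹
    have e : c⁻¹ * y₁ * c⁻¹⁻¹ = y' := by rw [hy₁]; group
    rwa [e] at this
  have hyr : y ^ r = 1 := by rw [← hr]; exact pow_orderOf_eq_one y
  have hy₁r : y₁ ^ r = 1 := by
    rw [hy₁, conj_pow, ← hr', pow_orderOf_eq_one]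
    group
  have hSW : S ≤ W := by
    obtain ⟨T, rfl⟩ := hS
    exact map_subtype_le _
  have hSp : IsPGroup r S := by
    obtain ⟨T, rfl⟩ := hS
    exact T.isPGroup'.map _
  have hconj : ∀ b : G, (∀ u ∈ S, b * u * b⁻¹ ∈ S) → ∀ u ∈ S ⊓ Z, b * u * b⁻¹ ∈ S ⊓ Z := fun b hb u hu =>
    mem_inf.2 ⟨hb u (mem_inf.1 hu).1, Normal.conj_mem inferInstance u (mem_inf.1 hu).2 b⟩
  obtain ⟨v, hv⟩ := hA (S ⊓ Z) (inf_le_left.trans hSW) inf_le_right (hSp.to_le inf_le_left)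
    (hconj a (fun u hu => hSA a haA u hu)) (hconj a₀ (fun u hu => hSA a₀ ha₀A u hu))
  have hyS0 : y ∈ S := hyS (mem_zpowers y)
  have hne : a₀ * a ≠ a := by
    intro h
    have h2 : a₀ = 1 := by simpa using h
    rw [h2, one_mul, inv_one, mul_one] at ha₀y
    apply hyC
    apply mem_of_sq hrodd hyr
    rw [← ha₀y]
    have h3 : y * y = 1 := by
      nth_rewrite 1 [ha₀y]
      exact inv_mul_cancel y
    rw [h3]
    exact one_mem _
  by_cases h : v = a
  · apply hy₁C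
    refine hv (a₀ * a) (Or.inr rfl) (by rw [h]; exact hne) y₁ (mem_inf.2 ⟨hy₁S, hy₁Z⟩) ?_
    rw [← comm]
    exact (mul_inv_eq_iff_eq_mul.1 h1b).symm
  · apply hyC
    exact hv a (Or.inl rfl) (Ne.symm h) y (mem_inf.2 ⟨hyS0, hyZ⟩) (mul_inv_eq_iff_eq_mul.1 hay).symm

/-- `A`, `A₀` anticommuting, `det A₀` a square: a matrix of `SL(2,F)` which conjugates `A` to `A A₀` projectively and a
matrix of `SL(2,F)` anticommuting with `A` -/
theorem exists_matrix {F : Type*} [Field F] [Finite F] (h2 : (2 : F) ≠ 0) {A A₀ : M2 F} (hd : A.det ≠ 0)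
    (hd₀ : A₀.det ≠ 0) (hA : A.trace = 0) (hA₀ : A₀.trace = 0) (hi : IsSquare A₀.det) (h : A₀ * A = -(A * A₀)) :
    (∃ (P : SL2 F) (k : F), k ≠ 0 ∧ (P : M2 F) * A = k • (A * A₀ * P)) ∧ ∃ i : SL2 F, (i : M2 F) * A = -(A * i) := by
  obtain ⟨s, hs⟩ := hi
  have hs0 : s ≠ 0 := by
    rintro rfl
    apply hd₀
    rw [hs]; ring
  obtain ⟨C, hC, hCd⟩ := exists_cent_det h2 hd hA 2
  have hsq : A₀ * A₀ = (-(s * s)) • (1 : M2 F) := by
    rw [m2_sq_of_trace hA₀, hs]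
  have hPd : (s • (1 : M2 F) + (1 : F) • A₀).det = 2 * (s * s) := by
    rw [cent_det hA₀, hs]; ring
  have hPCd : ((s • (1 : M2 F) + (1 : F) • A₀) * C).det = (2 * s) * (2 * s) := by
    rw [Matrix.det_mul, hPd, hCd]; ring
  have h2s : 2 * s ≠ 0 := mul_ne_zero h2 hs0
  obtain ⟨P, hP⟩ := exists_sl_of_sq h2s hPCd
  have e1 : (s • (1 : M2 F) + (1 : F) • A₀) * A = A * (s • (1 : M2 F) - A₀) := by
    rw [one_smul, add_mul, h, Matrix.smul_mul, one_mul, mul_sub, Matrix.mul_smul, mul_one]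
    abel
  have e2 : A * A₀ * (s • (1 : M2 F) + (1 : F) • A₀) = (-s) • (A * (s • (1 : M2 F) - A₀)) := by
    rw [one_smul, mul_add, Matrix.mul_smul, mul_one, mul_assoc, hsq, mul_sub, Matrix.mul_smul, Matrix.mul_smul, mul_one,
      smul_sub, smul_smul]
    rw [neg_mul, neg_smul, neg_smul]
    abel
  refine ⟨⟨P, (-s)⁻¹, inv_ne_zero (neg_ne_zero.2 hs0), ?_⟩, ?_⟩
  · have e3 : (2 * s) • ((P : M2 F) * A) = (2 * s) • ((-s)⁻¹ • (A * A₀ * P)) := by
      have l1 : (2 * s) • ((P : M2 F) * A) = (s • (1 : M2 F) + (1 : F) • A₀) * A * C := by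
        rw [← Matrix.smul_mul, ← hP, mul_assoc, hC, ← mul_assoc]
      have l2 : (2 * s) • ((-s)⁻¹ • (A * A₀ * P)) = (-s)⁻¹ • (A * A₀ * (s • (1 : M2 F) + (1 : F) • A₀) * C) := by
        rw [mul_assoc (A * A₀), hP, smul_comm, Matrix.mul_smul]
      rw [l1, l2, e1, e2, Matrix.smul_mul, smul_smul, inv_mul_cancel₀ (neg_ne_zero.2 hs0), one_smul]
    exact smul_cancel h2s e3
  · obtain ⟨i, hi⟩ := exists_sl_of_sq hs0 hs
    refine ⟨i, ?_⟩
    apply smul_cancel hs0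
    rw [← Matrix.smul_mul, ← hi, h, smul_neg, ← Matrix.mul_smul, ← hi]

end Balance

namespace LocalSL

open Subgroup

variable {G : Type*} [Group G] {t : G} {F1 F2 : Type*} [Field F1] [Field F2] {L : LocalSL t F1 F2}

/-- an element of odd order of `C0` is a square in `C0` -/
theorem exists_sq_of_odd [Finite G] {y : G} (hy : y ∈ L.zero) (ho : Odd (orderOf y)) :
    ∃ z ∈ L.zero, z * z = y ∧ z ∈ zpowers y := by
  obtain ⟨k, hk⟩ := ho
  refine ⟨y ^ (k + 1), pow_mem hy _, ?_, ⟨k + 1, by push_cast; exact_mod_cast rfl⟩⟩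
  rw [← pow_add]
  have e : k + 1 + (k + 1) = orderOf y + 1 := by omega
  rw [e, pow_succ, pow_orderOf_eq_one, one_mul]

/-- the matrices of an outer and of an inner involution which commute, anticommute -/
theorem Hyp.anti_of_outer [Finite F1] [Finite F2] (H : L.Hyp) {a a₀ : G} {A A₀ : M2 F1} {B B₀ : M2 F2}
    (ha : L.Rep a A B) (ha₀ : L.Rep a₀ A₀ B₀) (hA : A.trace = 0) (hB : B.trace = 0) (hA₀ : A₀.trace = 0)
    (hB₀ : B₀.trace = 0) (ho : ¬ IsSquare A.det) (hi : IsSquare A₀.det) (comm : a * a₀ = a₀ * a) :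
    A₀ * A = -(A * A₀) ∧ B₀ * B = -(B * B₀) := by
  have h1 := ha.mul ha₀
  have h2 := ha₀.mul ha
  rw [← comm] at h2
  obtain ⟨⟨u, hu, hu'⟩, ⟨v, hv, hv'⟩⟩ := h1.prop h2
  have hoB : ¬ IsSquare B.det := fun k => ho ((H.square_iff _ _ _ ha).2 k)
  have hiB : IsSquare B₀.det := (H.square_iff _ _ _ ha₀).1 hi
  constructor
  · rcases comm_or_anti H.two_ne1 ha.det1 hA ha₀.det1 hu' with h3 | h3
    · exfalso
      obtain ⟨p, q, hpq⟩ := cent_form H.two_ne1 ha.det1 hA h3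
      have h4 : A₀.trace = 2 * p := by rw [hpq]; exact cent_trace hA p q
      rw [hA₀] at h4
      have hp : p = 0 := by
        rcases mul_eq_zero.1 h4.symm with h | h
        · exact absurd h H.two_ne1
        · exact h
      rw [hp, zero_smul, zero_add] at hpq
      apply ho
      have h5 : A₀.det = q * q * A.det := by rw [hpq, det_smul2]
      have hq : q ≠ 0 := by
        rintro rfl
        apply ha₀.det1
        rw [h5]; ring
      rw [h5] at hi
      by_contra h6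
      exact not_isSquare_mul ⟨q, rfl⟩ (mul_ne_zero hq hq) h6 hi
    · exact h3
  · rcases comm_or_anti H.two_ne2 ha.det2 hB ha₀.det2 hv' with h3 | h3
    · exfalso
      obtain ⟨p, q, hpq⟩ := cent_form H.two_ne2 ha.det2 hB h3
      have h4 : B₀.trace = 2 * p := by rw [hpq]; exact cent_trace hB p q
      rw [hB₀] at h4
      have hp : p = 0 := by
        rcases mul_eq_zero.1 h4.symm with h | h
        · exact absurd h H.two_ne2
        · exact h
      rw [hp, zero_smul, zero_add] at hpq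
      apply hoB
      have h5 : B₀.det = q * q * B.det := by rw [hpq, det_smul2]
      have hq : q ≠ 0 := by
        rintro rfl
        apply ha₀.det2
        rw [h5]; ring
      rw [h5] at hiB
      by_contra h6
      exact not_isSquare_mul ⟨q, rfl⟩ (mul_ne_zero hq hq) h6 hiB
    · exact h3

/-- an element of odd order of `C0` which commutes with an outer involution `a` is inverted by the inner
involutions commuting with `a` -/
theorem Hyp.inverted [Finite G] [Finite F1] [Finite F2] (H : L.Hyp) (htc : ∀ x : G, x * t = t * x) {a a₀ : G}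
    {A A₀ : M2 F1} {B B₀ : M2 F2} (ha : L.Rep a A B) (ha₀ : L.Rep a₀ A₀ B₀) (hA : A.trace = 0) (hB : B.trace = 0)
    (hA₀ : A₀.trace = 0) (hB₀ : B₀.trace = 0) (ho : ¬ IsSquare A.det) (hi : IsSquare A₀.det)
    (comm : a * a₀ = a₀ * a) {y : G} (hy : y ∈ L.zero) (hodd : Odd (orderOf y)) (hay : a * y = y * a) :
    a₀ * y * a₀⁻¹ = y⁻¹ := by
  obtain ⟨z, hz, hzy, hzp⟩ := exists_sq_of_odd hy hodd
  obtain ⟨hA1, hB1⟩ := H.anti_of_outer ha ha₀ hA hB hA₀ hB₀ ho hi comm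
  have haz : a * z = z * a := by
    obtain ⟨n, rfl⟩ := hzp
    exact (Commute.zpow_right (show Commute a y from hay) n)
  obtain ⟨P, Q, hP⟩ := hz
  -- the square of the matrices commute with `A`, `B`
  obtain ⟨⟨u, hu, hu'⟩, ⟨v, hv, hv'⟩⟩ : (∃ u : F1, u ≠ 0 ∧ P * A = u • (A * P)) ∧ ∃ v : F2, v ≠ 0 ∧ Q * B = v • (B * Q) := by
    have h1 := ha.mul hP
    have h2 := hP.mul ha
    rw [← haz] at h2
    exact h1.prop h2
  have hPA : P * P * A = A * (P * P) := by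
    rcases comm_or_anti H.two_ne1 ha.det1 hA hP.det1 hu' with h | h
    · rw [mul_assoc, h, ← mul_assoc, h, mul_assoc]
    · rw [mul_assoc, h, mul_neg, ← mul_assoc, h, neg_mul, neg_neg, mul_assoc]
  have hQB : Q * Q * B = B * (Q * Q) := by
    rcases comm_or_anti H.two_ne2 ha.det2 hB hP.det2 hv' with h | h
    · rw [mul_assoc, h, ← mul_assoc, h, mul_assoc]
    · rw [mul_assoc, h, mul_neg, ← mul_assoc, h, neg_mul, neg_neg, mul_assoc]
  have hy' := hP.mul hP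
  rw [hzy] at hy'
  -- the product `a₀ y a₀⁻¹ y`
  have h3 := ((ha₀.mul hy').mul ha₀.inv).mul hy'
  have e1 : A₀ * (P * P) * A₀.adjugate * (P * P) = (A₀.det * (P * P).det) • (1 : M2 F1) := by
    rw [anti_mul H.two_ne1 ha.det1 hA hPA hA1, mul_assoc (P * P).adjugate, Matrix.mul_adjugate]
    simp only [Matrix.mul_smul, Matrix.smul_mul, mul_one]
    rw [Matrix.adjugate_mul, smul_smul]
  have e2 : B₀ * (Q * Q) * B₀.adjugate * (Q * Q) = (B₀.det * (Q * Q).det) • (1 : M2 F2) := by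
    rw [anti_mul H.two_ne2 ha.det2 hB hQB hB1, mul_assoc (Q * Q).adjugate, Matrix.mul_adjugate]
    simp only [Matrix.mul_smul, Matrix.smul_mul, mul_one]
    rw [Matrix.adjugate_mul, smul_smul]
  rw [e1, e2] at h3
  rcases h3.eq_or with h4 | h4
  · exact mul_eq_one_iff_eq_inv.1 h4
  · exfalso
    -- `a₀ y a₀⁻¹ = t y⁻¹` has even order
    have h5 : a₀ * y * a₀⁻¹ = t * y⁻¹ := eq_mul_inv_of_mul_eq h4
    have h6 : (a₀ * y * a₀⁻¹) ^ orderOf y = 1 := by
      rw [conj_pow, pow_orderOf_eq_one]; group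
    rw [h5, (Commute.mul_pow (show Commute t y⁻¹ from (htc y⁻¹).symm)), inv_pow, pow_orderOf_eq_one, inv_one, mul_one] at h6
    obtain ⟨k, hk⟩ := hodd
    rw [hk, pow_succ, pow_mul, pow_two, L.t_sq, one_pow, one_mul] at h6
    exact H.t_ne_one h6

/-- `C0` is normal -/
theorem Hyp.zero_normal (H : L.Hyp) (htc : ∀ x : G, x * t = t * x) : L.zero.Normal := by
  constructor
  intro z hz c
  obtain ⟨x, y, h⟩ := H.comm_mem c z (htc c) (htc z)
  have e : c * z * c⁻¹ = L.e1 x * L.e2 y * z := by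
    rw [h]; group
  rw [e]
  exact mul_mem ⟨_, _, Rep.e12 L x y⟩ hz

/-- the centraliser of `L1` -/
def cent1 (L : LocalSL t F1 F2) : Subgroup G := centralizer (Set.range L.e1)

/-- the centraliser of `L2` -/
def cent2 (L : LocalSL t F1 F2) : Subgroup G := centralizer (Set.range L.e2)

theorem mem_cent1 {c : G} : c ∈ L.cent1 ↔ ∀ x, c * L.e1 x = L.e1 x * c := by
  rw [cent1, mem_centralizer_iff]
  constructor
  · intro h x
    exact (h _ ⟨x, rfl⟩).symm
  · rintro h _ ⟨x, rfl⟩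
    exact (h x).symm

theorem mem_cent2 {c : G} : c ∈ L.cent2 ↔ ∀ x, c * L.e2 x = L.e2 x * c := by
  rw [cent2, mem_centralizer_iff]
  constructor
  · intro h x
    exact (h _ ⟨x, rfl⟩).symm
  · rintro h _ ⟨x, rfl⟩
    exact (h x).symm

theorem Hyp.cent1_normal (H : L.Hyp) (htc : ∀ x : G, x * t = t * x) : L.cent1.Normal := by
  constructor
  intro z hz c
  rw [mem_cent1] at hz ⊢
  intro x
  obtain ⟨y, hy⟩ := H.norm1 c⁻¹ (htc c⁻¹) x
  have h1 : L.e1 x * c = c * L.e1 y := by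
    calc L.e1 x * c = c * (c⁻¹ * L.e1 x) * c := by group
      _ = c * (L.e1 y * c⁻¹) * c := by rw [hy]
      _ = c * L.e1 y := by group
  calc c * z * c⁻¹ * L.e1 x = c * z * (c⁻¹ * L.e1 x) := by group
    _ = c * z * (L.e1 y * c⁻¹) := by rw [hy]
    _ = c * (z * L.e1 y) * c⁻¹ := by group
    _ = c * (L.e1 y * z) * c⁻¹ := by rw [hz]
    _ = (c * L.e1 y) * z * c⁻¹ := by group
    _ = (L.e1 x * c) * z * c⁻¹ := by rw [h1]
    _ = L.e1 x * (c * z * c⁻¹) := by group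

theorem Hyp.cent2_normal (H : L.Hyp) (htc : ∀ x : G, x * t = t * x) : L.cent2.Normal := by
  constructor
  intro z hz c
  rw [mem_cent2] at hz ⊢
  intro x
  obtain ⟨y, hy⟩ := H.norm2 c⁻¹ (htc c⁻¹) x
  have h1 : L.e2 x * c = c * L.e2 y := by
    calc L.e2 x * c = c * (c⁻¹ * L.e2 x) * c := by group
      _ = c * (L.e2 y * c⁻¹) * c := by rw [hy]
      _ = c * L.e2 y := by group
  calc c * z * c⁻¹ * L.e2 x = c * z * (c⁻¹ * L.e2 x) := by group
    _ = c * z * (L.e2 y * c⁻¹) := by rw [hy]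
    _ = c * (z * L.e2 y) * c⁻¹ := by group
    _ = c * (L.e2 y * z) * c⁻¹ := by rw [hz]
    _ = (c * L.e2 y) * z * c⁻¹ := by group
    _ = (L.e2 x * c) * z * c⁻¹ := by rw [h1]
    _ = L.e2 x * (c * z * c⁻¹) := by group

/-- local algebra of outer balance: `a` an outer involution, `a₀` an inner involution commuting with `a`, `W` of odd
order normalised by `a` and `a₀`, `I ≤ W` centralised by `a` and normalised by `C(a)`, `g` conjugates `a` to `a a₀` and
`I` into `W`. Then `I = 1`. -/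
theorem Hyp.outer_balance [Finite G] [Finite F1] [Finite F2] (H : L.Hyp) (htc : ∀ x : G, x * t = t * x) {a a₀ g : G}
    {A A₀ : M2 F1} {B B₀ : M2 F2} (ha : L.Rep a A B) (ha₀ : L.Rep a₀ A₀ B₀) (haa : a * a = 1) (ha₀a₀ : a₀ * a₀ = 1)
    (hA : A.trace = 0) (hB : B.trace = 0) (hA₀ : A₀.trace = 0) (hB₀ : B₀.trace = 0) (ho : ¬ IsSquare A.det)
    (hi : IsSquare A₀.det) (comm : a * a₀ = a₀ * a) {W I : Subgroup G} (hW : Odd (Nat.card W))
    (na : ∀ w ∈ W, a * w * a⁻¹ ∈ W) (na₀ : ∀ w ∈ W, a₀ * w * a₀⁻¹ ∈ W) (hIW : I ≤ W)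
    (hIW' : ∀ i ∈ I, g * i * g⁻¹ ∈ W) (hIa : ∀ i ∈ I, a * i = i * a)
    (nI : ∀ c, c * a = a * c → ∀ i ∈ I, c * i * c⁻¹ ∈ I) (hg : g * a * g⁻¹ = a * a₀) : I = ⊥ := by
  apply H.eq_bot_of_normal ha hA hB (fun i _ => htc i) (fun c _ hc => nI c hc)
  intro y hy hy0
  by_contra hy1
  obtain ⟨r, hrp, hr⟩ := Nat.exists_prime_and_dvd (n := orderOf y) (by rwa [ne_eq, orderOf_eq_one_iff])
  have : Fact r.Prime := ⟨hrp⟩
  set z : G := y ^ (orderOf y / r) with hz
  have hzr : orderOf z = r := by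
    rw [hz, orderOf_pow, Nat.gcd_eq_right (Nat.div_dvd_of_dvd hr), Nat.div_div_self hr (orderOf_pos y).ne']
  have hzI : z ∈ I := pow_mem hy _
  have hz0 : z ∈ L.zero := pow_mem hy0 _
  have hrodd : Odd r := by
    have h3 : r ∣ Nat.card W := by
      have := Subgroup.orderOf_dvd_natCard W (hIW hzI)
      rwa [hzr] at this
    exact Odd.of_dvd_nat hW h3
  have hr2 : r ≠ 2 := by
    rintro rfl
    exact absurd hrodd (by decide)
  have hz1 : z ≠ 1 := by
    intro h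
    rw [h, orderOf_one] at hzr
    exact hrp.one_lt.ne hzr
  have hzt : z ≠ t := by
    intro h
    have h3 : z * z = 1 := by rw [h]; exact L.t_sq
    have h4 : r ∣ 2 := by
      rw [← hzr, orderOf_dvd_iff_pow_eq_one, pow_two]; exact h3
    exact hr2 ((Nat.prime_dvd_prime_iff_eq hrp Nat.prime_two).1 h4)
  have hznot : z ∉ L.cent1 ∨ z ∉ L.cent2 := by
    by_contra h
    push Not at h
    rcases L.cent z (htc z) (mem_cent1.1 h.1) (mem_cent2.1 h.2) with h3 | h3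
    · exact hz1 h3
    · exact hzt h3
  have haz := hIa z hzI
  have hoz : Odd (orderOf z) := by rw [hzr]; exact hrodd
  have hinv := H.inverted htc ha ha₀ hA hB hA₀ hB₀ ho hi comm hz0 hoz haz
  -- the conjugate
  have hN0 := H.zero_normal htc
  have hN1 := H.cent1_normal htc
  have hN2 := H.cent2_normal htc
  set z' : G := g * z * g⁻¹ with hz'
  have hz'r : orderOf z' = r := by
    rw [← hzr, hz']
    exact (MulAut.conj g).orderOf_eq z
  have hz'0 : z' ∈ L.zero := Normal.conj_mem hN0 z hz0 g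
  have hbz' : a * a₀ * z' = z' * (a * a₀) := by
    rw [← hg, hz']
    calc g * a * g⁻¹ * (g * z * g⁻¹) = g * (a * z) * g⁻¹ := by group
      _ = g * (z * a) * g⁻¹ := by rw [haz]
      _ = g * z * g⁻¹ * (g * a * g⁻¹) := by group
  obtain ⟨hA1, hB1⟩ := H.anti_of_outer ha ha₀ hA hB hA₀ hB₀ ho hi comm
  have htr1 : (A * A₀).trace = 0 := by
    have h3 : (A₀ * A).trace = -(A * A₀).trace := by rw [hA1, Matrix.trace_neg]
    rw [Matrix.trace_mul_comm] at h3
    have h4 : 2 * (A * A₀).trace = 0 := by linear_combination h3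
    rcases mul_eq_zero.1 h4 with h | h
    · exact absurd h H.two_ne1
    · exact h
  have htr2 : (B * B₀).trace = 0 := by
    have h3 : (B₀ * B).trace = -(B * B₀).trace := by rw [hB1, Matrix.trace_neg]
    rw [Matrix.trace_mul_comm] at h3
    have h4 : 2 * (B * B₀).trace = 0 := by linear_combination h3
    rcases mul_eq_zero.1 h4 with h | h
    · exact absurd h H.two_ne2
    · exact h
  have hob : ¬ IsSquare (A * A₀).det := by
    rw [Matrix.det_mul, mul_comm]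
    exact not_isSquare_mul hi ha₀.det1 ho
  have hcomm' : a * a₀ * a₀ = a₀ * (a * a₀) := by rw [comm, mul_assoc, comm]
  have hinv' := H.inverted htc (ha.mul ha₀) ha₀ htr1 htr2 hA₀ hB₀ hob hi hcomm' hz'0 (by rw [hz'r]; exact hrodd) hbz'
  have hbz'' : a * a₀ * z' * (a * a₀)⁻¹ = z' := by rw [hbz']; group
  have haz' : a * z * a⁻¹ = z := by rw [haz]; group
  have hAnti : L.Anti a a₀ A B A₀ B₀ := ⟨ha, ha₀, hA1, hB1⟩
  rcases hznot with hn | hn
  · have hn' : z' ∉ L.cent1 := by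
      intro h
      apply hn
      have := Normal.conj_mem hN1 z' h g⁻¹
      have e : g⁻¹ * z' * g⁻¹⁻¹ = z := by rw [hz']; group
      rwa [e] at this
    refine Balance.core (C := L.cent1) (Z := L.zero) haa ha₀a₀ comm hW na na₀ (hIW hzI) (hIW' z hzI) hzr hz'r hn hn' hz0 hz'0
      haz' hinv hbz'' hinv' (fun R _ hRZ hR h3 h4 => ?_)
    obtain ⟨u, _, hu'⟩ := H.coord1 hrp hr2 hR (fun c hc => hRZ hc) hAnti h3 h4
    refine ⟨u, fun v' hv' hne c hc hcv => mem_cent1.2 (hu' v' ?_ hne c hc hcv)⟩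
    rcases hv' with rfl | rfl <;> simp
  · have hn' : z' ∉ L.cent2 := by
      intro h
      apply hn
      have := Normal.conj_mem hN2 z' h g⁻¹
      have e : g⁻¹ * z' * g⁻¹⁻¹ = z := by rw [hz']; group
      rwa [e] at this
    refine Balance.core (C := L.cent2) (Z := L.zero) haa ha₀a₀ comm hW na na₀ (hIW hzI) (hIW' z hzI) hzr hz'r hn hn' hz0 hz'0
      haz' hinv hbz'' hinv' (fun R _ hRZ hR h3 h4 => ?_)
    obtain ⟨u, _, hu'⟩ := H.coord2 hrp hr2 hR (fun c hc => hRZ hc) hAnti h3 h4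
    refine ⟨u, fun v' hv' hne c hc hcv => mem_cent2.2 (hu' v' ?_ hne c hc hcv)⟩
    rcases hv' with rfl | rfl <;> simp

/-- an outer involution `a` is conjugate to `a a₀`, `a₀` an inner involution commuting with `a` -/
theorem Hyp.exists_conj_outer [Finite F1] [Finite F2] (H : L.Hyp) {a a₀ : G}
    {A A₀ : M2 F1} {B B₀ : M2 F2} (ha : L.Rep a A B) (ha₀ : L.Rep a₀ A₀ B₀)
    (hA : A.trace = 0) (hB : B.trace = 0) (hA₀ : A₀.trace = 0) (hB₀ : B₀.trace = 0) (ho : ¬ IsSquare A.det)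
    (hi : IsSquare A₀.det) (comm : a * a₀ = a₀ * a) :
    ∃ g : G, g * t = t * g ∧ g * a * g⁻¹ = a * a₀ := by
  obtain ⟨hA1, hB1⟩ := H.anti_of_outer ha ha₀ hA hB hA₀ hB₀ ho hi comm
  have hiB : IsSquare B₀.det := (H.square_iff _ _ _ ha₀).1 hi
  obtain ⟨⟨P, k, hk, hP⟩, ⟨i, hi'⟩⟩ := Balance.exists_matrix H.two_ne1 ha.det1 ha₀.det1 hA hA₀ hi hA1
  obtain ⟨⟨Q, l, hl, hQ⟩, _⟩ := Balance.exists_matrix H.two_ne2 ha.det2 ha₀.det2 hB hB₀ hiB hB1
  -- `g = e1 P * e2 Q` conjugates `a` to `a a₀` or `a a₀ t`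
  have hg := Rep.e12 L P Q
  have h1 := hg.mul ha
  have h2 := (ha.mul ha₀).mul hg
  have h3 : L.e1 P * L.e2 Q * a = a * a₀ * (L.e1 P * L.e2 Q) ∨ L.e1 P * L.e2 Q * a = a * a₀ * (L.e1 P * L.e2 Q) * t :=
    Rep.unique h2 h1 hP hQ
  have hgt : L.e1 P * L.e2 Q * t = t * (L.e1 P * L.e2 Q) := hg.comm
  rcases h3 with h3 | h3
  · refine ⟨_, hgt, ?_⟩
    rw [h3]; group
  · -- multiply with `e1 i`
    have h4 : L.e1 i * a = a * L.e1 i * t := by
      have h5 : a * L.e1 i = L.e1 (-i) * a := by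
        apply ha.acts1.2 i (-i)
        rw [Matrix.SpecialLinearGroup.coe_neg, neg_mul, hi', neg_neg]
      rw [h5, Rep.e1_neg, mul_assoc, mul_assoc, ha.comm, ← mul_assoc t t, L.t_sq, one_mul]
    refine ⟨L.e1 P * L.e2 Q * L.e1 i, ?_, ?_⟩
    · rw [mul_assoc, e1_t, ← mul_assoc, hgt, mul_assoc]
    · have h6 : L.e1 P * L.e2 Q * L.e1 i * a = a * a₀ * (L.e1 P * L.e2 Q * L.e1 i) := by
        rw [mul_assoc, h4, ← mul_assoc, ← mul_assoc, h3]
        have h7 : a * a₀ * (L.e1 P * L.e2 Q) * t * L.e1 i * t = a * a₀ * (L.e1 P * L.e2 Q) * L.e1 i * (t * t) := by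
          rw [mul_assoc (a * a₀ * (L.e1 P * L.e2 Q)) t, ← e1_t]
          group
        rw [h7, L.t_sq, mul_one, mul_assoc]
      rw [h6]; group

end LocalSL

end Cfsg.Agent.GTwoOdd
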