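import Cfsg.Agent.Dichotomy.Functor

/-!
# The signalizer functor on an elementary abelian `2`-group on which the cores are balanced

`BalOn E`: `O(C(a)) ∩ C(b) ≤ O(C(b))` for `a, b` in `E#`.  `W E = ⟨O(C(a)) : a ∈ E#⟩`.
-/

set_option autoImplicit false

namespace Cfsg.Agent.GTwoOdd.Core.Functor

open Cfsg
open Cfsg.Agent
open Cfsg.Agent.Dichotomy.Elem
open Cfsg.Agent.Dichotomy.Functor

variable {G : Type*} [Group G]

/-- the cores of the centralizers of involutions are solvable -/
def Solv (G : Type*) [Group G] : Prop :=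
  ∀ a : G, orderOf a = 2 → Group.IsSolvable ↥(centralizerPPrimeCore 2 a)

/-- the cores are balanced on `E` -/
def BalOn (E : Subgroup G) : Prop :=
  ∀ a ∈ E, a ≠ 1 → ∀ b ∈ E, b ≠ 1 →
    centralizerPPrimeCore 2 a ⊓ Subgroup.centralizer ({b} : Set G) ≤ centralizerPPrimeCore 2 b

theorem balOn_of_fun (hF : Fun G) {E : Subgroup G} (hE : IsElementaryAbelian 2 E) : BalOn E :=
  fun a ha ha1 b hb hb1 => hF.bal a b (orderOf_two (elem_sq hE ha) ha1)
    (orderOf_two (elem_sq hE hb) hb1) (elem_comm hE a ha b hb)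

theorem BalOn.mono {E E' : Subgroup G} (h : BalOn E) (hE : E' ≤ E) : BalOn E' :=
  fun a ha ha1 b hb hb1 => h a (hE ha) ha1 b (hE hb) hb1

theorem W_mono {E E' : Subgroup G} (h : E' ≤ E) : W E' ≤ W E :=
  W_le fun _ ha ha1 => le_W E (h ha) ha1

section

variable [Finite G]

/-- `g` normalises `W E` if it normalises `E` -/
theorem normalizer_W (E : Subgroup G) :
    Subgroup.normalizer (E : Set G) ≤ Subgroup.normalizer (W E : Set G) := by
  intro g hg
  apply mem_normalizer_of_map_eq
  rw [W_conj, map_eq_of_mem_normalizer hg]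

/-- `g` normalises `W E` if it centralises `E` -/
theorem centralizer_W (E : Subgroup G) :
    Subgroup.centralizer (E : Set G) ≤ Subgroup.normalizer (W E : Set G) := by
  refine le_trans ?_ (normalizer_W E)
  intro g hg
  rw [Subgroup.mem_centralizer_iff] at hg
  rw [Subgroup.mem_normalizer_iff]
  intro x
  constructor
  · intro hx
    have := hg x hx
    rw [← this, mul_inv_cancel_right]
    exact hx
  · intro hx
    have h1 := hg _ hx
    have h2 : x = g * x * g⁻¹ := by
      have h3 : g * x * g⁻¹ * g = g * (g * x * g⁻¹) := h1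
      have h4 : g * x = g * (g * x * g⁻¹) := by rw [← h3]; group
      exact mul_left_cancel h4
    rw [h2]
    exact hx

/-- completeness of the functor -/
theorem complete (hs : Solv G) {E : Subgroup G} (hE : Big E) (hb : BalOn E) :
    ¬ 2 ∣ Nat.card (W E) ∧
      (∀ a ∈ E, a ≠ 1 → W E ⊓ Subgroup.centralizer {a} = centralizerPPrimeCore 2 a) ∧
      Group.IsSolvable (W E) := by
  have hinv : ∀ a ∈ E, a ≠ 1 → ∀ b ∈ E, ∀ x ∈ centralizerPPrimeCore 2 a,
      b * x * b⁻¹ ∈ centralizerPPrimeCore 2 a := by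
    intro a ha _ b hb' x hx
    have h1 := th_conj a b
    have h2 : b * a * b⁻¹ = a := by
      rw [elem_comm hE.1 b hb' a ha, mul_inv_cancel_right]
    rw [h2] at h1
    rw [h1]
    exact ⟨x, hx, rfl⟩
  exact SignalizersComponents.SolFunctorTwo.solvable_signalizer_functor_two E
    (elem_comm hE.1) hE.1.2 hE.2 (fun a => centralizerPPrimeCore 2 a) (fun a _ _ => th_le a)
    (fun a _ _ => th_odd a) hinv
    (fun a ha ha1 => hs a (orderOf_two (elem_sq hE.1 ha) ha1)) hb

theorem W_odd (hs : Solv G) {E : Subgroup G} (hE : Big E) (hb : BalOn E) :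
    ¬ 2 ∣ Nat.card (W E) := (complete hs hE hb).1

theorem W_inf (hs : Solv G) {E : Subgroup G} (hE : Big E) (hb : BalOn E) {a : G} (ha : a ∈ E)
    (ha1 : a ≠ 1) : W E ⊓ Subgroup.centralizer {a} = centralizerPPrimeCore 2 a :=
  (complete hs hE hb).2.1 a ha ha1

/-- the same subgroup for every noncyclic subgroup -/
theorem W_eq_of_le (hs : Solv G) {E E' : Subgroup G} (hE : Big E) (hb : BalOn E) (h : E' ≤ E)
    (h4 : 4 ≤ Nat.card E') : W E' = W E := by
  have hE' : IsElementaryAbelian 2 E' := elem_mono hE.1 h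
  have := hE'.1
  have hncyc : ¬ IsCyclic E' := by
    intro hcyc
    obtain ⟨g, hg⟩ := IsCyclic.exists_generator (α := E')
    have h3 : orderOf g = Nat.card E' := orderOf_eq_card_of_forall_mem_zpowers hg
    have h5 : g ^ 2 = 1 := by
      ext
      simpa using hE'.2 g g.2
    have h6 : orderOf g ≤ 2 := orderOf_le_of_pow_eq_one (by norm_num) h5
    omega
  have hcop : (Nat.card E').Coprime (Nat.card (W E)) := by
    obtain ⟨n, hn⟩ := (IsPGroup.iff_card (p := 2)).1 (isPGroup_of_elem hE')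
    rw [hn]
    exact Nat.Coprime.pow_left n ((Nat.Prime.coprime_iff_not_dvd Nat.prime_two).2
      (W_odd hs hE hb))
  have hnorm : E ≤ Subgroup.normalizer (W E : Set G) :=
    Subgroup.le_normalizer.trans (normalizer_W E)
  have h7 := Cfsg.Agent.S0058.result E' (W E) hncyc (h.trans hnorm) hcop
  apply le_antisymm (W_mono h)
  rw [← h7]
  refine iSup₂_le ?_
  rintro a ⟨ha, ha1⟩
  rw [W_inf hs hE hb (h ha) ha1]
  exact le_W E' ha ha1

theorem W_four_eq (hs : Solv G) {E : Subgroup G} (hE : Big E) (hb : BalOn E) {a b : G}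
    (ha : a ∈ E) (hb' : b ∈ E) (ha1 : a ≠ 1) (hb1 : b ≠ 1) (hne : a ≠ b) :
    W (four a b) = W E :=
  W_eq_of_le hs hE hb (four_le ha hb')
    (card_four (elem_sq hE.1 ha) (elem_sq hE.1 hb') (elem_comm hE.1 a ha b hb') ha1 hb1 hne).ge

/-- `g` permutes the `W` of four-groups -/
theorem W_four_conj (a b g : G) :
    (W (four a b)).map (MulAut.conj g).toMonoidHom = W (four (g * a * g⁻¹) (g * b * g⁻¹)) := by
  rw [W_conj, four_map]

/-- The output for the outer pairs: `a, a0` distinct in a balanced big group `E`, `x` commutes with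
`a` and `a0`.  There is an odd subgroup `R` of `C(x)` which is normalised by `a` and `a0`, contains
`O(C(u)) ∩ C(x)` for `u` in `⟨a, a0⟩#`, and `R ∩ C(u) = O(C(u)) ∩ C(x)`. -/
theorem exists_local (hs : Solv G) {E : Subgroup G} (hE : Big E) (hb : BalOn E) {a a0 : G}
    (ha : a ∈ E) (ha0 : a0 ∈ E) (ha1 : a ≠ 1) (ha01 : a0 ≠ 1) (hne : a ≠ a0) {x : G}
    (hxa : x * a = a * x) (hxa0 : x * a0 = a0 * x) :
    ∃ R : Subgroup G, ¬ 2 ∣ Nat.card R ∧ R ≤ Subgroup.centralizer {x} ∧
      a ∈ Subgroup.normalizer (R : Set G) ∧ a0 ∈ Subgroup.normalizer (R : Set G) ∧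
      (∀ u ∈ four a a0, u ≠ 1 →
        R ⊓ Subgroup.centralizer {u} = centralizerPPrimeCore 2 u ⊓ Subgroup.centralizer {x}) ∧
      R = W (four a a0) ⊓ Subgroup.centralizer {x} := by
  have hW := W_four_eq hs hE hb ha ha0 ha1 ha01 hne
  have hnx : ∀ y : G, x * y = y * x →
      y ∈ Subgroup.normalizer (Subgroup.centralizer ({x} : Set G) : Set G) := by
    intro y hy
    apply Subgroup.le_normalizer
    exact Subgroup.mem_centralizer_singleton_iff.2 hy.symm
  have hn : ∀ y ∈ E, x * y = y * x → y ∈ Subgroup.normalizer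
      ((W (four a a0) ⊓ Subgroup.centralizer {x} : Subgroup G) : Set G) := by
    intro y hyE hy
    have h1 : y ∈ Subgroup.normalizer (W (four a a0) : Set G) := by
      rw [hW]
      exact (Subgroup.le_normalizer.trans (normalizer_W E)) hyE
    have h2 := hnx y hy
    rw [Subgroup.mem_normalizer_iff] at h1 h2 ⊢
    intro z
    rw [Subgroup.mem_inf, Subgroup.mem_inf, h1, h2]
  refine ⟨W (four a a0) ⊓ Subgroup.centralizer {x}, ?_, inf_le_right, hn a ha hxa,
    hn a0 ha0 hxa0, ?_, rfl⟩
  · intro h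
    have h1 := W_odd hs hE hb
    rw [← hW] at h1
    exact h1 (h.trans (Subgroup.card_dvd_of_le inf_le_left))
  · intro u hu hu1
    have huE : u ∈ E := four_le ha ha0 hu
    rw [inf_right_comm, hW, W_inf hs hE hb huE hu1]

end

end Cfsg.Agent.GTwoOdd.Core.Functor
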