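import Cfsg.Agent.GTwoOdd.Core.TrConn
import Cfsg.Agent.GTwoOdd.Core.Defs
import Cfsg.Agent.GTwoOdd.Core.Functor
import Cfsg.Agent.Dichotomy.Main

/-!
# Balanced cores are trivial

`C(v)/O(C(v))` carries a `LocalSL` with `Hyp` for all involutions `v`, and the cores `O(C(v))` are
balanced: then they are trivial (if strongly embedded subgroups have no odd core).
-/

set_option autoImplicit false

namespace Cfsg.Agent.GTwoOdd.Core.ClosingB

open Cfsg
open Cfsg.Agent
open Cfsg.Agent.Dichotomy.Elem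
open Cfsg.Agent.Dichotomy.Functor
open Cfsg.Agent.Dichotomy.Key
open Cfsg.Agent.Dichotomy.Main
open Cfsg.Agent.SignalizersComponents.RelSylow

/-! ### Lifting involutions through a kernel of odd order -/

section lift

variable {C X : Type*} [Group C] [Group X] {π : C →* X} {m : ℕ}

theorem eq_one (hm : Odd m) (hk : ∀ z, π z = 1 → z ^ m = 1) {c : C} (hc : c * c = 1)
    (h : π c = 1) : c = 1 := by
  obtain ⟨k, rfl⟩ := hm
  have := hk c h
  rwa [pow_add, pow_mul, pow_two, hc, one_pow, one_mul, pow_one] at this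

/-- involutions with the same image are conjugate under the kernel -/
theorem conj_of_eq (hm : Odd m) (hk : ∀ z, π z = 1 → z ^ m = 1) {c c' : C} (hc : c * c = 1)
    (hc' : c' * c' = 1) (h : π c = π c') : ∃ n, π n = 1 ∧ c' = n * c * n⁻¹ := by
  obtain ⟨k, rfl⟩ := hm
  have hy1 : π (c * c') = 1 := by
    rw [map_mul, ← h, ← map_mul, hc, map_one]
  have hym := hk _ hy1
  have hinv : (c * c')⁻¹ = c' * c := by
    rw [inv_eq_iff_mul_eq_one]
    calc c * c' * (c' * c) = c * (c' * c') * c := by group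
      _ = 1 := by rw [hc', mul_one, hc]
  have hs : SemiconjBy c (c * c') (c * c')⁻¹ := by
    change c * (c * c') = (c * c')⁻¹ * c
    rw [hinv, ← mul_assoc, hc, one_mul, mul_assoc, hc, mul_one]
  have hsk := hs.pow_right k
  refine ⟨(c * c') ^ k, by rw [map_pow, hy1, one_pow], ?_⟩
  have h1 : c * (c * c') ^ k = ((c * c') ^ k)⁻¹ * c := by
    rw [← inv_pow]
    exact hsk
  have h2 : (c * c') ^ k * c = c * ((c * c') ^ k)⁻¹ := by
    rw [eq_mul_inv_iff_mul_eq, mul_assoc, h1, ← mul_assoc, mul_inv_cancel, one_mul]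
  have h3 : (c * c') ^ k * (c * c') ^ k * (c * c') = 1 := by
    rw [← pow_add, ← pow_succ, ← two_mul]
    exact hym
  have h4 : ((c * c') ^ k)⁻¹ * ((c * c') ^ k)⁻¹ = c * c' := by
    rw [← mul_inv_rev]
    exact (eq_inv_of_mul_eq_one_right h3).symm
  rw [h2, mul_assoc, h4, ← mul_assoc, hc, one_mul]

/-- the centraliser of an involution of the image lifts -/
theorem lift_comm (hsurj : Function.Surjective π) (hm : Odd m) (hk : ∀ z, π z = 1 → z ^ m = 1)
    {c : C} (hc : c * c = 1) {x : X} (h : π c * x = x * π c) : ∃ y, π y = x ∧ c * y = y * c := by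
  obtain ⟨y0, hy0⟩ := hsurj x
  have h1 : y0 * c * y0⁻¹ * (y0 * c * y0⁻¹) = 1 := by
    calc y0 * c * y0⁻¹ * (y0 * c * y0⁻¹) = y0 * (c * c) * y0⁻¹ := by group
      _ = 1 := by rw [hc]; group
  have h2 : π c = π (y0 * c * y0⁻¹) := by
    rw [map_mul, map_mul, map_inv, hy0, ← h, mul_inv_cancel_right]
  obtain ⟨n, hn, hn'⟩ := conj_of_eq hm hk hc h1 h2
  refine ⟨n⁻¹ * y0, by rw [map_mul, map_inv, hn, inv_one, one_mul, hy0], ?_⟩
  calc c * (n⁻¹ * y0) = n⁻¹ * (n * c * n⁻¹) * y0 := by group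
    _ = n⁻¹ * (y0 * c * y0⁻¹) * y0 := by rw [hn']
    _ = n⁻¹ * y0 * c := by group

theorem lift_inv (hsurj : Function.Surjective π) (hm : Odd m) (hk : ∀ z, π z = 1 → z ^ m = 1)
    {c : C} (hc : c * c = 1) {x : X} (h : π c * x = x * π c) (hx : x * x = 1) :
    ∃ y, π y = x ∧ y * y = 1 ∧ c * y = y * c := by
  obtain ⟨y, hy, hcy⟩ := lift_comm hsurj hm hk hc h
  refine ⟨y ^ m, ?_, ?_, ?_⟩
  · obtain ⟨k, rfl⟩ := hm
    rw [map_pow, hy, pow_add, pow_mul, pow_two, hx, one_pow, one_mul, pow_one]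
  · have h1 : π (y * y) = 1 := by rw [map_mul, hy, hx]
    rw [← (Commute.refl y).mul_pow]
    exact hk _ h1
  · exact ((show Commute c y from hcy).pow_right m).eq

/-- involutions `≠ t0` -/
def CInv (t0 u : C) : Prop := u * u = 1 ∧ u ≠ 1 ∧ u ≠ t0

variable {t0 : C} (hcen : ∀ c, c * t0 = t0 * c) (ht0 : t0 * t0 = 1)
  {F1 F2 : Type*} [Field F1] [Field F2] [Finite F1] [Finite F2] {L : LocalSL (π t0) F1 F2}
  (H : L.Hyp)

include hcen ht0 in
theorem inv_map (hm : Odd m) (hk : ∀ z, π z = 1 → z ^ m = 1) {u : C} (hu : CInv t0 u) :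
    TrConn.Inv (π t0) (π u) := by
  refine ⟨by rw [← map_mul, hcen, map_mul], by rw [← map_mul, hu.1, map_one], ?_, ?_⟩
  · intro h
    exact hu.2.1 (eq_one hm hk hu.1 h)
  · intro h
    have h1 : π (u * t0) = 1 := by
      rw [map_mul, h, ← map_mul, ht0, map_one]
    have h2 : u * t0 * (u * t0) = 1 := by
      calc u * t0 * (u * t0) = u * (t0 * u) * t0 := by group
        _ = u * (u * t0) * t0 := by rw [hcen u]
        _ = u * u * (t0 * t0) := by group
        _ = 1 := by rw [hu.1, ht0, one_mul]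
    have h3 := eq_one hm hk h2 h1
    apply hu.2.2
    rw [← mul_one u, ← ht0, ← mul_assoc, h3, one_mul]

include hcen ht0 H in
theorem third_C (hsurj : Function.Surjective π) (hm : Odd m) (hk : ∀ z, π z = 1 → z ^ m = 1)
    {u : C} (hu : CInv t0 u) : ∃ u', CInv t0 u' ∧ u * u' = u' * u ∧ u' ≠ u ∧ u' ≠ u * t0 := by
  obtain ⟨x, hx, hc, h1, h2⟩ := TrConn.third H (inv_map hcen ht0 hm hk hu)
  obtain ⟨y, hy, hy2, hyc⟩ := lift_inv hsurj hm hk hu.1 hc hx.2.1
  refine ⟨y, ⟨hy2, ?_, ?_⟩, hyc, ?_, ?_⟩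
  · rintro rfl
    exact hx.2.2.1 (by rw [← hy, map_one])
  · rintro rfl
    exact hx.2.2.2 hy.symm
  · rintro rfl
    exact h1 hy.symm
  · rintro rfl
    apply h2
    rw [← hy, map_mul]

include H in
omit [Finite F1] [Finite F2] in
theorem exists_C [Finite F1] [Finite F2] (ht0 : t0 * t0 = 1) (hsurj : Function.Surjective π)
    (hm : Odd m) (hk : ∀ z, π z = 1 → z ^ m = 1) : ∃ u, CInv t0 u := by
  obtain ⟨x, hx⟩ := TrConn.exists_inv H
  obtain ⟨y, hy, hy2, -⟩ := lift_inv hsurj hm hk ht0 hx.1.symm hx.2.1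
  refine ⟨y, hy2, ?_, ?_⟩
  · rintro rfl
    exact hx.2.2.1 (by rw [← hy, map_one])
  · rintro rfl
    exact hx.2.2.2 hy.symm

include hcen ht0 H in
theorem conn_C (hsurj : Function.Surjective π) (hm : Odd m) (hk : ∀ z, π z = 1 → z ^ m = 1)
    (U : C → Prop) (hne : ∃ u, CInv t0 u ∧ U u)
    (hc : ∀ u u', CInv t0 u → CInv t0 u' → u * u' = u' * u → U u → U u')
    (hn : ∀ n u, π n = 1 → U u → U (n * u * n⁻¹)) : ∀ u, CInv t0 u → U u := by
  intro u hu
  obtain ⟨u1, ⟨h1, h2⟩, h3⟩ := TrConn.conn H (fun x => ∃ u, (CInv t0 u ∧ U u) ∧ π u = x)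
    (by
      obtain ⟨u, hu, hU⟩ := hne
      exact ⟨π u, inv_map hcen ht0 hm hk hu, u, ⟨hu, hU⟩, rfl⟩)
    (by
      rintro _ x' - hx' hcm ⟨u, ⟨hu, hU⟩, rfl⟩
      obtain ⟨y, hy, hy2, hyc⟩ := lift_inv hsurj hm hk hu.1 hcm hx'.2.1
      have hyi : CInv t0 y := by
        refine ⟨hy2, ?_, ?_⟩
        · rintro rfl
          exact hx'.2.2.1 (by rw [← hy, map_one])
        · rintro rfl
          exact hx'.2.2.2 hy.symm
      exact ⟨y, ⟨hyi, hc u y hu hyi hyc hU⟩, hy⟩)
    (π u) (inv_map hcen ht0 hm hk hu)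
  obtain ⟨n, hn1, hn2⟩ := conj_of_eq hm hk h1.1 hu.1 h3
  rw [hn2]
  exact hn n u1 hn1 h2

end lift

/-! ### The centralisers in `G` -/

section group

variable {G : Type*} [Group G] [Finite G]

/-- the involutions `≠ a` of `C(a)` -/
def GI (a u : G) : Prop := a * u = u * a ∧ u * u = 1 ∧ u ≠ 1 ∧ u ≠ a

theorem bar_eq_one_iff (a : G) (z : Subgroup.centralizer ({a} : Set G)) :
    bar a z = 1 ↔ z ∈ Cfsg.pPrimeCore 2 (Subgroup.centralizer ({a} : Set G)) :=
  QuotientGroup.eq_one_iff z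

theorem mem_core_of_bar {a : G} {z : Subgroup.centralizer ({a} : Set G)} (h : bar a z = 1) :
    (z : G) ∈ centralizerPPrimeCore 2 a := ⟨z, (bar_eq_one_iff a z).1 h, rfl⟩

theorem odd_core (a : G) :
    Odd (Nat.card (Cfsg.pPrimeCore 2 (Subgroup.centralizer ({a} : Set G)))) := by
  have h := Lib.Cores.pPrimeCore_coprime (G := Subgroup.centralizer ({a} : Set G)) 2
  exact Nat.coprime_two_right.1 h

theorem pow_of_bar (a : G) (z : Subgroup.centralizer ({a} : Set G)) (h : bar a z = 1) :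
    z ^ Nat.card (Cfsg.pPrimeCore 2 (Subgroup.centralizer ({a} : Set G))) = 1 := by
  rw [bar_eq_one_iff] at h
  exact congrArg Subtype.val (pow_card_eq_one' (x := (⟨z, h⟩ : Cfsg.pPrimeCore 2 _)))

theorem bar_surjective (a : G) : Function.Surjective (bar a) := QuotientGroup.mk'_surjective _

variable {a : G} (ha2 : a * a = 1) (hL : LocHyp a)

include ha2 hL

theorem exists_G : ∃ u, GI a u := by
  obtain ⟨F1, F2, _, _, _, _, L, H⟩ := hL
  obtain ⟨y, hy⟩ := exists_C (C := Subgroup.centralizer ({a} : Set G)) H (Subtype.ext ha2)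
    (bar_surjective a) (odd_core a) (pow_of_bar a)
  exact ⟨y, ⟨(Subgroup.mem_centralizer_singleton_iff.1 y.2).symm, congrArg Subtype.val hy.1,
    fun h => hy.2.1 (Subtype.ext h), fun h => hy.2.2 (Subtype.ext h)⟩⟩

/-- a third involution -/
theorem third_G {u : G} (hu : GI a u) :
    ∃ u', GI a u' ∧ u * u' = u' * u ∧ u' ≠ u ∧ u' ≠ u * a := by
  obtain ⟨F1, F2, _, _, _, _, L, H⟩ := hL
  have hcen : ∀ c : Subgroup.centralizer ({a} : Set G),
      c * ⟨a, Subgroup.mem_centralizer_singleton_iff.2 rfl⟩ =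
        ⟨a, Subgroup.mem_centralizer_singleton_iff.2 rfl⟩ * c :=
    fun c => Subtype.ext (Subgroup.mem_centralizer_singleton_iff.1 c.2)
  obtain ⟨y, hy, hyc, h1, h2⟩ := third_C hcen (Subtype.ext ha2) H (bar_surjective a) (odd_core a)
    (pow_of_bar a) (u := ⟨u, Subgroup.mem_centralizer_singleton_iff.2 hu.1.symm⟩)
    ⟨Subtype.ext hu.2.1, fun h => hu.2.2.1 (congrArg Subtype.val h),
      fun h => hu.2.2.2 (congrArg Subtype.val h)⟩
  exact ⟨y, ⟨(Subgroup.mem_centralizer_singleton_iff.1 y.2).symm, congrArg Subtype.val hy.1,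
    fun h => hy.2.1 (Subtype.ext h), fun h => hy.2.2 (Subtype.ext h)⟩,
    congrArg Subtype.val hyc, fun h => h1 (Subtype.ext h), fun h => h2 (Subtype.ext h)⟩

/-- connectivity in `C(a)` -/
theorem conn_G (U : G → Prop) (hne : ∃ u, GI a u ∧ U u)
    (hc : ∀ u u', GI a u → GI a u' → u * u' = u' * u → U u → U u')
    (hn : ∀ n u, n ∈ centralizerPPrimeCore 2 a → U u → U (n * u * n⁻¹)) :
    ∀ u, GI a u → U u := by
  obtain ⟨F1, F2, _, _, _, _, L, H⟩ := hL
  have hcen : ∀ c : Subgroup.centralizer ({a} : Set G),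
      c * ⟨a, Subgroup.mem_centralizer_singleton_iff.2 rfl⟩ =
        ⟨a, Subgroup.mem_centralizer_singleton_iff.2 rfl⟩ * c :=
    fun c => Subtype.ext (Subgroup.mem_centralizer_singleton_iff.1 c.2)
  have hGI : ∀ y : Subgroup.centralizer ({a} : Set G),
      CInv ⟨a, Subgroup.mem_centralizer_singleton_iff.2 rfl⟩ y → GI a y := fun y hy =>
    ⟨(Subgroup.mem_centralizer_singleton_iff.1 y.2).symm, congrArg Subtype.val hy.1,
      fun h => hy.2.1 (Subtype.ext h), fun h => hy.2.2 (Subtype.ext h)⟩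
  have hCI : ∀ u (hu : GI a u), CInv ⟨a, Subgroup.mem_centralizer_singleton_iff.2 rfl⟩
      (⟨u, Subgroup.mem_centralizer_singleton_iff.2 hu.1.symm⟩ :
        Subgroup.centralizer ({a} : Set G)) := fun u hu =>
    ⟨Subtype.ext hu.2.1, fun h => hu.2.2.1 (congrArg Subtype.val h),
      fun h => hu.2.2.2 (congrArg Subtype.val h)⟩
  intro u hu
  refine conn_C hcen (Subtype.ext ha2) H (bar_surjective a) (odd_core a)
    (pow_of_bar a) (fun y => U (y : G)) ?_ ?_ ?_ _ (hCI u hu)
  · obtain ⟨u, hu, hU⟩ := hne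
    exact ⟨_, hCI u hu, hU⟩
  · intro y y' hy hy' hcm hU
    exact hc y y' (hGI y hy) (hGI y' hy') (congrArg Subtype.val hcm) hU
  · intro n y hn1 hU
    exact hn n y (mem_core_of_bar hn1) hU

omit hL in
omit [Finite G] in
theorem gi_symm {u : G} (hu : GI a u) (ha1 : a ≠ 1) : GI u a :=
  ⟨hu.1.symm, ha2, ha1, fun h => hu.2.2.2 h.symm⟩

/-- two commuting involutions lie in a big subgroup -/
theorem exists_big (ha1 : a ≠ 1) {u : G} (hu : GI a u) : ∃ A, Big A ∧ a ∈ A ∧ u ∈ A := by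
  obtain ⟨u', hu', hc, h1, h2⟩ := third_G ha2 hL hu
  refine ⟨_, big_triple ha2 hu.2.1 hu'.2.1 hu.1 hu'.1 hc ha1 hu.2.2.1 (Ne.symm hu.2.2.2)
    hu'.2.2.1 hu'.2.2.2 h1 ?_, ?_, ?_⟩
  · rw [hu.1]
    exact h2
  · exact Subgroup.mem_sup_left (left_mem_four a u)
  · exact Subgroup.mem_sup_left (right_mem_four a u)

end group

/-! ### The closing argument -/

section closing

variable {G : Type*} [Group G] [Finite G] (hF : Fun G)

theorem exists_other {A : Subgroup G} (hA : Big A) {s : G} (hs : s ∈ A) :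
    ∃ u ∈ A, GI s u := by
  by_contra hcon
  push Not at hcon
  have h1 : A ≤ Subgroup.zpowers s := by
    intro x hx
    by_cases hx1 : x = 1
    · rw [hx1]; exact one_mem _
    · by_cases hxs : x = s
      · rw [hxs]; exact Subgroup.mem_zpowers s
      · exact absurd ⟨elem_comm hA.1 s hs x hx, elem_sq hA.1 hx, hx1, hxs⟩ (hcon x hx)
  have h2 : Nat.card A ≤ Nat.card (Subgroup.zpowers s) := Subgroup.card_le_of_le h1
  have h3 : Nat.card (Subgroup.zpowers s) ≤ 2 := by
    rw [Nat.card_zpowers]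
    exact orderOf_le_of_pow_eq_one (by norm_num) (by rw [pow_two]; exact elem_sq hA.1 hs)
  have h4 := hA.2
  omega

include hF

/-- `W` of a four-group is closed under commuting -/
theorem W_four_closed {a u u' : G} (ha2 : a * a = 1) (ha1 : a ≠ 1) (hu : GI a u) (hu' : GI a u')
    (hc : u * u' = u' * u) : W (four a u) = W (four a u') := by
  by_cases h1 : u' = u
  · rw [h1]
  by_cases h2 : u' = a * u
  · have : four a u' = four a u := by
      apply le_antisymm
      · refine four_le (left_mem_four a u) ?_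
        rw [h2]
        exact mul_mem (left_mem_four a u) (right_mem_four a u)
      · refine four_le (left_mem_four a u') ?_
        have h3 : u = a * u' := by rw [h2, ← mul_assoc, ha2, one_mul]
        rw [h3]
        exact mul_mem (left_mem_four a u') (right_mem_four a u')
    rw [this]
  have hB := big_triple ha2 hu.2.1 hu'.2.1 hu.1 hu'.1 hc ha1 hu.2.2.1 (Ne.symm hu.2.2.2)
    hu'.2.2.1 hu'.2.2.2 h1 h2
  have ha := Subgroup.mem_sup_left (T := Subgroup.zpowers u') (left_mem_four a u)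
  rw [W_four hF hB ha (Subgroup.mem_sup_left (right_mem_four a u)) ha1 hu.2.2.1
    (Ne.symm hu.2.2.2), W_four hF hB ha (Subgroup.mem_sup_right (Subgroup.mem_zpowers u')) ha1
    hu'.2.2.1 (Ne.symm hu'.2.2.2)]

/-- `W (four a u)` does not depend on `u` -/
theorem W_four_const {a : G} (ha2 : a * a = 1) (ha1 : a ≠ 1) (hL : LocHyp a) {u0 : G}
    (hu0 : GI a u0) : ∀ u, GI a u → W (four a u) = W (four a u0) := by
  refine conn_G ha2 hL (fun u => W (four a u) = W (four a u0)) ⟨u0, hu0, rfl⟩ ?_ ?_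
  · intro u u' hu hu' hc hU
    rw [← W_four_closed hF ha2 ha1 hu hu' hc]
    exact hU
  · intro n u hn hU
    have h1 : n * a * n⁻¹ = a := by
      have := Subgroup.mem_centralizer_singleton_iff.1 (th_le a hn)
      rw [this, mul_inv_cancel_right]
    have h2 := W_four_conj a u n
    rw [h1] at h2
    rw [← h2, hU]
    apply map_eq_of_mem_normalizer
    apply Subgroup.le_normalizer
    exact le_W (four a u0) (left_mem_four a u0) ha1 hn

variable (hL : ∀ v : G, orderOf v = 2 → LocHyp v)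

include hL

/-- `W A = W A'` for big subgroups with a common involution -/
theorem W_eq_of_mem {s : G} (hs : orderOf s = 2) {A A' : Subgroup G} (hA : Big A) (hsA : s ∈ A)
    (hA' : Big A') (hsA' : s ∈ A') : W A = W A' := by
  obtain ⟨u, hu, hGu⟩ := exists_other hA hsA
  obtain ⟨u', hu', hGu'⟩ := exists_other hA' hsA'
  have hs1 := ne_one_of_orderOf hs
  rw [← W_four hF hA hsA hu hs1 hGu.2.2.1 (Ne.symm hGu.2.2.2),
    ← W_four hF hA' hsA' hu' hs1 hGu'.2.2.1 (Ne.symm hGu'.2.2.2)]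
  exact W_four_const hF (sq_of_orderOf hs) hs1 (hL s hs) hGu' u hGu

theorem centralizer_le {s : G} (hs : orderOf s = 2) {A : Subgroup G} (hA : Big A) (hsA : s ∈ A) :
    Subgroup.centralizer ({s} : Set G) ≤ Subgroup.normalizer (W A : Set G) := by
  intro c hc
  apply mem_normalizer_of_map_eq
  rw [W_conj]
  refine W_eq_of_mem hF hL hs (big_map hA (MulAut.conj c).injective) ⟨s, hsA, ?_⟩ hA hsA
  have := Subgroup.mem_centralizer_singleton_iff.1 hc
  change c * s * c⁻¹ = s
  rw [this, mul_inv_cancel_right]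

/-- all the `W_A` with `A ∩ S ≠ 1` coincide. -/
theorem W_eq_of_mem_sylow {S : Subgroup G} {z : G} (hz2 : z * z = 1) (hz1 : z ≠ 1)
    (hzc : ∀ t ∈ S, t * z = z * t)
    {A₀ : Subgroup G} (hA₀ : Big A₀) (hzA₀ : z ∈ A₀) {s : G} (hs : orderOf s = 2)
    (hsS : s ∈ S) {A : Subgroup G} (hA : Big A) (hsA : s ∈ A) : W A = W A₀ := by
  have hoz := orderOf_two hz2 hz1
  by_cases hsz : s = z
  · exact W_eq_of_mem hF hL hoz hA (hsz ▸ hsA) hA₀ hzA₀
  · have hG : GI z s := ⟨(hzc s hsS).symm, sq_of_orderOf hs, ne_one_of_orderOf hs, hsz⟩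
    obtain ⟨A₁, hA₁, hzA₁, hsA₁⟩ := exists_big hz2 (hL z hoz) hz1 hG
    rw [W_eq_of_mem hF hL hs hA hsA hA₁ hsA₁, W_eq_of_mem hF hL hoz hA₁ hzA₁ hA₀ hzA₀]

omit hF in
/-- every involution lies in a big subgroup -/
theorem exists_big_of_mem {v : G} (hv : orderOf v = 2) : ∃ A, Big A ∧ v ∈ A := by
  obtain ⟨u, hu⟩ := exists_G (sq_of_orderOf hv) (hL v hv)
  obtain ⟨A, hA, hvA, _⟩ := exists_big (sq_of_orderOf hv) (hL v hv) (ne_one_of_orderOf hv) hu
  exact ⟨A, hA, hvA⟩

/-- **Closing.**  The cores of the centralizers of involutions are trivial. -/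
theorem core_eq_bot (hO : oddCore G = ⊥)
    (hSE : ∀ H : Subgroup G, IsStronglyEmbedded H → (oddCore ↥H).map H.subtype ≤ oddCore G)
    {t : G} (ht : orderOf t = 2) : centralizerPPrimeCore 2 t = ⊥ := by
  have h2 : Fact (Nat.Prime 2) := ⟨Nat.prime_two⟩
  obtain ⟨S⟩ : Nonempty (Sylow 2 G) := inferInstance
  -- conjugate an involution into `S`
  have hconjS : ∀ s : G, orderOf s = 2 → ∃ g : G, g * s * g⁻¹ ∈ (S : Subgroup G) := by
    intro s hs
    obtain ⟨g, _, hle⟩ := (isMaxP_of_le S (le_top : (S : Subgroup G) ≤ ⊤)).exists_conj_le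
      (isPGroup_zpowers hs) le_top
    exact ⟨g, hle ⟨s, Subgroup.mem_zpowers s, rfl⟩⟩
  have horder : ∀ s g : G, orderOf s = 2 → orderOf (g * s * g⁻¹) = 2 := by
    intro s g hs
    rw [← hs]
    exact orderOf_injective (MulAut.conj g).toMonoidHom (MulAut.conj g).injective s
  have hSne : (S : Subgroup G) ≠ ⊥ := by
    intro h
    obtain ⟨g, hg⟩ := hconjS t ht
    rw [h, Subgroup.mem_bot] at hg
    have := horder t g ht
    rw [hg, orderOf_one] at this
    omega
  obtain ⟨z, hzS, hz2, hz1, hzc⟩ := exists_central_involution S.2 hSne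
  have hoz := orderOf_two hz2 hz1
  obtain ⟨A₀, hA₀, hzA₀⟩ := exists_big_of_mem hL hoz
  obtain ⟨V, hV⟩ : ∃ V, V = W A₀ := ⟨_, rfl⟩
  have hVS : ∀ s : G, orderOf s = 2 → s ∈ (S : Subgroup G) → ∀ A : Subgroup G, Big A → s ∈ A →
      W A = V := by
    intro s hs hsS A hA hsA
    rw [hV]
    exact W_eq_of_mem_sylow hF hL hz2 hz1 hzc hA₀ hzA₀ hs hsS hA hsA
  obtain ⟨H, hH⟩ : ∃ H, H = Subgroup.normalizer (V : Set G) := ⟨_, rfl⟩
  have hSH : (S : Subgroup G) ≤ H := by
    intro x hx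
    rw [hH, hV]
    exact centralizer_le hF hL hoz hA₀ hzA₀ (mem_cent.2 (hzc x hx))
  have hmaxH : IsMaxP 2 H (S : Subgroup G) := isMaxP_of_le S hSH
  -- involutions of `H`
  have hVH : ∀ s : G, orderOf s = 2 → s ∈ H → ∀ A : Subgroup G, Big A → s ∈ A → W A = V := by
    intro s hs hsH A hA hsA
    obtain ⟨h, hh, hle⟩ := hmaxH.exists_conj_le (isPGroup_zpowers hs)
      (by rwa [Subgroup.zpowers_le])
    have h1 : h * s * h⁻¹ ∈ (S : Subgroup G) := hle ⟨s, Subgroup.mem_zpowers s, rfl⟩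
    have h3 := hVS (h * s * h⁻¹) (horder s h hs) h1 (A.map (MulAut.conj h).toMonoidHom)
      (big_map hA (MulAut.conj h).injective) ⟨s, hsA, rfl⟩
    rw [← W_conj] at h3
    have h4 : h⁻¹ ∈ Subgroup.normalizer (V : Set G) := inv_mem (hH ▸ hh)
    have h5 := map_conj_inv (W A) h
    rw [h3, map_eq_of_mem_normalizer h4] at h5
    exact h5.symm
  have hfus : ∀ s g : G, orderOf s = 2 → s ∈ H → g * s * g⁻¹ ∈ H → g ∈ H := by
    intro s g hs hsH hgH
    obtain ⟨A, hA, hsA⟩ := exists_big_of_mem hL hs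
    have h1 := hVH s hs hsH A hA hsA
    have h3 := hVH (g * s * g⁻¹) (horder s g hs) hgH (A.map (MulAut.conj g).toMonoidHom)
      (big_map hA (MulAut.conj g).injective) ⟨s, hsA, rfl⟩
    rw [← W_conj, h1] at h3
    rw [hH]
    exact mem_normalizer_of_map_eq h3
  have hVodd : (Nat.card V).Coprime 2 := by
    rw [hV]
    exact ((Nat.Prime.coprime_iff_not_dvd Nat.prime_two).2
      (Dichotomy.Functor.complete hF hA₀).1).symm
  have hVbot : V = ⊥ := by
    by_cases hHt : H = ⊤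
    · have hn : V.Normal := Subgroup.normalizer_eq_top_iff.1 (hH ▸ hHt)
      have h3 : V ≤ oddCore G := Lib.Cores.le_pPrimeCore hn hVodd
      rw [hO] at h3
      exact le_bot_iff.1 h3
    · have hse : IsStronglyEmbedded H := by
        refine ⟨hHt, ?_, ?_⟩
        · rw [even_iff_two_dvd]
          have h3 : orderOf (⟨z, hSH hzS⟩ : H) = 2 := by
            rw [← Subgroup.orderOf_coe]; exact hoz
          rw [← h3]
          exact orderOf_dvd_natCard _
        · intro g hg
          by_contra hodd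
          rw [Nat.not_odd_iff_even, even_iff_two_dvd] at hodd
          obtain ⟨u, hu⟩ := exists_prime_orderOf_dvd_card' 2 hodd
          have hu' : orderOf (u : G) = 2 := by rw [Subgroup.orderOf_coe, hu]
          have h3 := u.2.1
          have h4 := mem_map_conj.1 u.2.2
          apply hg
          refine hfus (g⁻¹ * u * g) g ?_ h4 ?_
          · have := horder u g⁻¹ hu'
            rwa [inv_inv] at this
          · have : g * (g⁻¹ * (u : G) * g) * g⁻¹ = u := by group
            rw [this]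
            exact h3
      have h3 := hSE _ hse
      rw [hO] at h3
      have hVH' : V ≤ H := by rw [hH]; exact Subgroup.le_normalizer
      have hn : (V.subgroupOf H).Normal := by
        rw [Subgroup.normal_subgroupOf_iff_le_normalizer hVH', hH]
      have h4 : V.subgroupOf H ≤ oddCore H := by
        refine Lib.Cores.le_pPrimeCore hn ?_
        rwa [Nat.card_congr (Subgroup.subgroupOfEquivOfLe hVH').toEquiv]
      have h5 := (Subgroup.map_mono (f := H.subtype) h4).trans h3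
      rw [Subgroup.subgroupOf_map_subtype, inf_eq_left.mpr hVH'] at h5
      exact le_bot_iff.1 h5
  -- conclusion
  obtain ⟨g, hg⟩ := hconjS t ht
  have hgt := horder t g ht
  obtain ⟨A, hA, htA⟩ := exists_big_of_mem hL hgt
  have h3 := hVS _ hgt hg A hA htA
  have h4 := le_W A htA (ne_one_of_orderOf hgt)
  rw [h3, hVbot, th_conj] at h4
  rw [le_bot_iff] at h4
  exact (Subgroup.map_eq_bot_iff_of_injective _ (MulAut.conj g).injective).1 h4

end closing

end Cfsg.Agent.GTwoOdd.Core.ClosingB
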