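import Cfsg.Agent.Lib.PGroupCoprimeAction
import Cfsg.Agent.Lib.GoldschmidtFusion
import Cfsg.Agent.TwoFusion.ClosedLocal
import Cfsg.Agent.SignalizersComponents.CoprimeBasic

/-!
# Transitivity on maximal invariant `r`-subgroups

`V ≤ S₀`, `S₀` a 2-group, `W` the odd part of `C(V)`, `T` an `S₀`-invariant Sylow `r`-subgroup of `W`.
Under the pushing-up hypothesis `push`, the maximal `S₀`-invariant `r`-subgroups containing `T` are conjugate under
`C(S₀) ⊓ N(T)`, and one of them contains a Sylow `r`-subgroup of every core `O v`, `v ∈ V`.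
-/

set_option autoImplicit false
set_option linter.style.haveILetI false

namespace Cfsg.Agent.GTwoOdd.Core.Trans

open Subgroup
open Cfsg.Agent.TwoFusion.ClosedFam (core)
open Cfsg.Agent.Lib.GoldschmidtFusion (mem_map_conj conj_mem_map_conj card_map_conj lt_inf_normalizer
  mem_normalizer_iff_map_conj map_conj_map_conj)
open Cfsg.Agent.Lib.PGroupCoprimeAction (exists_invariant_sylow_ge exists_centralizer_conj)

variable {G : Type*} [Group G]

/-- `S` is a Sylow `q`-subgroup of `H`. -/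
def SylIn (q : ℕ) (S H : Subgroup G) : Prop := ∃ P : Sylow q H, (P : Subgroup H).map H.subtype = S

theorem SylIn.le {q : ℕ} {S H : Subgroup G} (h : SylIn q S H) : S ≤ H := by
  obtain ⟨P, rfl⟩ := h
  exact map_subtype_le _

theorem SylIn.isPGroup {q : ℕ} {S H : Subgroup G} (h : SylIn q S H) : IsPGroup q S := by
  obtain ⟨P, rfl⟩ := h
  exact P.2.map _

theorem sylIn_iff {q : ℕ} {S H : Subgroup G} :
    SylIn q S H ↔ S ≤ H ∧ IsPGroup q S ∧ ∀ Q : Subgroup G, Q ≤ H → IsPGroup q Q → S ≤ Q → Q = S :=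
  Cfsg.Agent.Blocks.SylowIn.exists_sylow_map_eq_iff

/-- A Sylow subgroup meets a subgroup normalised by `H` in a Sylow subgroup. -/
theorem SylIn.inf [Finite G] {q : ℕ} [Fact q.Prime] {S H N : Subgroup G} (h : SylIn q S H) (hNH : N ≤ H)
    (hn : ∀ g ∈ H, ∀ x ∈ N, g * x * g⁻¹ ∈ N) : SylIn q (S ⊓ N) N := by
  rw [sylIn_iff]
  refine ⟨inf_le_right, h.isPGroup.to_le inf_le_left, fun Q hQN hQ hSQ => ?_⟩
  obtain ⟨R, hQR, hR⟩ : ∃ R : Subgroup G, Q ≤ R ∧ SylIn q R H := by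
    have hQ' : IsPGroup q (Q.subgroupOf H) := hQ.of_equiv (subgroupOfEquivOfLe (hQN.trans hNH)).symm
    obtain ⟨P, hP⟩ := hQ'.exists_le_sylow
    exact ⟨(P : Subgroup H).map H.subtype, fun x hx => ⟨⟨x, hNH (hQN hx)⟩, hP hx, rfl⟩, P, rfl⟩
  obtain ⟨k, hk, hkR⟩ := Cfsg.Agent.Blocks.SylowIn.exists_conj_of_sylow_map_eq hR h
  have h1 : Q.map (MulAut.conj k).toMonoidHom ≤ S ⊓ N := by
    rintro _ ⟨x, hx, rfl⟩
    refine mem_inf.2 ⟨?_, hn k hk x (hQN hx)⟩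
    rw [← hkR]
    exact ⟨x, hQR hx, rfl⟩
  have h2 : Nat.card Q ≤ Nat.card (S ⊓ N : Subgroup G) := by
    rw [← card_map_conj Q k]
    exact card_le_of_le h1
  exact (eq_of_le_of_card_ge hSQ h2).symm

/-- Conjugation. -/
theorem SylIn.map_conj [Finite G] {q : ℕ} [Fact q.Prime] {S H : Subgroup G} (h : SylIn q S H) {k : G}
    (hk : H.map (MulAut.conj k).toMonoidHom = H) : SylIn q (S.map (MulAut.conj k).toMonoidHom) H := by
  rw [sylIn_iff] at h ⊢
  obtain ⟨h1, h2, h3⟩ := h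
  refine ⟨by rw [← hk]; exact map_mono h1, h2.map _, fun Q hQH hQ hSQ => ?_⟩
  have hk' : H.map (MulAut.conj k⁻¹).toMonoidHom = H := by
    conv_lhs => rw [← hk]
    rw [map_conj_map_conj, inv_mul_cancel]
    ext x
    rw [mem_map_conj]
    simp
  have h4 := h3 (Q.map (MulAut.conj k⁻¹).toMonoidHom) (by rw [← hk']; exact map_mono hQH) (hQ.map _) (by
    intro x hx
    rw [mem_map_conj]
    have h5 := hSQ (mem_map_of_mem (MulAut.conj k).toMonoidHom hx)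
    simpa using h5)
  rw [← h4, map_conj_map_conj, mul_inv_cancel]
  ext x
  rw [mem_map_conj]
  simp

theorem exists_mul_of_mem_sup {O Y : Subgroup G} (hn : Y ≤ normalizer (O : Set G)) {x : G} (hx : x ∈ O ⊔ Y) :
    ∃ o ∈ O, ∃ y ∈ Y, x = o * y := by
  have h1 : x ∈ ((O ⊔ Y : Subgroup G) : Set G) := hx
  rw [coe_mul_of_right_le_normalizer_left O Y hn] at h1
  obtain ⟨o, ho, y, hy, rfl⟩ := h1
  exact ⟨o, ho, y, hy, rfl⟩

theorem pow_mem_of_mem_sup {O Y : Subgroup G} {r : ℕ} (hn : Y ≤ normalizer (O : Set G)) (hY : IsPGroup r Y)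
    {x : G} (hx : x ∈ O ⊔ Y) : ∃ k, x ^ r ^ k ∈ O := by
  obtain ⟨o, ho, y, hy, rfl⟩ := exists_mul_of_mem_sup hn hx
  obtain ⟨k, hk⟩ := hY ⟨y, hy⟩
  have hk' : y ^ r ^ k = 1 := by simpa using congrArg Subtype.val hk
  have key : ∀ n : ℕ, (o * y) ^ n * (y ^ n)⁻¹ ∈ O := by
    intro n
    induction n with
    | zero => simp
    | succ n ih =>
      have e : (o * y) ^ (n + 1) * (y ^ (n + 1))⁻¹ = ((o * y) ^ n * (y ^ n)⁻¹) * (y ^ n * o * (y ^ n)⁻¹) := by
        rw [pow_succ, pow_succ]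
        group
      rw [e]
      exact mul_mem ih ((mem_normalizer_iff.1 (hn (pow_mem hy n)) o).1 ho)
  refine ⟨k, ?_⟩
  have := key (r ^ k)
  rwa [hk', inv_one, mul_one] at this

/-- If `X / (X ⊓ O)` is an `r`-group and `T` is a Sylow `r`-subgroup of `X` then `X ≤ O T`. -/
theorem le_sup_of_sylow [Finite G] {r : ℕ} [Fact r.Prime] {X O T : Subgroup G} (hT : SylIn r T X)
    (hn : X ≤ normalizer (O : Set G)) (hp : ∀ x ∈ X, ∃ k, x ^ r ^ k ∈ O) : X ≤ O ⊔ T := by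
  obtain ⟨P, rfl⟩ := hT
  haveI hN : (O.subgroupOf X).Normal := Subgroup.normal_subgroupOf_of_le_normalizer hn
  have h1 : IsPGroup r (X ⧸ O.subgroupOf X) := by
    intro q
    obtain ⟨x, rfl⟩ := QuotientGroup.mk'_surjective _ q
    obtain ⟨k, hk⟩ := hp x x.2
    refine ⟨k, ?_⟩
    rw [← map_pow, ← MonoidHom.mem_ker, QuotientGroup.ker_mk']
    exact mem_subgroupOf.2 (by simpa using hk)
  obtain ⟨n, hn'⟩ := IsPGroup.iff_card.1 h1
  have h2 : (O.subgroupOf X ⊔ (P : Subgroup X)).index ∣ r ^ n := by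
    rw [← hn', ← Subgroup.index_eq_card]
    exact index_dvd_of_le le_sup_left
  have h3 : (O.subgroupOf X ⊔ (P : Subgroup X)).index ∣ (P : Subgroup X).index := index_dvd_of_le le_sup_right
  have h4 : (O.subgroupOf X ⊔ (P : Subgroup X)).index = 1 := by
    obtain ⟨m, -, hm⟩ := (Nat.dvd_prime_pow (Fact.out : r.Prime)).1 h2
    rcases Nat.eq_zero_or_pos m with h0 | h0
    · rw [hm, h0, pow_zero]
    · exact absurd ((dvd_pow_self r h0.ne').trans (hm ▸ h3)) P.not_dvd_index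
  rw [index_eq_one] at h4
  intro x hx
  have h5 : (⟨x, hx⟩ : X) ∈ O.subgroupOf X ⊔ (P : Subgroup X) := h4 ▸ mem_top _
  have h6 : x ∈ (O.subgroupOf X ⊔ (P : Subgroup X)).map X.subtype := ⟨_, h5, rfl⟩
  rw [Subgroup.map_sup] at h6
  refine (sup_le (le_trans ?_ le_sup_left) le_sup_right : _ ≤ O ⊔ (P : Subgroup X).map X.subtype) h6
  rintro _ ⟨y, hy, rfl⟩
  exact mem_subgroupOf.1 hy

theorem SylIn.of_le [Finite G] {q : ℕ} {S H X : Subgroup G} (h : SylIn q S H) (hSX : S ≤ X) (hXH : X ≤ H) :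
    SylIn q S X := by
  rw [sylIn_iff] at h ⊢
  exact ⟨hSX, h.2.1, fun Q hQX hQ hSQ => h.2.2 Q (hQX.trans hXH) hQ hSQ⟩

theorem le_normalizer_of [Finite G] {B H : Subgroup G} (h : ∀ b ∈ B, ∀ u ∈ H, b * u * b⁻¹ ∈ H) :
    B ≤ normalizer (H : Set G) := by
  intro b hb
  rw [mem_normalizer_iff_map_conj]
  refine eq_of_le_of_card_ge ?_ (by rw [card_map_conj])
  rintro _ ⟨x, hx, rfl⟩
  exact h b hb x hx

theorem conj_mem_of {B H : Subgroup G} (h : B ≤ normalizer (H : Set G)) : ∀ b ∈ B, ∀ u ∈ H, b * u * b⁻¹ ∈ H :=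
  fun _ hb u hu => (mem_normalizer_iff.1 (h hb) u).1 hu

theorem not_two_dvd {H : Subgroup G} (hH : Odd (Nat.card H)) : ¬ 2 ∣ Nat.card H := by
  rwa [← even_iff_two_dvd, Nat.not_even_iff_odd]

/-- The data of the transitivity theorem. -/
structure Dat (V S₀ W T : Subgroup G) (O : G → Subgroup G) (r : ℕ) : Prop where
  two : IsPGroup 2 S₀
  odd : r ≠ 2
  V_le : V ≤ S₀
  le_cent : S₀ ≤ centralizer (V : Set G)
  W_le : W ≤ centralizer (V : Set G)
  W_odd : Odd (Nat.card W)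
  W_norm : ∀ c ∈ centralizer (V : Set G), ∀ w ∈ W, c * w * c⁻¹ ∈ W
  le_W : ∀ D : Subgroup G, IsPGroup r D → D ≤ centralizer (V : Set G) → D ≤ W
  T_syl : SylIn r T W
  T_norm : S₀ ≤ normalizer (T : Set G)
  O_le : ∀ v ∈ V, v ≠ 1 → O v ≤ centralizer ({v} : Set G)
  O_norm : ∀ v ∈ V, v ≠ 1 → ∀ c ∈ centralizer ({v} : Set G), ∀ u ∈ O v, c * u * c⁻¹ ∈ O v
  O_odd : ∀ v ∈ V, v ≠ 1 → Odd (Nat.card (O v))
  push : ∀ D : Subgroup G, IsPGroup r D → T ≤ D → S₀ ≤ normalizer (D : Set G) → ∀ Y : Subgroup G,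
    IsPGroup r Y → Y ≤ normalizer (D : Set G) → S₀ ≤ normalizer (Y : Set G) → Y ≤ core (normalizer (D : Set G))

/-- `S₀`-invariant `r`-subgroups containing `T`. -/
structure QQ (S₀ T : Subgroup G) (r : ℕ) (D : Subgroup G) : Prop where
  pgroup : IsPGroup r D
  le : T ≤ D
  norm : S₀ ≤ normalizer (D : Set G)

/-- Maximal ones. -/
def Mx (S₀ T : Subgroup G) (r : ℕ) (D : Subgroup G) : Prop :=
  QQ S₀ T r D ∧ ∀ E : Subgroup G, QQ S₀ T r E → D ≤ E → E = D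

theorem exists_mx [Finite G] {S₀ T D : Subgroup G} {r : ℕ} (h : QQ S₀ T r D) :
    ∃ E, Mx S₀ T r E ∧ D ≤ E := by
  obtain ⟨E, ⟨hE, hDE⟩, hmax⟩ :=
    (Set.toFinite {E : Subgroup G | QQ S₀ T r E ∧ D ≤ E}).exists_maximal ⟨D, h, le_rfl⟩
  exact ⟨E, ⟨hE, fun F hF hEF => le_antisymm (hmax ⟨hF, hDE.trans hEF⟩ hEF) hEF⟩, hDE⟩

theorem map_conj_one (H : Subgroup G) : H.map (MulAut.conj (1 : G)).toMonoidHom = H := by
  ext x
  rw [mem_map_conj]
  simp

theorem QQ.map_conj [Finite G] {S₀ T D : Subgroup G} {r : ℕ} (h : QQ S₀ T r D) {k : G}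
    (hk : k ∈ centralizer (S₀ : Set G)) (hkT : k ∈ normalizer (T : Set G)) :
    QQ S₀ T r (D.map (MulAut.conj k).toMonoidHom) where
  pgroup := h.pgroup.map _
  le := by
    have h1 := (mem_normalizer_iff_map_conj).1 hkT
    conv_lhs => rw [← h1]
    exact map_mono h.le
  norm := by
    refine le_normalizer_of fun b hb u hu => ?_
    rw [mem_map_conj] at hu ⊢
    have h1 : b * k = k * b := mem_centralizer_iff.1 hk b hb
    have h2 : k⁻¹ * b = b * k⁻¹ := by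
      rw [inv_mul_eq_iff_eq_mul, ← mul_assoc, ← h1, mul_inv_cancel_right]
    have h3 : b⁻¹ * k = k * b⁻¹ := by
      rw [inv_mul_eq_iff_eq_mul, ← mul_assoc, h1, mul_inv_cancel_right]
    have e : k⁻¹ * (b * u * b⁻¹) * k = b * (k⁻¹ * u * k) * b⁻¹ := by
      calc k⁻¹ * (b * u * b⁻¹) * k = (k⁻¹ * b) * u * (b⁻¹ * k) := by group
        _ = (b * k⁻¹) * u * (k * b⁻¹) := by rw [h2, h3]
        _ = b * (k⁻¹ * u * k) * b⁻¹ := by group
    rw [e]
    exact (mem_normalizer_iff.1 (h.norm hb) _).1 hu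

theorem Mx.map_conj [Finite G] {S₀ T D : Subgroup G} {r : ℕ} (h : Mx S₀ T r D) {k : G}
    (hk : k ∈ centralizer (S₀ : Set G)) (hkT : k ∈ normalizer (T : Set G)) :
    Mx S₀ T r (D.map (MulAut.conj k).toMonoidHom) := by
  refine ⟨h.1.map_conj hk hkT, fun E hE hDE => ?_⟩
  have h1 := h.2 (E.map (MulAut.conj k⁻¹).toMonoidHom) (hE.map_conj (inv_mem hk) (inv_mem hkT)) (by
    intro x hx
    rw [mem_map_conj]
    have h5 := hDE (mem_map_of_mem (MulAut.conj k).toMonoidHom hx)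
    simpa using h5)
  rw [← h1, map_conj_map_conj, mul_inv_cancel, map_conj_one]

set_option linter.unusedSectionVars false

namespace Dat

variable {V S₀ W T : Subgroup G} {O : G → Subgroup G} {r : ℕ} [Fact r.Prime] (h : Dat V S₀ W T O r)
include h

theorem cent_le : centralizer (S₀ : Set G) ≤ centralizer (V : Set G) := centralizer_le h.V_le

theorem qq_T : QQ S₀ T r T := ⟨h.T_syl.isPGroup, le_rfl, h.T_norm⟩

theorem inf_centralizer {D : Subgroup G} (hD : QQ S₀ T r D) : D ⊓ centralizer (V : Set G) = T := by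
  have h1 : D ⊓ centralizer (V : Set G) ≤ W := h.le_W _ (hD.pgroup.to_le inf_le_left) inf_le_right
  exact (sylIn_iff.1 h.T_syl).2.2 _ h1 (hD.pgroup.to_le inf_le_left)
    (le_inf hD.le (h.T_syl.le.trans h.W_le))

theorem exists_conj_aux [Finite G] : ∀ (m : ℕ) (Q₁ Q₂ : Subgroup G), Mx S₀ T r Q₁ → Mx S₀ T r Q₂ →
    Nat.card G ≤ m + Nat.card (Q₁ ⊓ Q₂ : Subgroup G) →
    ∃ k ∈ centralizer (S₀ : Set G), k ∈ normalizer (T : Set G) ∧ Q₁.map (MulAut.conj k).toMonoidHom = Q₂ := by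
  haveI : Fact (Nat.Prime 2) := ⟨Nat.prime_two⟩
  intro m
  induction m with
  | zero =>
    intro Q₁ Q₂ h₁ h₂ hcard
    rw [Nat.zero_add] at hcard
    have h1 : (Q₁ ⊓ Q₂ : Subgroup G) = ⊤ := eq_top_of_le_card _ hcard
    have h2 : Q₁ = ⊤ := top_le_iff.1 (h1 ▸ inf_le_left)
    have h3 : Q₂ = ⊤ := top_le_iff.1 (h1 ▸ inf_le_right)
    exact ⟨1, one_mem _, one_mem _, by rw [map_conj_one, h2, h3]⟩
  | succ m ih =>
    intro Q₁ Q₂ h₁ h₂ hcard
    set D : Subgroup G := Q₁ ⊓ Q₂ with hD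
    by_cases hD1 : D = Q₁
    · have h3 : Q₂ = Q₁ := h₁.2 Q₂ h₂.1 (by rw [← hD1]; exact inf_le_right)
      exact ⟨1, one_mem _, one_mem _, by rw [map_conj_one, h3]⟩
    by_cases hD2 : D = Q₂
    · have h3 : Q₁ = Q₂ := h₂.2 Q₁ h₁.1 (by rw [← hD2]; exact inf_le_left)
      exact ⟨1, one_mem _, one_mem _, by rw [map_conj_one, h3]⟩
    have hlt1 : D < Q₁ := lt_of_le_of_ne inf_le_left hD1
    have hlt2 : D < Q₂ := lt_of_le_of_ne inf_le_right hD2
    have hDQ : QQ S₀ T r D := by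
      refine ⟨h₁.1.pgroup.to_le inf_le_left, le_inf h₁.1.le h₂.1.le, le_normalizer_of fun b hb u hu => ?_⟩
      exact mem_inf.2 ⟨conj_mem_of h₁.1.norm b hb u (mem_inf.1 hu).1, conj_mem_of h₂.1.norm b hb u (mem_inf.1 hu).2⟩
    set N : Subgroup G := normalizer (D : Set G) with hN
    set K : Subgroup G := core N with hK
    have hKN : K ≤ N := map_subtype_le _
    have hKodd : Odd (Nat.card K) := Cfsg.Agent.TwoFusion.ClosedLocal.odd_core N
    have hS₀N : S₀ ≤ N := hDQ.norm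
    have hKinv : ∀ b ∈ N, ∀ u ∈ K, b * u * b⁻¹ ∈ K := by
      rintro b hb _ ⟨u, hu, rfl⟩
      haveI : (Cfsg.oddCore ↥N).Normal := Cfsg.Agent.Lib.Cores.pPrimeCore_normal 2
      exact ⟨⟨b, hb⟩ * u * ⟨b, hb⟩⁻¹, Normal.conj_mem inferInstance u hu _, rfl⟩
    -- the normalizers in `Q₁`, `Q₂`
    have hY : ∀ Q : Subgroup G, Mx S₀ T r Q → D ≤ Q → ∃ R : Subgroup G, SylIn r R K ∧
        (∀ b ∈ S₀, ∀ u ∈ R, b * u * b⁻¹ ∈ R) ∧ Q ⊓ N ≤ R := by
      intro Q hQ hDQ'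
      have hYn : S₀ ≤ normalizer ((Q ⊓ N : Subgroup G) : Set G) := by
        refine le_normalizer_of fun b hb u hu => mem_inf.2 ⟨conj_mem_of hQ.1.norm b hb u (mem_inf.1 hu).1, ?_⟩
        exact mul_mem (mul_mem (hS₀N hb) (mem_inf.1 hu).2) (inv_mem (hS₀N hb))
      have hYK : Q ⊓ N ≤ K :=
        h.push D hDQ.pgroup hDQ.le hDQ.norm (Q ⊓ N) (hQ.1.pgroup.to_le inf_le_left) inf_le_right hYn
      obtain ⟨R, hR, hRinv, hYR⟩ := exists_invariant_sylow_ge (A := S₀) (H := K) (q := r) (R := Q ⊓ N)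
        h.two (not_two_dvd hKodd) (fun b hb u hu => hKinv b (hS₀N hb) u hu) hYK
        (hQ.1.pgroup.to_le inf_le_left) (conj_mem_of hYn)
      exact ⟨R, hR, hRinv, hYR⟩
    obtain ⟨R₁, hR₁, hR₁i, hYR₁⟩ := hY Q₁ h₁ inf_le_left
    obtain ⟨R₂, hR₂, hR₂i, hYR₂⟩ := hY Q₂ h₂ inf_le_right
    obtain ⟨c, hc, hcR⟩ := exists_centralizer_conj (A := S₀) (H := K) (q := r) h.two (not_two_dvd hKodd)
      (fun b hb u hu => hKinv b (hS₀N hb) u hu) hR₂ hR₁ hR₂i hR₁i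
    obtain ⟨hcK, hcS⟩ := mem_inf.1 hc
    have hcN : c ∈ N := hKN hcK
    have hcT : c ∈ normalizer (T : Set G) := by
      have h4 := h.inf_centralizer hDQ
      have h5 : zpowers c ≤ normalizer (T : Set G) := by
        refine le_normalizer_of fun b hb u hu => ?_
        rw [← h4] at hu ⊢
        have hbN : b ∈ N := (zpowers_le.2 hcN) hb
        have hbC : b ∈ centralizer (V : Set G) := h.cent_le ((zpowers_le.2 hcS) hb)
        exact mem_inf.2 ⟨(mem_normalizer_iff.1 hbN u).1 (mem_inf.1 hu).1,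
          mul_mem (mul_mem hbC (mem_inf.1 hu).2) (inv_mem hbC)⟩
      exact h5 (mem_zpowers c)
    have hR₁Q : QQ S₀ T r R₁ :=
      ⟨hR₁.isPGroup, (hDQ.le.trans (le_inf hlt1.le le_normalizer)).trans hYR₁, le_normalizer_of hR₁i⟩
    obtain ⟨Q₃, hQ₃, hR₁Q₃⟩ := exists_mx hR₁Q
    have hgrow : ∀ Q : Subgroup G, IsPGroup r Q → D < Q → Nat.card D < Nat.card (Q ⊓ N : Subgroup G) := by
      intro Q hQ hDQ'
      have h4 : D < Q ⊓ N := lt_inf_normalizer hQ hDQ'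
      refine lt_of_le_of_ne (card_le_of_le h4.le) fun e => h4.ne (eq_of_le_of_card_ge h4.le e.ge)
    -- first application
    obtain ⟨k₁, hk₁, hk₁T, e₁⟩ := ih Q₁ Q₃ h₁ hQ₃ (by
      have h4 : Nat.card (Q₁ ⊓ N : Subgroup G) ≤ Nat.card (Q₁ ⊓ Q₃ : Subgroup G) :=
        card_le_of_le (le_inf inf_le_left (hYR₁.trans hR₁Q₃))
      have h5 := hgrow Q₁ h₁.1.pgroup hlt1
      omega)
    obtain ⟨k₂, hk₂, hk₂T, e₂⟩ := ih (Q₂.map (MulAut.conj c).toMonoidHom) Q₃ (h₂.map_conj hcS hcT) hQ₃ (by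
      have h4 : Nat.card (Q₂ ⊓ N : Subgroup G) ≤
          Nat.card (Q₂.map (MulAut.conj c).toMonoidHom ⊓ Q₃ : Subgroup G) := by
        rw [← card_map_conj (Q₂ ⊓ N) c]
        refine card_le_of_le (le_inf (map_mono inf_le_left) ?_)
        refine le_trans ?_ hR₁Q₃
        rw [← hcR]
        exact map_mono hYR₂
      have h5 := hgrow Q₂ h₂.1.pgroup hlt2
      omega)
    rw [map_conj_map_conj] at e₂
    refine ⟨(k₂ * c)⁻¹ * k₁, mul_mem (inv_mem (mul_mem hk₂ hcS)) hk₁,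
      mul_mem (inv_mem (mul_mem hk₂T hcT)) hk₁T, ?_⟩
    rw [← map_conj_map_conj, e₁, ← e₂, map_conj_map_conj, inv_mul_cancel, map_conj_one]

/-- **Transitivity.** -/
theorem exists_conj [Finite G] {Q₁ Q₂ : Subgroup G} (h₁ : Mx S₀ T r Q₁) (h₂ : Mx S₀ T r Q₂) :
    ∃ k ∈ centralizer (S₀ : Set G), k ∈ normalizer (T : Set G) ∧ Q₁.map (MulAut.conj k).toMonoidHom = Q₂ :=
  exists_conj_aux h (Nat.card G) Q₁ Q₂ h₁ h₂ (Nat.le_add_right _ _)

theorem odd_sup [Finite G] {v : G} (hv : v ∈ V) (hv1 : v ≠ 1) : Odd (Nat.card (O v ⊔ W : Subgroup G)) := by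
  have hW : W ≤ normalizer (O v : Set G) := by
    refine le_normalizer_of fun b hb u hu => h.O_norm v hv hv1 b ?_ u hu
    exact centralizer_le (Set.singleton_subset_iff.2 hv) (h.W_le hb)
  exact ((h.O_odd v hv hv1).mul h.W_odd).of_dvd_nat
    (Cfsg.Agent.SignalizersComponents.CoprimeBasic.card_sup_dvd hW)

/-- **One maximal subgroup contains Sylow `r`-subgroups of all the cores.** -/
theorem exists_common [Finite G] : ∃ Q : Subgroup G, Mx S₀ T r Q ∧ ∀ v ∈ V, v ≠ 1 →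
    SylIn r (Q ⊓ (O v ⊔ W)) (O v ⊔ W) ∧ SylIn r (Q ⊓ O v) (O v) := by
  haveI : Fact (Nat.Prime 2) := ⟨Nat.prime_two⟩
  obtain ⟨Q, hQ, -⟩ := exists_mx h.qq_T
  refine ⟨Q, hQ, fun v hv hv1 => ?_⟩
  have hCC : centralizer (V : Set G) ≤ centralizer ({v} : Set G) := centralizer_le (Set.singleton_subset_iff.2 hv)
  have hinv : ∀ c ∈ centralizer (V : Set G), ∀ u ∈ O v ⊔ W, c * u * c⁻¹ ∈ O v ⊔ W := by
    intro c hc
    have h1 : (O v ⊔ W : Subgroup G) ≤ (O v ⊔ W : Subgroup G).comap (MulAut.conj c).toMonoidHom := by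
      refine sup_le (fun u hu => ?_) (fun u hu => ?_)
      · exact mem_sup_left (h.O_norm v hv hv1 c (hCC hc) u hu)
      · exact mem_sup_right (h.W_norm c hc u hu)
    exact fun u hu => h1 hu
  have hodd := h.odd_sup hv hv1
  have hTle : T ≤ O v ⊔ W := h.T_syl.le.trans le_sup_right
  obtain ⟨R, hR, hRinv, hTR⟩ := exists_invariant_sylow_ge (A := S₀) (H := O v ⊔ W) (q := r) (R := T)
    h.two (not_two_dvd hodd) (fun b hb u hu => hinv b (h.le_cent hb) u hu) hTle h.T_syl.isPGroup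
    (conj_mem_of h.T_norm)
  have hRQ : QQ S₀ T r R := ⟨SylIn.isPGroup hR, hTR, le_normalizer_of hRinv⟩
  obtain ⟨Q', hQ', hRQ'⟩ := exists_mx hRQ
  obtain ⟨k, hk, -, hkQ⟩ := h.exists_conj hQ' hQ
  have hkC : k ∈ centralizer (V : Set G) := h.cent_le hk
  have hkH : (O v ⊔ W : Subgroup G).map (MulAut.conj k).toMonoidHom = O v ⊔ W := by
    refine eq_of_le_of_card_ge ?_ (by rw [card_map_conj])
    rintro _ ⟨x, hx, rfl⟩
    exact hinv k hkC x hx
  have h1 : SylIn r (R.map (MulAut.conj k).toMonoidHom) (O v ⊔ W) := SylIn.map_conj hR hkH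
  have h2 : R.map (MulAut.conj k).toMonoidHom = Q ⊓ (O v ⊔ W) := by
    refine ((sylIn_iff.1 h1).2.2 _ inf_le_right (hQ.1.pgroup.to_le inf_le_left) (le_inf ?_ h1.le)).symm
    rw [← hkQ]
    exact map_mono hRQ'
  rw [h2] at h1
  refine ⟨h1, ?_⟩
  have hW : W ≤ normalizer (O v : Set G) :=
    le_normalizer_of fun b hb u hu => h.O_norm v hv hv1 b (hCC (h.W_le hb)) u hu
  have hle : (O v ⊔ W : Subgroup G) ≤ normalizer (O v : Set G) := sup_le le_normalizer hW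
  have h3 := h1.inf (N := O v) le_sup_left (fun g hg x hx => (mem_normalizer_iff.1 (hle hg) x).1 hx)
  rwa [inf_assoc, inf_eq_right.2 (le_sup_left : O v ≤ O v ⊔ W)] at h3

/-- The centralizer of `v` in a member of `QQ`. -/
theorem inf_centralizer_singleton_le [Finite G] (hone : ∀ v ∈ V, v ≠ 1 → ∀ Y : Subgroup G, IsPGroup r Y →
    Y ≤ centralizer ({v} : Set G) → S₀ ≤ normalizer (Y : Set G) → Y ≤ O v ⊔ W) {D : Subgroup G}
    (hD : QQ S₀ T r D) {v : G} (hv : v ∈ V) (hv1 : v ≠ 1) :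
    D ⊓ centralizer ({v} : Set G) ≤ O v ⊔ T := by
  have hS₀v : S₀ ≤ centralizer ({v} : Set G) :=
    h.le_cent.trans (centralizer_le (Set.singleton_subset_iff.2 hv))
  have h1 : D ⊓ centralizer ({v} : Set G) ≤ O v ⊔ W := by
    refine hone v hv hv1 _ (hD.pgroup.to_le inf_le_left) inf_le_right (le_normalizer_of fun b hb u hu => ?_)
    exact mem_inf.2 ⟨conj_mem_of hD.norm b hb u (mem_inf.1 hu).1,
      mul_mem (mul_mem (hS₀v hb) (mem_inf.1 hu).2) (inv_mem (hS₀v hb))⟩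
  set Y : Subgroup G := D ⊓ centralizer ({v} : Set G) with hY
  have hTY : T ≤ Y := le_inf hD.le (h.T_syl.le.trans (h.W_le.trans (centralizer_le (Set.singleton_subset_iff.2 hv))))
  have hYn : Y ≤ normalizer (O v : Set G) :=
    le_normalizer_of fun b hb u hu => h.O_norm v hv hv1 b (mem_inf.1 hb).2 u hu
  have hWn : W ≤ normalizer (O v : Set G) :=
    le_normalizer_of fun b hb u hu => h.O_norm v hv hv1 b
      (centralizer_le (Set.singleton_subset_iff.2 hv) (h.W_le hb)) u hu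
  have hYr : IsPGroup r Y := hD.pgroup.to_le inf_le_left
  have hX : SylIn r T ((O v ⊔ Y) ⊓ W) :=
    h.T_syl.of_le (le_inf (hTY.trans le_sup_right) h.T_syl.le) inf_le_right
  have h2 : (O v ⊔ Y) ⊓ W ≤ O v ⊔ T :=
    le_sup_of_sylow hX (inf_le_right.trans hWn) fun x hx => pow_mem_of_mem_sup hYn hYr (mem_inf.1 hx).1
  intro y hy
  obtain ⟨o, ho, w, hw, e⟩ := exists_mul_of_mem_sup hWn (h1 hy)
  have hw' : w = o⁻¹ * y := by rw [e, inv_mul_cancel_left]
  have h3 : w ∈ O v ⊔ T := h2 (mem_inf.2 ⟨by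
    rw [hw']
    exact mul_mem (mem_sup_left (inv_mem ho)) (mem_sup_right hy), hw⟩)
  rw [e]
  exact mul_mem (mem_sup_left ho) h3

/-- Fixed points of a subgroup of `S₀` on the invariant Sylow subgroup of a core. -/
theorem fixed_sylow [Finite G] {Q : Subgroup G} (hQ : QQ S₀ T r Q) {v : G} (hv : v ∈ V) (hv1 : v ≠ 1)
    (hS : SylIn r (Q ⊓ O v) (O v)) {B : Subgroup G} (hB : B ≤ S₀) :
    SylIn r (Q ⊓ O v ⊓ centralizer (B : Set G)) (O v ⊓ centralizer (B : Set G)) := by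
  haveI : Fact (Nat.Prime 2) := ⟨Nat.prime_two⟩
  have hS₀v : S₀ ≤ centralizer ({v} : Set G) :=
    h.le_cent.trans (centralizer_le (Set.singleton_subset_iff.2 hv))
  have hOinv : ∀ b ∈ B, ∀ u ∈ O v, b * u * b⁻¹ ∈ O v := fun b hb => h.O_norm v hv hv1 b (hS₀v (hB hb))
  have hodd := h.O_odd v hv hv1
  rw [sylIn_iff]
  refine ⟨inf_le_inf_right _ inf_le_right, hQ.pgroup.to_le (inf_le_left.trans inf_le_left), fun R hR hRr hle => ?_⟩
  obtain ⟨R', hR', hR'i, hRR'⟩ := exists_invariant_sylow_ge (A := B) (H := O v) (q := r) (R := R)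
    (h.two.to_le hB) (not_two_dvd hodd) hOinv (hR.trans inf_le_left) hRr (fun b hb u hu => by
      have h1 := mem_centralizer_iff.1 (mem_inf.1 (hR hu)).2 b hb
      rw [h1, mul_inv_cancel_right]
      exact hu)
  obtain ⟨c, hc, hcR⟩ := exists_centralizer_conj (A := B) (H := O v) (q := r) (h.two.to_le hB)
    (not_two_dvd hodd) hOinv hR' hS hR'i (fun b hb u hu => mem_inf.2
      ⟨conj_mem_of (hB.trans hQ.norm) b hb u (mem_inf.1 hu).1, hOinv b hb u (mem_inf.1 hu).2⟩)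
  have h2 : R.map (MulAut.conj c).toMonoidHom ≤ Q ⊓ O v ⊓ centralizer (B : Set G) := by
    refine le_inf ((map_mono hRR').trans hcR.le) ?_
    rintro _ ⟨x, hx, rfl⟩
    exact mul_mem (mul_mem (mem_inf.1 hc).2 (mem_inf.1 (hR hx)).2) (inv_mem (mem_inf.1 hc).2)
  have h3 : Nat.card R ≤ Nat.card (Q ⊓ O v ⊓ centralizer (B : Set G) : Subgroup G) := by
    rw [← card_map_conj R c]
    exact card_le_of_le h2
  exact (eq_of_le_of_card_ge hle h3).symm

end Dat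

end Cfsg.Agent.GTwoOdd.Core.Trans
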