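import Cfsg.Agent.GTwoOdd.Core.Defs
import Cfsg.Agent.GTwoOdd.Core.Trans
import Cfsg.Agent.S0215
import Cfsg.Agent.S0949
import Cfsg.Agent.Lib.Cores
import Cfsg.Agent.TwoFusion.SylowTypeTransfer
import Cfsg.Agent.TwoFusion.SimpleOddIndex

/-!
# Pushing invariant `r`-subgroups into the core

`concl`: from the conclusion `FusionOut` of the fusion lemma, an `S0`-invariant `r`-subgroup `Y` of `N` lies in
`O(N)` as soon as `C_Y(v) ≤ O(C_N(v))` for the involutions `v` of `V` and `C_N(V)O(N)/O(N)` is an `r'`-group.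

The theorem on groups with wreathed Sylow 2-subgroups enters through the hypothesis `H5`: for `L` simple with
wreathed Sylow 2-subgroup and `v` an involution of `L`, `O(C_L(v)) ≤ Z(C_L(v))`.
-/

set_option autoImplicit false
set_option linter.style.haveILetI false

universe u

namespace Cfsg.Agent.GTwoOdd.Core.Concl

open Subgroup Cfsg

/-! ### Coprime action of an involution, by hand -/

/-- If `v² = 1` and `u = y⁻¹ yᵛ` has odd order, then `y s` is fixed by `v` for some `s ∈ ⟨u⟩` inverted by `v`. -/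
theorem exists_fixed {G : Type*} [Group G] {v y : G} (hv : v * v = 1)
    (hodd : Odd (orderOf (y⁻¹ * (v * y * v⁻¹)))) :
    ∃ s ∈ zpowers (y⁻¹ * (v * y * v⁻¹)), v * (y * s) = y * s * v ∧ v * s * v⁻¹ = s⁻¹ := by
  set u := y⁻¹ * (v * y * v⁻¹) with hu
  obtain ⟨k, hk⟩ := hodd
  have hvi : v⁻¹ = v := inv_eq_of_mul_eq_one_left hv
  have h1 : v * u * v⁻¹ = u⁻¹ := by
    calc v * u * v⁻¹ = v * y⁻¹ * v * y * (v⁻¹ * v⁻¹) := by rw [hu]; group
      _ = v * y⁻¹ * v⁻¹ * y := by rw [hvi, hv, mul_one]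
      _ = u⁻¹ := by rw [hu]; group
  have h2 : v * u ^ (k + 1) * v⁻¹ = (u ^ (k + 1))⁻¹ := by
    rw [← conj_pow, h1, inv_pow]
  have h3 : u ^ (k + 1) * u ^ (k + 1) = u := by
    rw [← pow_add, show k + 1 + (k + 1) = (2 * k + 1) + 1 by ring, pow_succ, ← hk, pow_orderOf_eq_one,
      one_mul]
  refine ⟨u ^ (k + 1), npow_mem_zpowers _ _, ?_, h2⟩
  have h4 : v * (y * u ^ (k + 1)) * v⁻¹ = y * u ^ (k + 1) := by
    calc v * (y * u ^ (k + 1)) * v⁻¹ = (v * y * v⁻¹) * (v * u ^ (k + 1) * v⁻¹) := by group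
      _ = (y * u) * (u ^ (k + 1))⁻¹ := by rw [h2, hu, mul_inv_cancel_left]
      _ = y * (u ^ (k + 1) * u ^ (k + 1)) * (u ^ (k + 1))⁻¹ := by rw [h3]
      _ = y * u ^ (k + 1) := by group
  calc v * (y * u ^ (k + 1)) = v * (y * u ^ (k + 1)) * v⁻¹ * v := by group
    _ = y * u ^ (k + 1) * v := by rw [h4]

theorem odd_orderOf {G : Type*} [Group G] [Finite G] {H : Subgroup G} (hH : Odd (Nat.card H)) {x : G}
    (hx : x ∈ H) : Odd (orderOf x) := by
  have h := orderOf_dvd_natCard (⟨x, hx⟩ : H)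
  rw [Subgroup.orderOf_mk] at h
  exact hH.of_dvd_nat h

/-- An involution acting without fixed points on a group of odd order inverts it. -/
theorem conj_eq_inv {G : Type*} [Group G] [Finite G] {Y : Subgroup G} (hY : Odd (Nat.card Y)) {v : G}
    (hv : v * v = 1) (hYv : ∀ y ∈ Y, v * y * v⁻¹ ∈ Y) (hfix : ∀ y ∈ Y, v * y = y * v → y = 1) {y : G}
    (hy : y ∈ Y) : v * y * v⁻¹ = y⁻¹ := by
  have hu : y⁻¹ * (v * y * v⁻¹) ∈ Y := mul_mem (inv_mem hy) (hYv y hy)
  obtain ⟨s, hs, h1, h2⟩ := exists_fixed hv (odd_orderOf hY hu)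
  have hsY : s ∈ Y := (zpowers_le.2 hu) hs
  have h3 : y * s = 1 := hfix _ (mul_mem hy hsY) h1
  have h4 : s = y⁻¹ := (inv_eq_of_mul_eq_one_right h3).symm
  rw [h4, inv_inv] at h2
  have h5 : (v * y * v⁻¹)⁻¹ = y := by
    rw [mul_inv_rev, mul_inv_rev, inv_inv, ← mul_assoc]
    exact h2
  exact inv_eq_iff_eq_inv.1 h5

/-- A four-group acting on a group of odd order, with no fixed points of its involutions. -/
theorem eq_bot_of_four {G : Type*} [Group G] [Finite G] {Y : Subgroup G} (hY : Odd (Nat.card Y)) {a b : G}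
    (ha : a * a = 1) (hb : b * b = 1) (hYa : ∀ y ∈ Y, a * y * a⁻¹ ∈ Y)
    (hYb : ∀ y ∈ Y, b * y * b⁻¹ ∈ Y) (fa : ∀ y ∈ Y, a * y = y * a → y = 1)
    (fb : ∀ y ∈ Y, b * y = y * b → y = 1) (fab : ∀ y ∈ Y, (a * b) * y = y * (a * b) → y = 1) : Y = ⊥ := by
  rw [eq_bot_iff_forall]
  intro y hy
  refine fab y hy ?_
  have h1 := conj_eq_inv hY hb hYb fb hy
  have h2 := conj_eq_inv hY ha hYa fa (inv_mem hy)
  rw [inv_inv] at h2
  have h3 : (a * b) * y * (a * b)⁻¹ = y := by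
    calc (a * b) * y * (a * b)⁻¹ = a * (b * y * b⁻¹) * a⁻¹ := by group
      _ = y := by rw [h1, h2]
  calc (a * b) * y = (a * b) * y * (a * b)⁻¹ * (a * b) := by group
    _ = y * (a * b) := by rw [h3]

/-! ### The core of the centralizer of an element -/

theorem mem_core_iff {G : Type*} [Group G] [Finite G] {v x : G} :
    x ∈ centralizerPPrimeCore 2 v ↔ ∃ M : Subgroup G, x ∈ M ∧ (∀ m ∈ M, m * v = v * m) ∧
      (∀ c, c * v = v * c → ∀ m ∈ M, c * m * c⁻¹ ∈ M) ∧ Odd (Nat.card M) := by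
  constructor
  · intro hx
    refine ⟨centralizerPPrimeCore 2 v, hx, ?_, ?_, ?_⟩
    · rintro _ ⟨m, -, rfl⟩
      exact mem_centralizer_singleton_iff.1 m.2
    · rintro c hc _ ⟨m, hm, rfl⟩
      haveI := Lib.Cores.pPrimeCore_normal (G := centralizer ({v} : Set G)) 2
      have hc' : c ∈ centralizer ({v} : Set G) := mem_centralizer_singleton_iff.2 hc
      exact ⟨⟨c, hc'⟩ * m * ⟨c, hc'⟩⁻¹, Normal.conj_mem inferInstance m hm _, rfl⟩
    · unfold centralizerPPrimeCore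
      rw [card_map_of_injective (subtype_injective _)]
      exact Nat.coprime_two_right.1 (Lib.Cores.pPrimeCore_coprime 2)
  · rintro ⟨M, hxM, hMv, hMn, hM⟩
    have hMC : M ≤ centralizer ({v} : Set G) := fun m hm => mem_centralizer_singleton_iff.2 (hMv m hm)
    have hN : (M.subgroupOf (centralizer ({v} : Set G))).Normal := by
      refine ⟨fun m hm c => ?_⟩
      exact hMn c (mem_centralizer_singleton_iff.1 c.2) m hm
    have hle : M.subgroupOf (centralizer ({v} : Set G)) ≤ pPrimeCore 2 (centralizer ({v} : Set G)) := by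
      refine Lib.Cores.le_pPrimeCore hN (Nat.coprime_two_right.2 ?_)
      rw [Nat.card_congr (subgroupOfEquivOfLe hMC).toEquiv]
      exact hM
    exact ⟨⟨x, hMC hxM⟩, hle (mem_subgroupOf.2 hxM), rfl⟩

/-! ### The case of an isolated involution -/

theorem le_core_of_isolated {N : Type*} [Group N] [Finite N] (P : Sylow 2 N) {v : N} (hv1 : v ≠ 1)
    (hv2 : v * v = 1) (hvP : v ∈ P) (hiso : ∀ g : N, g * v * g⁻¹ ∈ P → g * v * g⁻¹ = v) {Y : Subgroup N}
    (hYv : ∀ y ∈ Y, v * y * v⁻¹ ∈ Y)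
    (H4 : Y ⊓ centralizer ({v} : Set N) ≤ centralizerPPrimeCore 2 v) : Y ≤ pPrimeCore 2 N := by
  have hord : orderOf v = 2 := orderOf_eq_prime (by rw [pow_two, hv2]) hv1
  obtain ⟨M, hMn, hMo, hM⟩ := S0215.result P v hord hvP hiso
  -- every element is a product
  have hdec : ∀ g : N, ∃ s ∈ zpowers (g⁻¹ * (v * g * v⁻¹)), s ∈ M ∧ v * (g * s) = g * s * v := by
    intro g
    have h1 : g⁻¹ * (v * g * v⁻¹) ∈ M := by
      have h2 := hMn.conj_mem _ (hM g) g⁻¹
      have e : g⁻¹ * (v * g * v⁻¹ * g⁻¹) * g⁻¹⁻¹ = g⁻¹ * (v * g * v⁻¹) := by group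
      rwa [e] at h2
    obtain ⟨s, hs, h2, -⟩ := exists_fixed hv2 (odd_orderOf hMo h1)
    exact ⟨s, hs, (zpowers_le.2 h1) hs, h2⟩
  set O := pPrimeCore 2 N with hO
  have hMO : M ≤ O := Lib.Cores.le_pPrimeCore hMn (Nat.coprime_two_right.2 hMo)
  set K := centralizerPPrimeCore 2 v with hK
  have hKn : ∀ c, c * v = v * c → ∀ m ∈ K, c * m * c⁻¹ ∈ K := by
    rintro c hc _ ⟨m, hm, rfl⟩
    haveI := Lib.Cores.pPrimeCore_normal (G := centralizer ({v} : Set N)) 2
    have hc' : c ∈ centralizer ({v} : Set N) := mem_centralizer_singleton_iff.2 hc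
    exact ⟨⟨c, hc'⟩ * m * ⟨c, hc'⟩⁻¹, Normal.conj_mem inferInstance m hm _, rfl⟩
  have hKodd : Odd (Nat.card K) := by
    rw [hK]
    unfold centralizerPPrimeCore
    rw [card_map_of_injective (subtype_injective _)]
    exact Nat.coprime_two_right.1 (Lib.Cores.pPrimeCore_coprime 2)
  haveI := hMn
  have hKMn : (M ⊔ K).Normal := by
    refine ⟨fun x hx g => ?_⟩
    obtain ⟨s, -, hs, h1⟩ := hdec g
    have h2 : M ⊔ K ≤ (M ⊔ K).comap (MulAut.conj g).toMonoidHom := by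
      refine sup_le (fun m hm => mem_sup_left (hMn.conj_mem m hm g)) (fun k hk => ?_)
      change g * k * g⁻¹ ∈ M ⊔ K
      have h3 : (g * s) * k * (g * s)⁻¹ ∈ K := hKn _ h1.symm k hk
      have h4 : g * s⁻¹ * g⁻¹ ∈ M := hMn.conj_mem _ (inv_mem hs) g
      have h5 : g * k * g⁻¹ = (g * s⁻¹ * g⁻¹) * ((g * s) * k * (g * s)⁻¹) * (g * s⁻¹ * g⁻¹)⁻¹ := by
        group
      rw [h5]
      exact mul_mem (mul_mem (mem_sup_left h4) (mem_sup_right h3)) (inv_mem (mem_sup_left h4))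
    exact h2 hx
  have hKMO : M ⊔ K ≤ O := by
    refine Lib.Cores.le_pPrimeCore hKMn (Nat.coprime_two_right.2 ?_)
    exact (hMo.mul hKodd).of_dvd_nat (Lib.Cores.card_sup_dvd M K hMn)
  intro y hy
  obtain ⟨s, hs, hsM, h1⟩ := hdec y
  have hu : y⁻¹ * (v * y * v⁻¹) ∈ Y := mul_mem (inv_mem hy) (hYv y hy)
  have hsY : s ∈ Y := (zpowers_le.2 hu) hs
  have h2 : y * s ∈ K := H4 (mem_inf.2 ⟨mul_mem hy hsY, mem_centralizer_singleton_iff.2 h1.symm⟩)
  have h3 : y = (y * s) * s⁻¹ := by group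
  rw [h3]
  exact mul_mem (hKMO (mem_sup_right h2)) (inv_mem (hMO hsM))

/-! ### Groups `Z` with `O(Z) = 1` -/

theorem normal_core_bot {Z : Type*} [Group Z] [Finite Z] (hO : pPrimeCore 2 Z = ⊥) (M : Subgroup Z)
    (hM : M.Normal) (hodd : Odd (Nat.card M)) : M = ⊥ := by
  have h1 : M ≤ pPrimeCore 2 Z := Lib.Cores.le_pPrimeCore hM (Nat.coprime_two_right.2 hodd)
  rw [hO] at h1
  exact le_bot_iff.1 h1

/-- Homocyclic Sylow 2-subgroup. -/
theorem bot_of_homocyclic {Z : Type*} [Group Z] [Finite Z] (hO : pPrimeCore 2 Z = ⊥) (Q : Sylow 2 Z)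
    {m : ℕ} (hm : 2 ≤ m) (e : (Q : Subgroup Z) ≃* Multiplicative (ZMod (2 ^ m) × ZMod (2 ^ m)))
    {Y : Subgroup Z} (hY : Odd (Nat.card Y)) (hYn : ∀ a ∈ (Q : Subgroup Z), ∀ y ∈ Y, a * y * a⁻¹ ∈ Y) :
    Y = ⊥ := by
  obtain ⟨hn, hc, -⟩ := S0949.result Q m hm e (fun M hM hodd => normal_core_bot hO M hM hodd)
  have hdisj : ∀ x ∈ Y, x ∈ (Q : Subgroup Z) → x = 1 := by
    intro x hx hxQ
    obtain ⟨k, hk⟩ := IsPGroup.iff_orderOf.1 Q.isPGroup' ⟨x, hxQ⟩
    rw [Subgroup.orderOf_mk] at hk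
    have h1 := odd_orderOf hY hx
    rw [hk] at h1
    have h2 : k = 0 := by
      by_contra h
      exact (Nat.not_even_iff_odd.2 h1) (Nat.even_pow.2 ⟨even_two, h⟩)
    rw [h2, pow_zero] at hk
    exact orderOf_eq_one_iff.1 hk
  rw [eq_bot_iff_forall]
  intro y hy
  refine hdisj y hy ?_
  rw [← hc, mem_centralizer_iff]
  intro a ha
  have h1 : a * y * a⁻¹ * y⁻¹ ∈ Y := mul_mem (hYn a ha y hy) (inv_mem hy)
  have h2 : a * y * a⁻¹ * y⁻¹ ∈ (Q : Subgroup Z) := by
    have h3 : y * a⁻¹ * y⁻¹ ∈ (Q : Subgroup Z) := hn.conj_mem _ (inv_mem ha) y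
    have h4 : a * y * a⁻¹ * y⁻¹ = a * (y * a⁻¹ * y⁻¹) := by group
    rw [h4]
    exact mul_mem ha h3
  have h3 := hdisj _ h1 h2
  calc a * y = (a * y * a⁻¹ * y⁻¹) * y * a := by group
    _ = y * a := by rw [h3, one_mul]

/-- The hypothesis on simple groups with wreathed Sylow 2-subgroups. -/
def WrHyp : Prop :=
  ∀ (L : Type u) [Group L] [Finite L] [IsSimpleGroup L] (P : Sylow 2 L), IsWreathed (P : Subgroup L) →
    ∀ v : L, orderOf v = 2 →
      pPrimeCore 2 (centralizer ({v} : Set L)) ≤ center (centralizer ({v} : Set L))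

/-- An element of the core of `C(v)` is central in `C(v)`: elementwise form of `WrHyp`. -/
theorem WrHyp.comm (H5 : WrHyp.{u}) {L : Type u} [Group L] [Finite L] [IsSimpleGroup L] (P : Sylow 2 L)
    (hP : IsWreathed (P : Subgroup L)) {v x s : L} (hv : orderOf v = 2) (hx : x ∈ centralizerPPrimeCore 2 v)
    (hs : s * v = v * s) : x * s = s * x := by
  obtain ⟨x, hx, rfl⟩ := hx
  have h1 := H5 L P hP v hv hx
  exact (congrArg Subtype.val (mem_center_iff.1 h1 ⟨s, mem_centralizer_singleton_iff.2 hs⟩)).symm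

/-- Wreathed Sylow 2-subgroup. -/
theorem bot_of_wreathed (H5 : WrHyp.{u}) {Z : Type u} [Group Z] [Finite Z] (hO : pPrimeCore 2 Z = ⊥)
    (hidx : ∀ H : Subgroup Z, H.index ≠ 2) (Q : Sylow 2 Z) (hQ : IsWreathed (Q : Subgroup Z)) {a b : Z}
    (ha : a * a = 1) (hb : b * b = 1) (hab : a * b = b * a) (ha1 : a ≠ 1) (hb1 : b ≠ 1) (hne : a ≠ b)
    {Y : Subgroup Z} (hY : Odd (Nat.card Y)) (hYa : ∀ y ∈ Y, a * y * a⁻¹ ∈ Y)
    (hYb : ∀ y ∈ Y, b * y * b⁻¹ ∈ Y) (H3 : ∀ y ∈ Y, a * y = y * a → b * y = y * b → y = 1)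
    (H4a : ∀ y ∈ Y, a * y = y * a → y ∈ centralizerPPrimeCore 2 a)
    (H4b : ∀ y ∈ Y, b * y = y * b → y ∈ centralizerPPrimeCore 2 b)
    (H4c : ∀ y ∈ Y, (a * b) * y = y * (a * b) → y ∈ centralizerPPrimeCore 2 (a * b)) : Y = ⊥ := by
  haveI : Fact (Nat.Prime 2) := ⟨Nat.prime_two⟩
  obtain ⟨L, hLn, hLi, hLs, -⟩ := TwoFusion.SimpleOddIndex.exists_simple_of_core_free Q (Or.inr hQ) hidx hO
  -- 2-elements lie in `L`
  have h2L : ∀ x : Z, x * x = 1 → x ∈ L := by
    intro x hx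
    have h1 : (QuotientGroup.mk' L x) ^ 2 = 1 := by rw [← map_pow, pow_two, hx, map_one]
    have h2 : orderOf (QuotientGroup.mk' L x) ∣ 2 := orderOf_dvd_of_pow_eq_one h1
    have h3 : orderOf (QuotientGroup.mk' L x) ∣ L.index := by
      rw [Subgroup.index_eq_card]
      exact orderOf_dvd_natCard _
    have h4 : orderOf (QuotientGroup.mk' L x) = 1 :=
      Nat.eq_one_of_dvd_coprimes (Nat.coprime_two_left.2 hLi) h2 h3
    rw [orderOf_eq_one_iff] at h4
    exact (QuotientGroup.eq_one_iff x).1 h4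
  have hQL : (Q : Subgroup Z) ≤ L := by
    intro x hx
    obtain ⟨k, hk⟩ := Q.isPGroup' ⟨x, hx⟩
    have hk' : x ^ 2 ^ k = 1 := by simpa using congrArg Subtype.val hk
    have h1 : (QuotientGroup.mk' L x) ^ 2 ^ k = 1 := by rw [← map_pow, hk', map_one]
    have h2 : orderOf (QuotientGroup.mk' L x) ∣ 2 ^ k := orderOf_dvd_of_pow_eq_one h1
    have h3 : orderOf (QuotientGroup.mk' L x) ∣ L.index := by
      rw [Subgroup.index_eq_card]
      exact orderOf_dvd_natCard _
    have h4 : orderOf (QuotientGroup.mk' L x) = 1 :=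
      Nat.eq_one_of_dvd_coprimes (Nat.Coprime.pow_left k (Nat.coprime_two_left.2 hLi)) h2 h3
    rw [orderOf_eq_one_iff] at h4
    exact (QuotientGroup.eq_one_iff x).1 h4
  -- the Sylow 2-subgroup of `L`
  let QL : Sylow 2 L := Q.subtype hQL
  have hQLw : IsWreathed (QL : Subgroup L) :=
    TwoFusion.SylowTypeTransfer.isWreathed_of_mulEquiv (subgroupOfEquivOfLe hQL).symm hQ
  -- the key step
  have key : ∀ v s : Z, v * v = 1 → s * s = 1 → v * s = s * v → v ≠ 1 →
      (∀ y ∈ Y, s * y * s⁻¹ ∈ Y) → (∀ y ∈ Y, v * y = y * v → s * y = y * s → y = 1) →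
      (∀ y ∈ Y, v * y = y * v → y ∈ centralizerPPrimeCore 2 v) → ∀ y ∈ Y, v * y = y * v → y = 1 := by
    intro v s hv hs hvs hv1 hYs h3 h4 y hy hyv
    have hvL := h2L v hv
    have hsL := h2L s hs
    have hu : y⁻¹ * (s * y * s⁻¹) ∈ Y := mul_mem (inv_mem hy) (hYs y hy)
    obtain ⟨x, hx, h5, -⟩ := exists_fixed hs (odd_orderOf hY hu)
    have hxY : x ∈ Y := (zpowers_le.2 hu) hx
    have hinv : y⁻¹ * v = v * y⁻¹ := by
      rw [inv_mul_eq_iff_eq_mul, ← mul_assoc, ← hyv, mul_inv_cancel_right]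
    have hxv : x ∈ centralizer ({v} : Set Z) := by
      refine (zpowers_le.2 ?_) hx
      have hsC : s ∈ centralizer ({v} : Set Z) := mem_centralizer_singleton_iff.2 hvs.symm
      have hyC : y ∈ centralizer ({v} : Set Z) := mem_centralizer_singleton_iff.2 hyv.symm
      exact mul_mem (inv_mem hyC) (mul_mem (mul_mem hsC hyC) (inv_mem hsC))
    have h6 : y * x = 1 := by
      refine h3 _ (mul_mem hy hxY) ?_ h5
      have hxv' := mem_centralizer_singleton_iff.1 hxv
      calc v * (y * x) = (v * y) * x := by group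
        _ = y * (v * x) := by rw [hyv, mul_assoc]
        _ = y * x * v := by rw [← hxv', mul_assoc]
    have h7 : y⁻¹ = x := inv_eq_of_mul_eq_one_right h6
    have h8 : y⁻¹ * (s * y * s⁻¹) ∈ L := by
      have h9 : y⁻¹ * s * y ∈ L := by
        have := hLn.conj_mem s hsL y⁻¹
        rwa [inv_inv] at this
      have h10 : y⁻¹ * (s * y * s⁻¹) = (y⁻¹ * s * y) * s⁻¹ := by group
      rw [h10]
      exact mul_mem h9 (inv_mem hsL)
    have hyL : y ∈ L := by
      have h9 : x ∈ L := (zpowers_le.2 h8) hx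
      rw [← h7] at h9
      exact inv_mem_iff.1 h9
    -- in `L`
    have h9 : (⟨y, hyL⟩ : L) ∈ centralizerPPrimeCore 2 (⟨v, hvL⟩ : L) := by
      obtain ⟨M, hyM, hMv, hMn, hM⟩ := mem_core_iff.1 (h4 y hy hyv)
      refine mem_core_iff.2 ⟨M.subgroupOf L, mem_subgroupOf.2 hyM, ?_, ?_, ?_⟩
      · intro m hm
        exact Subtype.ext (hMv m (mem_subgroupOf.1 hm))
      · intro c hc m hm
        exact mem_subgroupOf.2 (hMn c (congrArg Subtype.val hc) m (mem_subgroupOf.1 hm))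
      · have h10 : Nat.card (M.subgroupOf L) ∣ Nat.card M := by
          rw [← card_map_of_injective (subtype_injective L), subgroupOf_map_subtype]
          exact card_dvd_of_le inf_le_left
        exact hM.of_dvd_nat h10
    have h10 : orderOf (⟨v, hvL⟩ : L) = 2 :=
      orderOf_eq_prime (by rw [pow_two]; exact Subtype.ext hv) (fun e => hv1 (congrArg Subtype.val e))
    haveI := hLs
    have h11 := H5.comm QL hQLw (s := ⟨s, hsL⟩) h10 h9 (Subtype.ext hvs.symm)
    exact h3 y hy hyv (congrArg Subtype.val h11).symm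
  have hab1 : a * b ≠ 1 := fun e => hne (by
    calc a = a * (b * b) := by rw [hb, mul_one]
      _ = b := by rw [← mul_assoc, e, one_mul])
  have hab2 : a * b * (a * b) = 1 := by
    calc a * b * (a * b) = a * (b * a) * b := by group
      _ = (a * a) * (b * b) := by rw [← hab]; group
      _ = 1 := by rw [ha, hb, one_mul]
  refine eq_bot_of_four hY ha hb hYa hYb ?_ ?_ ?_
  · exact key a b ha hb hab ha1 hYb H3 H4a
  · exact key b a hb ha hab.symm hb1 hYa (fun y hy h1 h2 => H3 y hy h2 h1) H4b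
  · refine key (a * b) b hab2 hb ?_ hab1 hYb ?_ H4c
    · rw [← mul_assoc, ← hab]
    · intro y hy h1 h2
      refine H3 y hy ?_ h2
      have h3 : a = (a * b) * b := by rw [mul_assoc, hb, mul_one]
      calc a * y = (a * b) * (b * y) := by rw [mul_assoc, ← mul_assoc b b y, hb, one_mul]
        _ = (a * b) * y * b := by rw [h2, ← mul_assoc]
        _ = y * ((a * b) * b) := by rw [h1, mul_assoc]
        _ = y * a := by rw [← h3]

/-! ### The conclusion -/

section Main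

variable {N : Type u} [Group N] [Finite N]

theorem two_le {P S0 A W1 V : Subgroup N} (h : Conf P S0 A W1 V) :
    ∃ a ∈ V, ∃ b ∈ V, a ≠ 1 ∧ b ≠ 1 ∧ a ≠ b ∧ ∀ x ∈ V, x = 1 ∨ x = a ∨ x = b ∨ x = a * b := by
  classical
  have hc := h.cardV
  haveI : Fintype V := Fintype.ofFinite _
  rw [Nat.card_eq_fintype_card] at hc
  obtain ⟨a, ha⟩ : ∃ a : V, a ≠ 1 := by
    by_contra hcon
    push Not at hcon
    have : Fintype.card V ≤ 1 := Fintype.card_le_one_iff.2 (fun x y => by rw [hcon x, hcon y])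
    omega
  obtain ⟨b, hb⟩ : ∃ b : V, b ∉ ({1, a} : Finset V) := by
    by_contra hcon
    push Not at hcon
    have h1 : (Finset.univ : Finset V) ⊆ {1, a} := fun x _ => hcon x
    have h2 := Finset.card_le_card h1
    rw [Finset.card_univ] at h2
    have h3 : ({1, a} : Finset V).card ≤ 2 := Finset.card_le_two
    omega
  rw [Finset.mem_insert, Finset.mem_singleton, not_or] at hb
  have hva : (a : N) * a = 1 := (h.memV a (h.V_le a.2)).1 a.2
  have hva' : a * a = 1 := Subtype.ext hva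
  have h4 : ({1, a, b, a * b} : Finset V).card = 4 := by
    rw [Finset.card_insert_of_notMem, Finset.card_insert_of_notMem, Finset.card_insert_of_notMem,
      Finset.card_singleton]
    · rw [Finset.mem_singleton]
      intro e
      exact ha (mul_eq_right.1 e.symm)
    · rw [Finset.mem_insert, Finset.mem_singleton, not_or]
      exact ⟨fun e => hb.2 e.symm, fun e => hb.1 (mul_eq_left.1 e.symm)⟩
    · rw [Finset.mem_insert, Finset.mem_insert, Finset.mem_singleton, not_or, not_or]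
      refine ⟨fun e => ha e.symm, fun e => hb.1 e.symm, fun e => hb.2 ?_⟩
      calc b = (a * a) * b := by rw [hva', one_mul]
        _ = a := by rw [mul_assoc, ← e, mul_one]
  have h5 : ({1, a, b, a * b} : Finset V) = Finset.univ :=
    Finset.eq_univ_of_card _ (by rw [h4, hc])
  refine ⟨a, a.2, b, b.2, fun e => ha (Subtype.ext e), fun e => hb.1 (Subtype.ext e),
    fun e => hb.2 (Subtype.ext e.symm), fun x hx => ?_⟩
  have h6 : (⟨x, hx⟩ : V) ∈ ({1, a, b, a * b} : Finset V) := by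
    rw [h5]
    exact Finset.mem_univ _
  rw [Finset.mem_insert, Finset.mem_insert, Finset.mem_insert, Finset.mem_singleton] at h6
  rcases h6 with e | e | e | e
  · exact Or.inl (congrArg Subtype.val e)
  · exact Or.inr (Or.inl (congrArg Subtype.val e))
  · exact Or.inr (Or.inr (Or.inl (congrArg Subtype.val e)))
  · exact Or.inr (Or.inr (Or.inr (congrArg Subtype.val e)))

omit [Finite N] in
/-- An element of odd order lies in a normal subgroup of index `2^n`. -/
theorem mem_of_odd {K : Subgroup N} [K.Normal] {n : ℕ} (hn : K.index = 2 ^ n) {x : N}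
    (hx : Odd (orderOf x)) : x ∈ K := by
  have h1 : orderOf (QuotientGroup.mk' K x) ∣ orderOf x := orderOf_map_dvd _ x
  have h2 : orderOf (QuotientGroup.mk' K x) ∣ 2 ^ n := by
    rw [← hn, Subgroup.index_eq_card]
    exact orderOf_dvd_natCard _
  have h3 : orderOf (QuotientGroup.mk' K x) = 1 :=
    Nat.eq_one_of_dvd_coprimes (Nat.Coprime.pow_right n (Nat.coprime_two_right.2 hx)) h1 h2
  rw [orderOf_eq_one_iff] at h3
  exact (QuotientGroup.eq_one_iff x).1 h3

end Main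

/-! ### From `G` to `G / O(G)` -/

section Quot

variable {G : Type*} [Group G] [Finite G]

theorem lift_comm {v c : G} (hv : v * v = 1) (h : (v * c * v⁻¹ * c⁻¹) ∈ pPrimeCore 2 G) :
    ∃ s ∈ zpowers (c⁻¹ * (v * c * v⁻¹)), s ∈ pPrimeCore 2 G ∧ v * (c * s) = c * s * v := by
  haveI := Lib.Cores.pPrimeCore_normal (G := G) 2
  have h1 : c⁻¹ * (v * c * v⁻¹) ∈ pPrimeCore 2 G := by
    have h2 := (Lib.Cores.pPrimeCore_normal (G := G) 2).conj_mem _ h c⁻¹
    have e : c⁻¹ * (v * c * v⁻¹ * c⁻¹) * c⁻¹⁻¹ = c⁻¹ * (v * c * v⁻¹) := by group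
    rwa [e] at h2
  have hodd : Odd (Nat.card (pPrimeCore 2 G)) := Nat.coprime_two_right.1 (Lib.Cores.pPrimeCore_coprime 2)
  obtain ⟨s, hs, h2, -⟩ := exists_fixed hv (odd_orderOf hodd h1)
  exact ⟨s, hs, (zpowers_le.2 h1) hs, h2⟩

omit [Finite G] in
/-- `v` and `c` commute modulo `O(G)`. -/
theorem comm_mem {v c : G} (h : QuotientGroup.mk' (pPrimeCore 2 G) v * QuotientGroup.mk' (pPrimeCore 2 G) c =
    QuotientGroup.mk' (pPrimeCore 2 G) c * QuotientGroup.mk' (pPrimeCore 2 G) v) :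
    v * c * v⁻¹ * c⁻¹ ∈ pPrimeCore 2 G := by
  rw [← QuotientGroup.ker_mk' (pPrimeCore 2 G), MonoidHom.mem_ker]
  rw [map_mul, map_mul, map_mul, map_inv, map_inv, h]
  group

theorem core_map {v x : G} (hv : v * v = 1) (hx : x ∈ centralizerPPrimeCore 2 v) :
    QuotientGroup.mk' (pPrimeCore 2 G) x ∈ centralizerPPrimeCore 2 (QuotientGroup.mk' (pPrimeCore 2 G) v) := by
  obtain ⟨M, hxM, hMv, hMn, hM⟩ := mem_core_iff.1 hx
  refine mem_core_iff.2 ⟨M.map (QuotientGroup.mk' (pPrimeCore 2 G)), mem_map_of_mem _ hxM, ?_, ?_, ?_⟩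
  · rintro _ ⟨m, hm, rfl⟩
    rw [← map_mul, hMv m hm, map_mul]
  · rintro c hc _ ⟨m, hm, rfl⟩
    obtain ⟨c, rfl⟩ := QuotientGroup.mk'_surjective _ c
    obtain ⟨s, -, hs, h1⟩ := lift_comm hv (comm_mem hc.symm)
    have h2 : QuotientGroup.mk' (pPrimeCore 2 G) s = 1 := (QuotientGroup.eq_one_iff s).2 hs
    refine ⟨(c * s) * m * (c * s)⁻¹, hMn _ h1.symm m hm, ?_⟩
    rw [map_mul, map_mul, map_inv, map_mul, h2, mul_one]
  · exact hM.of_dvd_nat (card_map_dvd _ _)

theorem core_sub {K : Subgroup G} {v x : K} (hx : (x : G) ∈ centralizerPPrimeCore 2 (v : G)) :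
    x ∈ centralizerPPrimeCore 2 v := by
  obtain ⟨M, hyM, hMv, hMn, hM⟩ := mem_core_iff.1 hx
  refine mem_core_iff.2 ⟨M.subgroupOf K, mem_subgroupOf.2 hyM, ?_, ?_, ?_⟩
  · intro m hm
    exact Subtype.ext (hMv m (mem_subgroupOf.1 hm))
  · intro c hc m hm
    exact mem_subgroupOf.2 (hMn c (congrArg Subtype.val hc) m (mem_subgroupOf.1 hm))
  · have h10 : Nat.card (M.subgroupOf K) ∣ Nat.card M := by
      rw [← card_map_of_injective (subtype_injective K), subgroupOf_map_subtype]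
      exact card_dvd_of_le inf_le_left
    exact hM.of_dvd_nat h10

/-- The Sylow 2-subgroup of `G / O(G)`. -/
theorem exists_sylow_quot (Q : Sylow 2 G) :
    ∃ R : Sylow 2 (G ⧸ pPrimeCore 2 G), (R : Subgroup (G ⧸ pPrimeCore 2 G)) =
        (Q : Subgroup G).map (QuotientGroup.mk' (pPrimeCore 2 G)) ∧
      Nonempty ((Q : Subgroup G) ≃* (R : Subgroup (G ⧸ pPrimeCore 2 G))) := by
  haveI : Fact (Nat.Prime 2) := ⟨Nat.prime_two⟩
  have hs : Function.Surjective (QuotientGroup.mk' (pPrimeCore 2 G)) := QuotientGroup.mk'_surjective _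
  have hinj : Function.Injective
      ((QuotientGroup.mk' (pPrimeCore 2 G)).subgroupMap (Q : Subgroup G)) := by
    rw [injective_iff_map_eq_one]
    intro s h1
    have h2 : QuotientGroup.mk' (pPrimeCore 2 G) (s : G) = 1 := congrArg Subtype.val h1
    have h3 : (s : G) ∈ pPrimeCore 2 G := (QuotientGroup.eq_one_iff _).1 h2
    obtain ⟨k, hk⟩ := IsPGroup.iff_orderOf.1 Q.isPGroup' s
    have h4 : orderOf (s : G) ∣ Nat.card (pPrimeCore 2 G) := by
      have h5 := orderOf_dvd_natCard (⟨(s : G), h3⟩ : pPrimeCore 2 G)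
      rwa [Subgroup.orderOf_mk] at h5
    have h6 : orderOf (s : G) = 2 ^ k := by rw [← hk]; exact Subgroup.orderOf_coe s
    have h7 : Nat.Coprime (Nat.card (pPrimeCore 2 G)) (2 ^ k) :=
      Nat.Coprime.pow_right k (Lib.Cores.pPrimeCore_coprime (G := G) 2)
    have h8 : orderOf (s : G) = 1 := by
      rw [← h6] at h7
      exact Nat.eq_one_of_dvd_coprimes h7 h4 dvd_rfl
    exact Subtype.ext (orderOf_eq_one_iff.1 h8)
  exact ⟨Q.mapSurjective hs, rfl,
    ⟨MulEquiv.ofBijective ((QuotientGroup.mk' (pPrimeCore 2 G)).subgroupMap (Q : Subgroup G))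
      ⟨hinj, MonoidHom.subgroupMap_surjective _ _⟩⟩⟩

theorem le_core_of_homocyclic (Q : Sylow 2 G)
    {m : ℕ} (hm : 2 ≤ m) (e : (Q : Subgroup G) ≃* Multiplicative (ZMod (2 ^ m) × ZMod (2 ^ m)))
    {Y : Subgroup G} (hY : Odd (Nat.card Y)) (hYn : ∀ a ∈ (Q : Subgroup G), ∀ y ∈ Y, a * y * a⁻¹ ∈ Y) :
    Y ≤ pPrimeCore 2 G := by
  obtain ⟨R, hR, ⟨e'⟩⟩ := exists_sylow_quot Q
  have h1 : Y.map (QuotientGroup.mk' (pPrimeCore 2 G)) = ⊥ := by
    refine bot_of_homocyclic (Lib.Cores.pPrimeCore_quotient_pPrimeCore 2) R hm (e'.symm.trans e)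
      (hY.of_dvd_nat (card_map_dvd _ _)) ?_
    intro a ha
    rw [hR] at ha
    obtain ⟨a, ha, rfl⟩ := ha
    rintro _ ⟨y, hy, rfl⟩
    exact ⟨a * y * a⁻¹, hYn a ha y hy, by rw [map_mul, map_mul, map_inv]⟩
  rwa [Subgroup.map_eq_bot_iff, QuotientGroup.ker_mk'] at h1

end Quot

theorem le_core_of_wreathed (H5 : WrHyp.{u}) {G : Type u} [Group G] [Finite G]
    (hidx : ∀ H : Subgroup G, H.index ≠ 2) (Q : Sylow 2 G) (hQ : IsWreathed (Q : Subgroup G)) {a b : G}
    (ha : a * a = 1) (hb : b * b = 1) (hab : a * b = b * a) (ha1 : a ≠ 1) (hb1 : b ≠ 1) (hne : a ≠ b)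
    {Y : Subgroup G} (hY : Odd (Nat.card Y)) (hYa : ∀ y ∈ Y, a * y * a⁻¹ ∈ Y)
    (hYb : ∀ y ∈ Y, b * y * b⁻¹ ∈ Y) (H3 : ∀ y ∈ Y, a * y = y * a → b * y = y * b → y ∈ pPrimeCore 2 G)
    (H4a : ∀ y ∈ Y, a * y = y * a → y ∈ centralizerPPrimeCore 2 a)
    (H4b : ∀ y ∈ Y, b * y = y * b → y ∈ centralizerPPrimeCore 2 b)
    (H4c : ∀ y ∈ Y, (a * b) * y = y * (a * b) → y ∈ centralizerPPrimeCore 2 (a * b)) :
    Y ≤ pPrimeCore 2 G := by
  haveI : Fact (Nat.Prime 2) := ⟨Nat.prime_two⟩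
  obtain ⟨R, hR, ⟨e'⟩⟩ := exists_sylow_quot Q
  set π := QuotientGroup.mk' (pPrimeCore 2 G) with hπ
  have hsur : Function.Surjective π := QuotientGroup.mk'_surjective _
  have hOodd : Odd (Nat.card (pPrimeCore 2 G)) := Nat.coprime_two_right.1 (Lib.Cores.pPrimeCore_coprime 2)
  have hone : ∀ x : G, π x = 1 ↔ x ∈ pPrimeCore 2 G := fun x => QuotientGroup.eq_one_iff x
  -- involutions are not in the core
  have hinv : ∀ x : G, x * x = 1 → π x = 1 → x = 1 := by
    intro x hx h1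
    have h2 := odd_orderOf hOodd ((hone x).1 h1)
    have h3 : orderOf x ∣ 2 := orderOf_dvd_of_pow_eq_one (by rw [pow_two, hx])
    exact orderOf_eq_one_iff.1 (Nat.eq_one_of_dvd_coprimes (Nat.coprime_two_left.2 h2) h3 dvd_rfl)
  have hab2 : a * b * (a * b) = 1 := by
    calc a * b * (a * b) = a * (b * a) * b := by group
      _ = (a * a) * (b * b) := by rw [← hab]; group
      _ = 1 := by rw [ha, hb, one_mul]
  -- lifting elements of `Y`
  have hlift : ∀ v : G, v * v = 1 → (∀ y ∈ Y, v * y * v⁻¹ ∈ Y) → ∀ y ∈ Y, π v * π y = π y * π v →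
      ∃ s ∈ zpowers (y⁻¹ * (v * y * v⁻¹)), π (y * s) = π y ∧ y * s ∈ Y ∧ v * (y * s) = y * s * v := by
    intro v hv hYv y hy hc
    obtain ⟨s, hs, hsO, h1⟩ := lift_comm hv (comm_mem hc)
    have hu : y⁻¹ * (v * y * v⁻¹) ∈ Y := mul_mem (inv_mem hy) (hYv y hy)
    refine ⟨s, hs, ?_, mul_mem hy ((zpowers_le.2 hu) hs), h1⟩
    rw [map_mul, (hone s).2 hsO, mul_one]
  have hcore : ∀ v : G, v * v = 1 → (∀ y ∈ Y, v * y * v⁻¹ ∈ Y) →
      (∀ y ∈ Y, v * y = y * v → y ∈ centralizerPPrimeCore 2 v) →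
      ∀ y ∈ Y.map π, π v * y = y * π v → y ∈ centralizerPPrimeCore 2 (π v) := by
    rintro v hv hYv h4 _ ⟨y, hy, rfl⟩ hc
    obtain ⟨s, -, h1, h2, h3⟩ := hlift v hv hYv y hy hc
    rw [← h1]
    exact core_map hv (h4 _ h2 h3)
  have h1 : Y.map π = ⊥ := by
    refine bot_of_wreathed H5 (Lib.Cores.pPrimeCore_quotient_pPrimeCore 2) ?_ R
      (TwoFusion.SylowTypeTransfer.isWreathed_of_mulEquiv e' hQ) (a := π a) (b := π b)
      (by rw [← map_mul, ha, map_one]) (by rw [← map_mul, hb, map_one]) (by rw [← map_mul, hab, map_mul])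
      (fun e => ha1 (hinv a ha e)) (fun e => hb1 (hinv b hb e)) ?_ (hY.of_dvd_nat (card_map_dvd _ _))
      ?_ ?_ ?_ (hcore a ha hYa H4a) (hcore b hb hYb H4b) ?_
    · intro H hH
      exact hidx (H.comap π) (by rw [Subgroup.index_comap_of_surjective _ hsur, hH])
    · intro e
      have h2 : π (a * b) = 1 := by rw [map_mul, e, ← map_mul, hb, map_one]
      have h3 := hinv _ hab2 h2
      exact hne (by
        calc a = a * (b * b) := by rw [hb, mul_one]
          _ = b := by rw [← mul_assoc, h3, one_mul])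
    · rintro _ ⟨y, hy, rfl⟩
      exact ⟨a * y * a⁻¹, hYa y hy, by rw [map_mul, map_mul, map_inv]⟩
    · rintro _ ⟨y, hy, rfl⟩
      exact ⟨b * y * b⁻¹, hYb y hy, by rw [map_mul, map_mul, map_inv]⟩
    · rintro _ ⟨y, hy, rfl⟩ hca hcb
      obtain ⟨s, -, h2, h3, h4⟩ := hlift a ha hYa y hy hca
      rw [← h2] at hcb ⊢
      obtain ⟨s', hs', h5, h6, h7⟩ := hlift b hb hYb (y * s) h3 hcb
      rw [← h5, hone]
      refine H3 _ h6 ?_ h7
      have haC : a ∈ centralizer ({a} : Set G) := mem_centralizer_singleton_iff.2 rfl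
      have hbC : b ∈ centralizer ({a} : Set G) := mem_centralizer_singleton_iff.2 hab.symm
      have hyC : y * s ∈ centralizer ({a} : Set G) := mem_centralizer_singleton_iff.2 h4.symm
      have hsC : s' ∈ centralizer ({a} : Set G) :=
        (zpowers_le.2 (mul_mem (inv_mem hyC) (mul_mem (mul_mem hbC hyC) (inv_mem hbC)))) hs'
      exact (mem_centralizer_singleton_iff.1 (mul_mem hyC hsC)).symm
    · have h2 := hcore (a * b) hab2 (fun y hy => by
        have h3 := hYa _ (hYb y hy)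
        have e : a * (b * y * b⁻¹) * a⁻¹ = a * b * y * (a * b)⁻¹ := by group
        rwa [e] at h3) H4c
      rw [map_mul] at h2
      exact h2
  rwa [Subgroup.map_eq_bot_iff, QuotientGroup.ker_mk'] at h1

/-! ### The theorem -/

section Main

variable {N : Type u} [Group N] [Finite N]

/-- **Conclusion of the pushing-up step.** -/
theorem concl (H5 : WrHyp.{u}) (P : Sylow 2 N) {S0 A W1 V : Subgroup N}
    (h : Conf (P : Subgroup N) S0 A W1 V) (hf : FusionOut (P : Subgroup N) S0 A W1 V) {m : ℕ} (hm : 2 ≤ m)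
    (eA : A ≃* Multiplicative (ZMod (2 ^ m) × ZMod (2 ^ m)))
    (hW : (∃ x ∈ (P : Subgroup N), x ∉ S0) → IsWreathed W1) {r : ℕ} (hr : r.Prime) (hr2 : r ≠ 2)
    (H3 : ∀ x ∈ centralizer (V : Set N), (∃ k, x ^ r ^ k = 1) → x ∈ pPrimeCore 2 N)
    {Y : Subgroup N} (hY : IsPGroup r Y) (hYn : S0 ≤ normalizer (Y : Set N))
    (H4 : ∀ v ∈ V, v ≠ 1 → Y ⊓ centralizer ({v} : Set N) ≤ centralizerPPrimeCore 2 v) :
    Y ≤ pPrimeCore 2 N := by
  haveI : Fact (Nat.Prime 2) := ⟨Nat.prime_two⟩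
  haveI : Fact r.Prime := ⟨hr⟩
  have hYodd : Odd (Nat.card Y) := by
    obtain ⟨k, hk⟩ := IsPGroup.iff_card.1 hY
    rw [hk]
    exact (hr.odd_of_ne_two hr2).pow
  have hYc : ∀ x ∈ S0, ∀ y ∈ Y, x * y * x⁻¹ ∈ Y := fun x hx y hy =>
    (mem_normalizer_iff.1 (hYn hx) y).1 hy
  have hV2 : ∀ v ∈ V, v * v = 1 := fun v hv => (h.memV v (h.V_le hv)).1 hv
  have hVS : ∀ v ∈ V, v ∈ S0 := fun v hv => h.A_le (h.V_le hv)
  rcases hf with ⟨v, hv, hv1, -, hiso⟩ | ⟨-, K, hKn, ⟨n, hn⟩, hK2, hKP⟩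
  · exact le_core_of_isolated P hv1 (hV2 v hv) (h.S_le (hVS v hv)) hiso (hYc v (hVS v hv)) (H4 v hv hv1)
  · haveI := hKn
    obtain ⟨a, ha, b, hb, ha1, hb1, hne, hVall⟩ := two_le h
    have hAK : A ≤ K ⊓ (P : Subgroup N) := by
      rcases hKP with e | ⟨e, -⟩
      · exact e.ge
      · rw [e]; exact h.A_le_W
    have hYK : Y ≤ K := fun y hy => mem_of_odd hn (odd_orderOf hYodd hy)
    -- the Sylow 2-subgroup of `K`
    obtain ⟨Q, hQ⟩ : ∃ Q : Sylow 2 K, (Q : Subgroup K).map K.subtype = K ⊓ (P : Subgroup N) := by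
      have h1 : Trans.SylIn 2 (P : Subgroup N) ⊤ := by
        rw [Trans.sylIn_iff]
        exact ⟨le_top, P.isPGroup', fun R _ hR hPR => P.3 hR hPR⟩
      have h2 := h1.inf (N := K) le_top (fun g _ x hx => hKn.conj_mem x hx g)
      rw [inf_comm] at h2
      exact h2
    have eQ : (Q : Subgroup K) ≃* (K ⊓ (P : Subgroup N) : Subgroup N) := by
      rw [← hQ]
      exact (Q : Subgroup K).equivMapOfInjective K.subtype K.subtype_injective
    have hQmem : ∀ x : K, x ∈ (Q : Subgroup K) ↔ (x : N) ∈ K ⊓ (P : Subgroup N) := by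
      intro x
      rw [← hQ]
      constructor
      · exact fun hx => ⟨x, hx, rfl⟩
      · rintro ⟨z, hz, e⟩
        rwa [← Subtype.ext e]
    have hYKodd : Odd (Nat.card (Y.subgroupOf K)) := by
      rw [Nat.card_congr (subgroupOfEquivOfLe hYK).toEquiv]
      exact hYodd
    have hcK : ∀ x : K, x ∈ pPrimeCore 2 K ↔ (x : N) ∈ pPrimeCore 2 N := by
      intro x
      have h1 := Lib.Cores.map_subtype_pPrimeCore 2 hKn
      constructor
      · intro hx
        have h2 : (x : N) ∈ (pPrimeCore 2 K).map K.subtype := ⟨x, hx, rfl⟩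
        rw [h1] at h2
        exact h2.2
      · intro hx
        have h2 : (x : N) ∈ (pPrimeCore 2 K).map K.subtype := by
          rw [h1]
          exact ⟨x.2, hx⟩
        obtain ⟨z, hz, e⟩ := h2
        rwa [← Subtype.ext e]
    have goal : Y.subgroupOf K ≤ pPrimeCore 2 K → Y ≤ pPrimeCore 2 N := by
      intro h1 y hy
      exact (hcK ⟨y, hYK hy⟩).1 (h1 (mem_subgroupOf.2 hy))
    apply goal
    rcases hKP with e | ⟨e, hex⟩
    · -- homocyclic
      refine le_core_of_homocyclic Q hm ((eQ.trans (MulEquiv.subgroupCongr e)).trans eA) hYKodd ?_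
      intro x hx y hy
      rw [hQmem, e] at hx
      exact mem_subgroupOf.2 (hYc x (h.A_le hx) y (mem_subgroupOf.1 hy))
    · -- wreathed
      have haK := (mem_inf.1 (hAK (h.V_le ha))).1
      have hbK := (mem_inf.1 (hAK (h.V_le hb))).1
      have hcomm : ∀ x y : K, x * y = y * x → (x : N) * y = y * x := fun x y hxy => congrArg Subtype.val hxy
      have H4' : ∀ v : K, (v : N) ∈ V → (v : N) ≠ 1 → ∀ y ∈ Y.subgroupOf K, v * y = y * v →
          y ∈ centralizerPPrimeCore 2 v := by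
        intro v hv hv1 y hy hc
        refine core_sub (H4 v hv hv1 (mem_inf.2 ⟨mem_subgroupOf.1 hy, ?_⟩))
        exact mem_centralizer_singleton_iff.2 (hcomm _ _ hc).symm
      refine le_core_of_wreathed H5 hK2 Q
        (TwoFusion.SylowTypeTransfer.isWreathed_of_mulEquiv (eQ.trans (MulEquiv.subgroupCongr e)).symm (hW hex))
        (a := ⟨a, haK⟩) (b := ⟨b, hbK⟩) (Subtype.ext (hV2 a ha)) (Subtype.ext (hV2 b hb))
        (Subtype.ext (h.comm a (h.V_le ha) b (h.V_le hb))) (fun e => ha1 (congrArg Subtype.val e))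
        (fun e => hb1 (congrArg Subtype.val e)) (fun e => hne (congrArg Subtype.val e)) hYKodd
        (fun y hy => mem_subgroupOf.2 (hYc a (hVS a ha) y (mem_subgroupOf.1 hy)))
        (fun y hy => mem_subgroupOf.2 (hYc b (hVS b hb) y (mem_subgroupOf.1 hy))) ?_
        (H4' _ ha ha1) (H4' _ hb hb1) (H4' _ (mul_mem ha hb) ?_)
      · intro y hy hya hyb
        rw [hcK]
        refine H3 y ?_ ?_
        · rw [mem_centralizer_iff]
          intro x hx
          have h1 := hcomm _ _ hya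
          have h2 := hcomm _ _ hyb
          rcases hVall x hx with rfl | rfl | rfl | rfl
          · rw [one_mul, mul_one]
          · exact h1
          · exact h2
          · calc a * b * (y : N) = a * (b * y) := mul_assoc _ _ _
              _ = (a * y) * b := by rw [h2, mul_assoc]
              _ = y * (a * b) := by rw [h1, mul_assoc]
        · obtain ⟨k, hk⟩ := hY ⟨y, mem_subgroupOf.1 hy⟩
          exact ⟨k, by simpa using congrArg Subtype.val hk⟩
      · intro e1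
        apply hne
        calc a = a * (b * b) := by rw [hV2 b hb, mul_one]
          _ = b := by rw [← mul_assoc]; exact (congrArg (· * b) e1).trans (one_mul b)

end Main

end Cfsg.Agent.GTwoOdd.Core.Concl
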