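import Cfsg.Agent.GTwoOdd.Core.Defs
import Cfsg.Agent.Lib.GoldschmidtFusion
import Mathlib

/-!
# Elementary facts on `Conf`
-/

set_option autoImplicit false

namespace Cfsg.Agent.GTwoOdd.Core

open Subgroup Cfsg.Agent.Lib.GoldschmidtFusion

namespace Pre

variable {N : Type*} [Group N] {P S0 A W1 V : Subgroup N} (h : Pre P S0 A W1 V)

include h

theorem V_le_S : V ≤ S0 := h.V_le.trans h.A_le

theorem V_le_P : V ≤ P := h.V_le_S.trans h.S_le

theorem A_le_P : A ≤ P := h.A_le.trans h.S_le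

theorem sqV {v : N} (hv : v ∈ V) : v * v = 1 := (h.memV v (h.V_le hv)).1 hv

theorem invV {v : N} (hv : v ∈ V) : v⁻¹ = v := inv_eq_of_mul_eq_one_left (h.sqV hv)

theorem commV {v w : N} (hv : v ∈ V) (hw : w ∈ V) : v * w = w * v :=
  h.comm v (h.V_le hv) w (h.V_le hw)

/-- `S0` centralises `V` -/
theorem S_cent {y v : N} (hy : y ∈ S0) (hv : v ∈ V) : y * v = v * y := by
  by_cases hyA : y ∈ A
  · exact h.comm y hyA v (h.V_le hv)
  · have h1 := h.inv y hy hyA v (h.V_le hv)
    rw [h.invV hv] at h1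
    exact mul_inv_eq_iff_eq_mul.1 h1

theorem S_conj {y v : N} (hy : y ∈ S0) (hv : v ∈ V) : y * v * y⁻¹ = v := by
  rw [h.S_cent hy hv]; group

/-- an involution of `S0` lies in `V` or outside `A` -/
theorem mem_V_of_A {a : N} (ha : a ∈ A) (h2 : a * a = 1) : a ∈ V := (h.memV a ha).2 h2

theorem exists_ne : ∃ v ∈ V, v ≠ 1 := by
  by_contra hc
  push Not at hc
  have h1 : V = ⊥ := (Subgroup.eq_bot_iff_forall V).2 hc
  have h2 := h.cardV
  rw [h1, Subgroup.card_bot] at h2
  norm_num at h2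

theorem exists_ne' (a : N) : ∃ v ∈ V, v ≠ 1 ∧ v ≠ a := by
  classical
  by_contra hc
  push Not at hc
  have h1 : (V : Set N) ⊆ {1, a} := by
    intro v hv
    by_cases h2 : v = 1
    · simp [h2]
    · simp [hc v hv h2]
  have h2 : (V : Set N).ncard ≤ ({1, a} : Set N).ncard := Set.ncard_le_ncard h1 (by simp)
  have h3 : (V : Set N).ncard = 4 := by
    rw [← h.cardV]; rfl
  have h4 : ({1, a} : Set N).ncard ≤ 2 := by
    refine (Set.ncard_insert_le _ _).trans ?_
    simp
  omega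

theorem V_elim {a b : N} (ha : a ∈ V) (hb : b ∈ V) (ha1 : a ≠ 1) (hb1 : b ≠ 1) (hab : a ≠ b) {v : N}
    (hv : v ∈ V) : v = 1 ∨ v = a ∨ v = b ∨ v = a * b := by
  classical
  by_contra hc
  push Not at hc
  obtain ⟨h1, h2, h3, h4⟩ := hc
  have : Finite V := Nat.finite_of_card_ne_zero (by rw [h.cardV]; norm_num)
  have hab1 : a * b ≠ 1 := by
    intro h5
    apply hab
    have := eq_inv_of_mul_eq_one_left h5
    rwa [h.invV hb] at this
  have haab : a * b ≠ a := by
    intro h5; exact hb1 (by simpa using h5)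
  have hbab : a * b ≠ b := by
    intro h5; exact ha1 (by simpa using h5)
  have h5 : ({1, a, b, a * b, v} : Set N) ⊆ (V : Set N) := by
    intro x hx
    simp only [Set.mem_insert_iff, Set.mem_singleton_iff] at hx
    rcases hx with rfl | rfl | rfl | rfl | rfl
    · exact V.one_mem
    · exact ha
    · exact hb
    · exact V.mul_mem ha hb
    · exact hv
  have h6 : ({1, a, b, a * b, v} : Set N).ncard ≤ (V : Set N).ncard :=
    Set.ncard_le_ncard h5 (Set.toFinite _)
  have h7 : (V : Set N).ncard = 4 := by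
    rw [← h.cardV]; rfl
  have h8 : ({1, a, b, a * b, v} : Set N).ncard = 5 := by
    rw [Set.ncard_insert_of_notMem, Set.ncard_insert_of_notMem, Set.ncard_insert_of_notMem,
      Set.ncard_pair]
    · exact h4.symm
    · simp only [Set.mem_insert_iff, Set.mem_singleton_iff, not_or]
      exact ⟨hbab.symm, h3.symm⟩
    · simp only [Set.mem_insert_iff, Set.mem_singleton_iff, not_or]
      exact ⟨hab, haab.symm, h2.symm⟩
    · simp only [Set.mem_insert_iff, Set.mem_singleton_iff, not_or]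
      exact ⟨ha1.symm, hb1.symm, hab1.symm, h1.symm⟩
  omega

/-- an element normalising `S0` normalises `A` -/
theorem conjA {x : N} (hx : ∀ y ∈ S0, x * y * x⁻¹ ∈ S0) {a : N} (ha : a ∈ A) : x * a * x⁻¹ ∈ A := by
  have key : ∀ b ∈ A, b * b ≠ 1 → x * b * x⁻¹ ∈ A := by
    intro b hb hb2
    by_contra hc
    have h1 := h.inv2 _ (hx b (h.A_le hb)) hc
    apply hb2
    have h2 : x * b * x⁻¹ * (x * b * x⁻¹) = x * (b * b) * x⁻¹ := by group
    rw [h2] at h1
    have h3 : x * (b * b) = x := by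
      have := mul_inv_eq_one.1 h1
      exact this
    simpa using h3
  by_cases ha2 : a * a = 1
  · obtain ⟨c, hc, hc2⟩ := h.four
    have h1 : (c⁻¹ * a) * (c⁻¹ * a) ≠ 1 := by
      intro h2
      apply hc2
      have h3 : (c⁻¹ * a) * (c⁻¹ * a) = (c * c)⁻¹ * (a * a) := by
        have h4 := h.comm c⁻¹ (A.inv_mem hc) a ha
        calc (c⁻¹ * a) * (c⁻¹ * a) = c⁻¹ * (a * c⁻¹) * a := by group
          _ = c⁻¹ * (c⁻¹ * a) * a := by rw [h4]
          _ = (c * c)⁻¹ * (a * a) := by group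
      rw [h3, ha2, mul_one] at h2
      exact inv_eq_one.1 h2
    have h2 := A.mul_mem (key c hc hc2) (key (c⁻¹ * a) (A.mul_mem (A.inv_mem hc) ha) h1)
    have h3 : x * c * x⁻¹ * (x * (c⁻¹ * a) * x⁻¹) = x * a * x⁻¹ := by group
    rwa [h3] at h2
  · exact key a ha ha2

/-- an element normalising `S0` normalises `V` -/
theorem conjV {x : N} (hx : ∀ y ∈ S0, x * y * x⁻¹ ∈ S0) {v : N} (hv : v ∈ V) : x * v * x⁻¹ ∈ V := by
  apply h.mem_V_of_A (h.conjA hx (h.V_le hv))
  calc x * v * x⁻¹ * (x * v * x⁻¹) = x * (v * v) * x⁻¹ := by group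
    _ = 1 := by rw [h.sqV hv]; group

/-- `P` normalises `S0` -/
theorem P_norm {x : N} (hx : x ∈ P) : ∀ y ∈ S0, x * y * x⁻¹ ∈ S0 := by
  intro y hy
  by_cases hxS : x ∈ S0
  · exact S0.mul_mem (S0.mul_mem hxS hy) (S0.inv_mem hxS)
  · refine h.idxS _ (P.mul_mem hx (h.S_le hy)) ?_ _ (P.inv_mem hx) ?_
    · intro h1
      apply hxS
      have := S0.mul_mem h1 (S0.inv_mem hy)
      simpa using this
    · intro h1
      apply hxS
      simpa using S0.inv_mem h1

/-- the element `t` : central in `P` -/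
theorem exists_t : ∃ t ∈ V, t ≠ 1 ∧ ∀ x ∈ P, x * t = t * x := by
  by_cases hPS : ∃ x ∈ P, x ∉ S0
  · obtain ⟨x0, hx0, hx0S⟩ := hPS
    have h1 : ∃ s ∈ V, x0 * s ≠ s * x0 := by
      by_contra hc
      push Not at hc
      exact hx0S (h.cent x0 hx0 hc)
    obtain ⟨s, hs, hxs⟩ := h1
    set s' := x0 * s * x0⁻¹ with hs'
    have hs'V : s' ∈ V := h.conjV (h.P_norm hx0) hs
    have hne : s' ≠ s := by
      intro h2
      exact hxs (mul_inv_eq_iff_eq_mul.1 h2)
    have hx2 : x0 * x0 ∈ S0 := h.idxS x0 hx0 hx0S x0 hx0 hx0S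
    have h2 : x0 * s' * x0⁻¹ = s := by
      have h3 := h.S_conj hx2 hs
      calc x0 * s' * x0⁻¹ = x0 * x0 * s * (x0 * x0)⁻¹ := by rw [hs']; group
        _ = s := h3
    refine ⟨s * s', V.mul_mem hs hs'V, ?_, ?_⟩
    · intro h3
      apply hne
      have := eq_inv_of_mul_eq_one_right h3
      rw [this, h.invV hs]
    · have h4 : x0 * (s * s') * x0⁻¹ = s * s' := by
        calc x0 * (s * s') * x0⁻¹ = (x0 * s * x0⁻¹) * (x0 * s' * x0⁻¹) := by group
          _ = s' * s := by rw [h2]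
          _ = s * s' := h.commV hs'V hs
      intro x hx
      by_cases hxS : x ∈ S0
      · exact h.S_cent hxS (V.mul_mem hs hs'V)
      · have h5 : x * x0⁻¹ ∈ S0 := by
          refine h.idxS x hx hxS _ (P.inv_mem hx0) ?_
          intro h6
          exact hx0S (by simpa using S0.inv_mem h6)
        have h6 := h.S_cent h5 (V.mul_mem hs hs'V)
        have h7 : x0 * (s * s') = s * s' * x0 := mul_inv_eq_iff_eq_mul.1 h4
        calc x * (s * s') = (x * x0⁻¹) * (x0 * (s * s')) := by group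
          _ = (x * x0⁻¹) * (s * s' * x0) := by rw [h7]
          _ = ((x * x0⁻¹) * (s * s')) * x0 := by group
          _ = (s * s' * (x * x0⁻¹)) * x0 := by rw [h6]
          _ = s * s' * x := by group
  · push Not at hPS
    obtain ⟨v, hv, hv1⟩ := h.exists_ne
    exact ⟨v, hv, hv1, fun x hx => h.S_cent (hPS x hx) hv⟩

/-- an element of `P` outside `S0` moves every element of `V` different from `1`, `t` -/
theorem moves {t : N} (ht : t ∈ V) (ht1 : t ≠ 1) (htP : ∀ x ∈ P, x * t = t * x) {x : N} (hx : x ∈ P)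
    (hxS : x ∉ S0) {s : N} (hs : s ∈ V) (hs1 : s ≠ 1) (hst : s ≠ t) : x * s * x⁻¹ = s * t := by
  have h1 : x * s * x⁻¹ ∈ V := h.conjV (h.P_norm hx) hs
  have h2 : x * t * x⁻¹ = t := by rw [htP x hx]; group
  rcases h.V_elim hs ht hs1 ht1 hst h1 with h3 | h3 | h3 | h3
  · exfalso
    apply hs1
    have := mul_inv_eq_one.1 h3
    simpa using this
  · exfalso
    apply hxS
    apply h.cent x hx
    intro v hv
    have h4 : x * s = s * x := mul_inv_eq_iff_eq_mul.1 h3
    rcases h.V_elim hs ht hs1 ht1 hst hv with h5 | h5 | h5 | h5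
    · rw [h5]; group
    · rw [h5, h4]
    · rw [h5, htP x hx]
    · rw [h5, ← mul_assoc, h4, mul_assoc, htP x hx, mul_assoc]
  · exfalso
    apply hst
    have h4 : x * s * x⁻¹ = x * t * x⁻¹ := by rw [h3, h2]
    exact mul_left_cancel (mul_right_cancel h4)
  · exact h3

/-- an element of `V` commuting with an element of `P` outside `S0` is `1` or `t` -/
theorem eq_of_comm {t : N} (ht : t ∈ V) (ht1 : t ≠ 1) (htP : ∀ x ∈ P, x * t = t * x) {x : N} (hx : x ∈ P)
    (hxS : x ∉ S0) {s : N} (hs : s ∈ V) (hxs : x * s = s * x) : s = 1 ∨ s = t := by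
  by_contra hc
  push Not at hc
  have h1 := h.moves ht ht1 htP hx hxS hs hc.1 hc.2
  rw [hxs] at h1
  apply ht1
  have h2 : s * x * x⁻¹ = s := by group
  rw [h2] at h1
  have h3 : s * 1 = s * t := by rw [mul_one]; exact h1
  exact (mul_left_cancel h3).symm

/-- conjugation by `c ∈ A` of an element outside `A` -/
theorem conj_root {c u : N} (hc : c ∈ A) (hu : u ∈ S0) (huA : u ∉ A) : c * u * c⁻¹ = c * c * u := by
  have h1 := h.inv u hu huA c⁻¹ (A.inv_mem hc)
  rw [inv_inv] at h1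
  have h2 : u * c⁻¹ = c * u := mul_inv_eq_iff_eq_mul.1 h1
  rw [mul_assoc, h2, mul_assoc]

end Pre

end Cfsg.Agent.GTwoOdd.Core
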