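import Cfsg.Agent.GTwoOdd.Core.OddG
import Cfsg.Agent.GTwoOdd.Weyl

/-!
# [G4]: inner and outer pairs of commuting involutions

`InnG t s`: there is `x` in `C(⟨t, s⟩)` whose square is one of `t`, `s`, `s t`.

* `InnG.symm`, `innG_right`: `InnG` depends only on the four-group `⟨t, s⟩`;
* `innG_iff`: the comparison with the type in `C(t)/O(C(t))`;
* `exists_conj`: ordered pairs of the same type are conjugate;
* `innG_mul`: outer · outer = inner.
-/

set_option autoImplicit false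

namespace Cfsg.Agent.GTwoOdd.Core.Inner

open Subgroup
open Cfsg.Agent.GTwoOdd.Core.OddG

variable {G : Type*} [Group G]

/-- the four-group `⟨t, s⟩` is inner -/
def InnG (t s : G) : Prop := ∃ x : G, x * t = t * x ∧ x * s = s * x ∧ (x * x = t ∨ x * x = s ∨ x * x = s * t)

theorem InnG.symm {t s : G} (hts : s * t = t * s) (h : InnG t s) : InnG s t := by
  obtain ⟨x, h1, h2, h3 | h3 | h3⟩ := h
  · exact ⟨x, h2, h1, Or.inr (Or.inl h3)⟩
  · exact ⟨x, h2, h1, Or.inl h3⟩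
  · exact ⟨x, h2, h1, Or.inr (Or.inr (h3.trans hts))⟩

theorem innG_comm {t s : G} (hts : s * t = t * s) : InnG t s ↔ InnG s t :=
  ⟨fun h => h.symm hts, fun h => h.symm hts.symm⟩

theorem InnG.right {t s : G} (ht : t * t = 1) (h : InnG t s) : InnG t (s * t) := by
  obtain ⟨x, h1, h2, h3⟩ := h
  refine ⟨x, h1, ?_, ?_⟩
  · rw [← mul_assoc, h2, mul_assoc, h1, mul_assoc]
  · rcases h3 with h3 | h3 | h3
    · exact Or.inl h3
    · right; right
      rw [h3, mul_assoc, ht, mul_one]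
    · exact Or.inr (Or.inl h3)

theorem innG_right {t s : G} (ht : t * t = 1) : InnG t s ↔ InnG t (s * t) := by
  refine ⟨fun h => h.right ht, fun h => ?_⟩
  have := h.right ht
  rwa [mul_assoc, ht, mul_one] at this

theorem InnG.conj {t s : G} (h : InnG t s) (g : G) : InnG (g * t * g⁻¹) (g * s * g⁻¹) := by
  obtain ⟨x, h1, h2, h3⟩ := h
  have e : ∀ a b : G, g * a * g⁻¹ * (g * b * g⁻¹) = g * (a * b) * g⁻¹ := fun a b => by group
  refine ⟨g * x * g⁻¹, ?_, ?_, ?_⟩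
  · rw [e, e, h1]
  · rw [e, e, h2]
  · rw [e, e]
    rcases h3 with h3 | h3 | h3
    · left; rw [h3]
    · right; left; rw [h3]
    · right; right; rw [h3]

theorem innG_conj {t s : G} (g : G) : InnG (g * t * g⁻¹) (g * s * g⁻¹) ↔ InnG t s := by
  refine ⟨fun h => ?_, fun h => h.conj g⟩
  have h1 := h.conj g⁻¹
  have e : ∀ a : G, g⁻¹ * (g * a * g⁻¹) * g⁻¹⁻¹ = a := fun a => by group
  rwa [e, e] at h1

/-! ### Lifting -/

/-- involutions `s`, `s'` with `s' s` in a subgroup of odd order are conjugate under this subgroup -/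
theorem exists_conj_of_odd {K : Subgroup G} (hK : Odd (Nat.card K)) {s s' : G} (hs : s * s = 1) (hs' : s' * s' = 1)
    (h : s' * s ∈ K) : ∃ d ∈ K, d * s * d⁻¹ = s' := by
  obtain ⟨m, hm⟩ := hK
  have h1 : (s' * s) ^ (2 * m + 1) = 1 := by
    rw [← hm]
    exact congrArg Subtype.val (pow_card_eq_one' (x := (⟨s' * s, h⟩ : K)))
  have hss : s⁻¹ = s := inv_eq_of_mul_eq_one_right hs
  have hss' : s'⁻¹ = s' := inv_eq_of_mul_eq_one_right hs'
  have h2 : s * (s' * s) * s⁻¹ = (s' * s)⁻¹ := by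
    rw [mul_inv_rev, hss']
    calc s * (s' * s) * s⁻¹ = s * s' := by group
      _ = s⁻¹ * s' := by rw [hss]
  have h3 : s * (s' * s) ^ (m + 1) * s⁻¹ = ((s' * s) ^ (m + 1))⁻¹ := by
    rw [← conj_pow, h2, inv_pow]
  have h3' : s * ((s' * s) ^ (m + 1))⁻¹ = (s' * s) ^ (m + 1) * s := by
    have h4 := congrArg (fun z => z⁻¹) h3
    simp only [mul_inv_rev, inv_inv] at h4
    calc s * ((s' * s) ^ (m + 1))⁻¹ = (s * (((s' * s) ^ (m + 1))⁻¹ * s⁻¹)) * s := by group
      _ = (s' * s) ^ (m + 1) * s := by rw [h4]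
  refine ⟨(s' * s) ^ (m + 1), pow_mem h _, ?_⟩
  rw [mul_assoc, h3', ← mul_assoc, ← pow_add]
  have e : m + 1 + (m + 1) = 2 * m + 1 + 1 := by omega
  rw [e, pow_succ, h1, one_mul, mul_assoc, hs, mul_one]

theorem cmem {t x : G} (h : x * t = t * x) : x ∈ centralizer ({t} : Set G) := mem_centralizer_singleton_iff.2 h

theorem bar_eq_iff {v : G} {c d : centralizer ({v} : Set G)} :
    bar v c = bar v d ↔ (c : G)⁻¹ * d ∈ Cfsg.centralizerPPrimeCore 2 v := by
  rw [← inv_mul_eq_one, ← map_inv, ← map_mul, bar_eq_one_iff, mem_core_iff]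
  constructor
  · intro h
    exact ⟨(c⁻¹ * d).2, h⟩
  · rintro ⟨h1, h2⟩
    exact h2

theorem eq_of_bar_eq [Finite G] {v : G} {c d : centralizer ({v} : Set G)} (hc : (c : G) * c = 1)
    (hd : (d : G) * d = 1) (hcd : (c : G) * d = d * c) (h : bar v c = bar v d) : (c : G) = d := by
  have h1 := bar_eq_iff.1 h
  have hci : (c : G)⁻¹ = c := inv_eq_of_mul_eq_one_right hc
  rw [hci] at h1
  have h2 : (c : G) * d * (c * d) = 1 := by
    calc (c : G) * d * (c * d) = c * (d * c) * d := by group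
      _ = (c * c) * (d * d) := by rw [← hcd]; group
      _ = 1 := by rw [hc, hd, one_mul]
  have h3 := eq_one_of_mem_core h2 h1
  have h4 : (d : G) = (c : G)⁻¹ := eq_inv_of_mul_eq_one_right h3
  rw [h4, hci]

variable [Finite G]

/-- an element of `C(t)/O(C(t))` commuting with an involution lifts to an element commuting with it -/
theorem exists_lift_comm {t s : G} (hst : s * t = t * s) (hs : s * s = 1)
    (c : centralizer ({t} : Set G) ⧸ Cfsg.pPrimeCore 2 (centralizer ({t} : Set G)))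
    (hc : c * bar t ⟨s, cmem hst⟩ = bar t ⟨s, cmem hst⟩ * c) :
    ∃ x : G, ∃ hx : x * t = t * x, x * s = s * x ∧ bar t ⟨x, cmem hx⟩ = c := by
  obtain ⟨c0, rfl⟩ := QuotientGroup.mk'_surjective _ c
  change bar t c0 * _ = _ * bar t c0 at hc
  have h1 : bar t (c0 * ⟨s, cmem hst⟩) = bar t (⟨s, cmem hst⟩ * c0) := by rw [map_mul, map_mul, hc]
  have h2 : bar t (c0 * ⟨s, cmem hst⟩ * c0⁻¹ * ⟨s, cmem hst⟩⁻¹) = 1 := by
    rw [map_mul, map_mul, map_inv, map_inv, map_mul, hc]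
    group
  rw [bar_eq_one_iff] at h2
  have hsi : s⁻¹ = s := inv_eq_of_mul_eq_one_right hs
  have h3 : ((c0 : G) * s * (c0 : G)⁻¹) * s ∈ Cfsg.centralizerPPrimeCore 2 t := by
    have e : ((c0 * ⟨s, cmem hst⟩ * c0⁻¹ * ⟨s, cmem hst⟩⁻¹ : centralizer ({t} : Set G)) : G) =
        (c0 : G) * s * (c0 : G)⁻¹ * s := by
      change (c0 : G) * s * (c0 : G)⁻¹ * s⁻¹ = _
      rw [hsi]
    rw [← e]
    exact mem_core_iff.2 ⟨_, h2⟩
  have hs' : ((c0 : G) * s * (c0 : G)⁻¹) * ((c0 : G) * s * (c0 : G)⁻¹) = 1 := by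
    calc ((c0 : G) * s * (c0 : G)⁻¹) * ((c0 : G) * s * (c0 : G)⁻¹) = c0 * (s * s) * (c0 : G)⁻¹ := by group
      _ = 1 := by rw [hs]; group
  obtain ⟨d, hd, hds⟩ := exists_conj_of_odd (core_odd t) hs hs' h3
  obtain ⟨hd1, hd2⟩ := mem_core_iff.1 hd
  have hx : (d⁻¹ * c0) * t = t * (d⁻¹ * c0) :=
    mem_centralizer_singleton_iff.1 (mul_mem (inv_mem hd1) c0.2)
  refine ⟨d⁻¹ * c0, hx, ?_, ?_⟩
  · have h4 : (c0 : G) * s = d * s * d⁻¹ * c0 := by rw [hds]; group
    calc d⁻¹ * c0 * s = d⁻¹ * (c0 * s) := by group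
      _ = s * (d⁻¹ * c0) := by rw [h4]; group
  · change _ = bar t c0
    rw [bar_eq_iff]
    have e : (d⁻¹ * (c0 : G))⁻¹ * c0 = (c0 : G)⁻¹ * d * (c0 : G)⁻¹⁻¹ := by group
    change (d⁻¹ * (c0 : G))⁻¹ * c0 ∈ _
    rw [e]
    exact core_norm (inv_mem c0.2) hd

/-- the `2`-part of an element of order dividing `8` modulo `O(C(t))` -/
theorem exists_two_part {t x : G} (hx : x * t = t * x) (h8 : (bar t ⟨x, cmem hx⟩) ^ 8 = 1) :
    ∃ y : G, ∃ hy : y * t = t * y, (∃ k : ℕ, y ^ 2 ^ k = 1) ∧ y ∈ zpowers x ∧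
      bar t ⟨y, cmem hy⟩ = bar t ⟨x, cmem hx⟩ := by
  obtain ⟨k, m, hm, hkm⟩ := Nat.exists_eq_pow_mul_and_not_dvd (orderOf_pos x).ne' 2 (by norm_num)
  have hmo : Odd m := by rw [← Nat.not_even_iff_odd, even_iff_two_dvd]; exact hm
  have hy : x ^ (m * m) * t = t * x ^ (m * m) := (Commute.pow_left hx _)
  refine ⟨x ^ (m * m), hy, ⟨k, ?_⟩, pow_mem (mem_zpowers x) _, ?_⟩
  · rw [← pow_mul]
    have e : m * m * 2 ^ k = orderOf x * m := by rw [hkm]; ring
    rw [e, pow_mul, pow_orderOf_eq_one, one_pow]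
  · have e1 : (⟨x ^ (m * m), cmem hy⟩ : centralizer ({t} : Set G)) = ⟨x, cmem hx⟩ ^ (m * m) := rfl
    rw [e1, map_pow]
    obtain ⟨j, hj⟩ := hmo
    have e2 : ∃ l, m * m = 8 * l + 1 := by
      obtain ⟨l, hl⟩ : ∃ l, j * (j + 1) = 2 * l := by
        obtain ⟨l, hl⟩ := Nat.even_mul_succ_self j
        exact ⟨l, by rw [hl]; ring⟩
      refine ⟨l, ?_⟩
      rw [hj]
      calc (2 * j + 1) * (2 * j + 1) = 4 * (j * (j + 1)) + 1 := by ring
        _ = 8 * l + 1 := by rw [hl]; ring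
    obtain ⟨l, hl⟩ := e2
    rw [hl, pow_succ, pow_mul, h8, one_pow, one_mul]

section type

variable {F1 F2 : Type*} [Field F1] [Field F2] [Finite F1] [Finite F2] {t : G}
  {L : LocalSL (bar t ⟨t, Subgroup.mem_centralizer_singleton_iff.2 rfl⟩) F1 F2}

/-- **(i)** the type of the pair `(t, s)` in `G` and in `C(t)/O(C(t))` -/
theorem innG_iff (htt : t * t = 1) {s : G} (hst : s * t = t * s) (hs : s * s = 1) {D1 : M2 F1} {D2 : M2 F2} {n1 : SL2 F1}
    {n2 : SL2 F2} (F : L.Frame (bar t ⟨s, cmem hst⟩) D1 D2 n1 n2) : InnG t s ↔ IsSquare D1.det := by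
  rw [F.isSquare_iff]
  constructor
  · rintro ⟨x, h1, h2, h3⟩
    refine ⟨bar t ⟨x, cmem h1⟩, ?_, ?_, ?_⟩
    · rw [← map_mul, ← map_mul]
      congr 1
      exact Subtype.ext h1
    · rw [← map_mul, ← map_mul]
      congr 1
      exact Subtype.ext h2
    · rw [← map_mul, ← map_mul]
      rcases h3 with h3 | h3 | h3
      · left
        congr 1
        exact Subtype.ext h3
      · right; left
        congr 1
        exact Subtype.ext h3
      · right; right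
        congr 1
        exact Subtype.ext h3
  · rintro ⟨c, h1, h2, h3⟩
    obtain ⟨x, hx, hxs, rfl⟩ := exists_lift_comm hst hs c h2
    -- the square of the image is an involution
    have h4 : (bar t ⟨x, cmem hx⟩) ^ 4 = 1 := by
      have hs2 : bar t ⟨s, cmem hst⟩ * bar t ⟨s, cmem hst⟩ = 1 := by
        rw [← map_mul]
        have : (⟨s, cmem hst⟩ : centralizer ({t} : Set G)) * ⟨s, cmem hst⟩ = 1 := Subtype.ext hs
        rw [this, map_one]
      have ht2 := L.t_sq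
      have hc := F.rep.comm
      have e : (bar t ⟨x, cmem hx⟩) ^ 4 =
          (bar t ⟨x, cmem hx⟩ * bar t ⟨x, cmem hx⟩) * (bar t ⟨x, cmem hx⟩ * bar t ⟨x, cmem hx⟩) := by
        rw [← pow_two, ← pow_two, ← pow_mul]
      rw [e]
      rcases h3 with h3 | h3 | h3
      · rw [h3, ht2]
      · rw [h3, hs2]
      · rw [h3]
        calc _ = bar t ⟨s, cmem hst⟩ * (bar t ⟨t, Subgroup.mem_centralizer_singleton_iff.2 rfl⟩ * bar t ⟨s, cmem hst⟩) *
              bar t ⟨t, Subgroup.mem_centralizer_singleton_iff.2 rfl⟩ := by group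
          _ = (bar t ⟨s, cmem hst⟩ * bar t ⟨s, cmem hst⟩) *
              (bar t ⟨t, Subgroup.mem_centralizer_singleton_iff.2 rfl⟩ *
                bar t ⟨t, Subgroup.mem_centralizer_singleton_iff.2 rfl⟩) := by rw [← hc]; group
          _ = 1 := by rw [hs2, ht2, one_mul]
    have h8 : (bar t ⟨x, cmem hx⟩) ^ 8 = 1 := by
      have e : (8 : ℕ) = 4 * 2 := rfl
      rw [e, pow_mul, h4, one_pow]
    obtain ⟨y, hy, ⟨k, hk⟩, hyx, hbar⟩ := exists_two_part hx h8
    have hys : y * s = s * y := by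
      obtain ⟨i, rfl⟩ := mem_zpowers_iff.1 hyx
      exact (Commute.zpow_left (show Commute x s from hxs) i)
    rw [← hbar] at h3
    -- `y y = τ`
    have key : ∀ τ : G, ∀ hτt : τ * t = t * τ, τ * τ = 1 → y * τ = τ * y →
        bar t ⟨y, cmem hy⟩ * bar t ⟨y, cmem hy⟩ = bar t ⟨τ, cmem hτt⟩ → y * y = τ := by
      intro τ hτt hτ hyτ h
      have hcm : Commute (y * y) τ := by
        have : Commute y τ := hyτ
        exact this.mul_left this
      have h5 : y * y * τ ∈ Cfsg.centralizerPPrimeCore 2 t := by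
        refine mem_core_iff.2 ⟨mul_mem (mul_mem (cmem hy) (cmem hy)) (cmem hτt), ?_⟩
        rw [← bar_eq_one_iff]
        have e : (⟨y * y * τ, mul_mem (mul_mem (cmem hy) (cmem hy)) (cmem hτt)⟩ : centralizer ({t} : Set G)) =
            ⟨y, cmem hy⟩ * ⟨y, cmem hy⟩ * ⟨τ, cmem hτt⟩ := rfl
        rw [e, map_mul, map_mul, h, ← map_mul]
        have : (⟨τ, cmem hτt⟩ : centralizer ({t} : Set G)) * ⟨τ, cmem hτt⟩ = 1 := Subtype.ext hτ
        rw [this, map_one]
      have h6 : (y * y * τ) ^ 2 ^ (k + 1) = 1 := by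
        have e1 : (y * y) ^ 2 ^ (k + 1) = 1 := by
          rw [← pow_two, ← pow_mul, pow_succ, ← mul_assoc, mul_comm 2 (2 ^ k), mul_assoc, pow_mul, hk, one_pow]
        have e2 : τ ^ 2 ^ (k + 1) = 1 := by
          rw [pow_succ, mul_comm, pow_mul, pow_two, hτ, one_pow]
        rw [hcm.mul_pow, e1, e2, one_mul]
      have h7 : orderOf (y * y * τ) ∣ 2 ^ (k + 1) := orderOf_dvd_of_pow_eq_one h6
      have h8 : orderOf (y * y * τ) ∣ Nat.card (Cfsg.centralizerPPrimeCore 2 t) := by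
        have := orderOf_dvd_natCard (⟨_, h5⟩ : Cfsg.centralizerPPrimeCore 2 t)
        rwa [← Subgroup.orderOf_coe] at this
      have h9 : orderOf (y * y * τ) = 1 := by
        refine Nat.eq_one_of_dvd_coprimes ?_ h7 h8
        exact Nat.Coprime.pow_left _ (Nat.coprime_two_left.2 (core_odd t))
      have h10 := orderOf_eq_one_iff.1 h9
      rw [mul_eq_one_iff_eq_inv] at h10
      rw [h10]
      exact inv_eq_of_mul_eq_one_right hτ
    have hsts : s * t * (s * t) = 1 := by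
      calc s * t * (s * t) = s * (t * s) * t := by group
        _ = (s * s) * (t * t) := by rw [← hst]; group
        _ = 1 := by rw [hs, htt, one_mul]
    refine ⟨y, hy, hys, ?_⟩
    rcases h3 with h3 | h3 | h3
    · exact Or.inl (key t rfl htt hy h3)
    · exact Or.inr (Or.inl (key s hst hs hys h3))
    · refine Or.inr (Or.inr (key (s * t) ?_ hsts ?_ (by rw [h3, ← map_mul]; rfl)))
      · rw [mul_assoc, htt, mul_one, ← mul_assoc, ← hst, mul_assoc, htt, mul_one]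
      · rw [← mul_assoc, hys, mul_assoc, hy, mul_assoc]

end type

theorem bar_sq {t s : G} (hst : s * t = t * s) (hs : s * s = 1) :
    bar t ⟨s, cmem hst⟩ * bar t ⟨s, cmem hst⟩ = 1 := by
  rw [← map_mul]
  have : (⟨s, cmem hst⟩ : centralizer ({t} : Set G)) * ⟨s, cmem hst⟩ = 1 := Subtype.ext hs
  rw [this, map_one]

theorem bar_ne_one {t s : G} (hst : s * t = t * s) (hs : s * s = 1) (hs1 : s ≠ 1) :
    bar t ⟨s, cmem hst⟩ ≠ 1 := by
  intro h
  rw [← map_one (bar t)] at h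
  exact hs1 (eq_of_bar_eq (c := ⟨s, cmem hst⟩) (d := 1) hs (by simp) (by simp) h)

theorem bar_ne_t {t s : G} (htt : t * t = 1) (hst : s * t = t * s) (hs : s * s = 1) (hs1 : s ≠ t) :
    bar t ⟨s, cmem hst⟩ ≠ bar t ⟨t, Subgroup.mem_centralizer_singleton_iff.2 rfl⟩ := by
  intro h
  exact hs1 (eq_of_bar_eq (c := ⟨s, cmem hst⟩) (d := ⟨t, Subgroup.mem_centralizer_singleton_iff.2 rfl⟩) hs htt hst h)

theorem bar_comm_t {t s : G} (hst : s * t = t * s) :
    bar t ⟨s, cmem hst⟩ * bar t ⟨t, Subgroup.mem_centralizer_singleton_iff.2 rfl⟩ =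
      bar t ⟨t, Subgroup.mem_centralizer_singleton_iff.2 rfl⟩ * bar t ⟨s, cmem hst⟩ := by
  rw [← map_mul, ← map_mul]
  congr 1
  exact Subtype.ext hst

/-- **(ii), first form**: involutions of `C(t)` of the same type are conjugate in `C(t)` -/
theorem exists_conj_left {t s s' : G} (hloc : LocHyp t) (htt : t * t = 1) (hst : s * t = t * s) (hs : s * s = 1)
    (hs1 : s ≠ 1) (hst' : s ≠ t) (hst2 : s' * t = t * s') (hs2 : s' * s' = 1) (hs12 : s' ≠ 1) (hst2' : s' ≠ t)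
    (hty : InnG t s ↔ InnG t s') : ∃ g : G, g * t * g⁻¹ = t ∧ g * s * g⁻¹ = s' := by
  obtain ⟨F1, F2, _, _, _, _, L, H⟩ := hloc
  obtain ⟨D1, D2, n1, n2, F⟩ := H.exists_frame (bar_comm_t hst) (bar_sq hst hs) (bar_ne_one hst hs hs1)
    (bar_ne_t htt hst hs hst')
  obtain ⟨E1, E2, m1, m2, F'⟩ := H.exists_frame (bar_comm_t hst2) (bar_sq hst2 hs2) (bar_ne_one hst2 hs2 hs12)
    (bar_ne_t htt hst2 hs2 hst2')
  have h1 := innG_iff htt hst hs F
  have h2 := innG_iff htt hst2 hs2 F'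
  obtain ⟨x, y, hxy⟩ := F.conj_of_type F'.rep F'.tr1 F'.tr2 (by rw [← h1, ← h2, hty])
  obtain ⟨c, hc⟩ := QuotientGroup.mk'_surjective _ (L.e1 x * L.e2 y)
  change bar t c = _ at hc
  rw [← hc] at hxy
  -- `c s' c⁻¹ ≡ s`
  have hct : (c : G) * t = t * c := mem_centralizer_singleton_iff.1 c.2
  have h3 : ((c : G) * s' * (c : G)⁻¹) * s ∈ Cfsg.centralizerPPrimeCore 2 t := by
    have e : bar t (c * ⟨s', cmem hst2⟩ * c⁻¹ * ⟨s, cmem hst⟩) = 1 := by
      rw [map_mul, map_mul, map_mul, map_inv, hxy]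
      have := bar_sq hst hs
      calc _ = bar t ⟨s, cmem hst⟩ * bar t ⟨s, cmem hst⟩ := by group
        _ = 1 := this
    rw [bar_eq_one_iff] at e
    exact mem_core_iff.2 ⟨_, e⟩
  have hcs : ((c : G) * s' * (c : G)⁻¹) * ((c : G) * s' * (c : G)⁻¹) = 1 := by
    calc ((c : G) * s' * (c : G)⁻¹) * ((c : G) * s' * (c : G)⁻¹) = c * (s' * s') * (c : G)⁻¹ := by group
      _ = 1 := by rw [hs2]; group
  obtain ⟨d, hd, hds⟩ := exists_conj_of_odd (core_odd t) hs hcs h3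
  obtain ⟨hd1, hd2⟩ := mem_core_iff.1 hd
  have hdt : d * t = t * d := mem_centralizer_singleton_iff.1 hd1
  refine ⟨(c : G)⁻¹ * d, ?_, ?_⟩
  · calc (c : G)⁻¹ * d * t * ((c : G)⁻¹ * d)⁻¹ = (c : G)⁻¹ * (d * t) * d⁻¹ * c := by group
      _ = (c : G)⁻¹ * (t * c) := by rw [hdt]; group
      _ = t := by rw [← hct]; group
  · calc (c : G)⁻¹ * d * s * ((c : G)⁻¹ * d)⁻¹ = (c : G)⁻¹ * (d * s * d⁻¹) * c := by group
      _ = s' := by rw [hds]; group

/-- **(ii)**: ordered pairs of commuting involutions of the same type are conjugate -/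
theorem exists_conj (hloc : ∀ v : G, v * v = 1 → v ≠ 1 → LocHyp v)
    (hcl : ∀ a b : G, a * a = 1 → a ≠ 1 → b * b = 1 → b ≠ 1 → ∃ g : G, g * a * g⁻¹ = b)
    {t s t' s' : G} (htt : t * t = 1) (ht1 : t ≠ 1) (hst : s * t = t * s) (hs : s * s = 1) (hs1 : s ≠ 1) (hne : s ≠ t)
    (htt' : t' * t' = 1) (ht1' : t' ≠ 1) (hst' : s' * t' = t' * s') (hs' : s' * s' = 1) (hs1' : s' ≠ 1)
    (hne' : s' ≠ t') (hty : InnG t s ↔ InnG t' s') : ∃ g : G, g * t * g⁻¹ = t' ∧ g * s * g⁻¹ = s' := by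
  obtain ⟨h, rfl⟩ := hcl t t' htt ht1 htt' ht1'
  have e : ∀ a b : G, h * a * h⁻¹ * (h * b * h⁻¹) = h * (a * b) * h⁻¹ := fun a b => by group
  obtain ⟨g, hg1, hg2⟩ := exists_conj_left (t := h * t * h⁻¹) (s := h * s * h⁻¹) (s' := s') (hloc _ htt' ht1') htt'
    (by rw [e, e, hst]) (by rw [e, hs]; group) (fun h1 => hs1 (by rwa [conj_eq_one_iff] at h1))
    (fun h1 => hne (by simpa using h1)) hst' hs' hs1' hne' (by rw [innG_conj, hty])
  refine ⟨g * h, ?_, ?_⟩
  · calc g * h * t * (g * h)⁻¹ = g * (h * t * h⁻¹) * g⁻¹ := by group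
      _ = _ := hg1
  · calc g * h * s * (g * h)⁻¹ = g * (h * s * h⁻¹) * g⁻¹ := by group
      _ = _ := hg2

/-- **(iii)**: outer · outer = inner -/
theorem innG_mul {x a b : G} (hloc : LocHyp x) (hxx : x * x = 1) (hax : a * x = x * a) (haa : a * a = 1) (ha1 : a ≠ 1)
    (hane : a ≠ x) (hbx : b * x = x * b) (hbb : b * b = 1) (hb1 : b ≠ 1) (hbne : b ≠ x) (hab : a * b = b * a)
    (hab1 : a * b ≠ 1) (habx : a * b ≠ x) (ha : ¬ InnG x a) (hb : ¬ InnG x b) : InnG x (a * b) := by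
  obtain ⟨F1, F2, _, _, _, _, L, H⟩ := hloc
  obtain ⟨D1, D2, n1, n2, F⟩ := H.exists_frame (bar_comm_t hax) (bar_sq hax haa) (bar_ne_one hax haa ha1)
    (bar_ne_t hxx hax haa hane)
  obtain ⟨E1, E2, m1, m2, F'⟩ := H.exists_frame (bar_comm_t hbx) (bar_sq hbx hbb) (bar_ne_one hbx hbb hb1)
    (bar_ne_t hxx hbx hbb hbne)
  have habx' : a * b * x = x * (a * b) := by rw [mul_assoc, hbx, ← mul_assoc, hax, mul_assoc]
  have habab : a * b * (a * b) = 1 := by
    calc a * b * (a * b) = a * (b * a) * b := by group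
      _ = (a * a) * (b * b) := by rw [← hab]; group
      _ = 1 := by rw [haa, hbb, one_mul]
  obtain ⟨C1, C2, l1, l2, F''⟩ := H.exists_frame (bar_comm_t habx') (bar_sq habx' habab) (bar_ne_one habx' habab hab1)
    (bar_ne_t hxx habx' habab habx)
  rw [innG_iff hxx hax haa F] at ha
  rw [innG_iff hxx hbx hbb F'] at hb
  rw [innG_iff hxx habx' habab F'']
  have h1 := F.rep.mul F'.rep
  have e : bar x ⟨a * b, cmem habx'⟩ = bar x ⟨a, cmem hax⟩ * bar x ⟨b, cmem hbx⟩ := by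
    rw [← map_mul]; rfl
  rw [← e] at h1
  obtain ⟨⟨c, hc, hc'⟩, -⟩ := h1.prop F''.rep
  rw [hc', det_smul2, Matrix.det_mul]
  exact (IsSquare.mul_self c).mul (mul_isSquare_of_not ha hb)

end Cfsg.Agent.GTwoOdd.Core.Inner
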