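import Cfsg.Agent.GTwoOdd.Core.OuterGlue
import Cfsg.Agent.GTwoOdd.Core.Functor
import Cfsg.Agent.GTwoOdd.Core.Inner

/-!
# Balance at the outer pairs

`Inn x a` is the type of a pair of commuting involutions.  If the cores are balanced at the inner pairs,
then they are balanced at the outer pairs.
-/

set_option autoImplicit false
set_option linter.unusedSectionVars false

namespace Cfsg.Agent.GTwoOdd.Core.OuterBal

open Matrix Subgroup
open Cfsg Cfsg.Agent
open Cfsg.Agent.GTwoOdd Cfsg.Agent.GTwoOdd.LocalSL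
open Cfsg.Agent.Dichotomy.Elem Cfsg.Agent.Dichotomy.Functor Cfsg.Agent.GTwoOdd.Core.Functor
open Cfsg.Agent.GTwoOdd.Core.OuterGlue

variable {G : Type*} [Group G]

/-- `x`, `a` are commuting involutions, different from each other -/
structure Pair (x a : G) : Prop where
  xx : x * x = 1
  aa : a * a = 1
  x1 : x ≠ 1
  a1 : a ≠ 1
  ne : x ≠ a
  comm : x * a = a * x

theorem Pair.symm {x a : G} (h : Pair x a) : Pair a x := ⟨h.aa, h.xx, h.a1, h.x1, h.ne.symm, h.comm.symm⟩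

/-- the type of the pair is read off from the frame in `C(x)/O(C(x))` -/
def TypeIff (Inn : G → G → Prop) : Prop :=
  ∀ (x a : G) (hax : a * x = x * a), Pair x a → ∀ (F1 F2 : Type) [Field F1] [Field F2] [Finite F1] [Finite F2]
    (L : LocalSL (bar x ⟨x, mem_centralizer_singleton_iff.2 rfl⟩) F1 F2) (D1 : M2 F1) (D2 : M2 F2) (n1 : SL2 F1)
    (n2 : SL2 F2), L.Frame (bar x ⟨a, mem_centralizer_singleton_iff.2 hax⟩) D1 D2 n1 n2 → (Inn x a ↔ IsSquare D1.det)

variable [Finite G]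

/-- an involution of `C(x)` is not in the odd core -/
theorem not_mem_core {x a : G} (haa : a * a = 1) (ha1 : a ≠ 1) : a ∉ centralizerPPrimeCore 2 x := by
  intro h
  have h1 := orderOf_dvd_natCard (⟨a, h⟩ : ↥(centralizerPPrimeCore 2 x))
  rw [Subgroup.orderOf_mk, orderOf_two haa ha1] at h1
  exact th_odd x h1

/-- the frame of a pair -/
theorem exists_frame {x a : G} (h : Pair x a) {F1 F2 : Type*} [Field F1] [Field F2] [Finite F1] [Finite F2]
    {L : LocalSL (bar x ⟨x, mem_centralizer_singleton_iff.2 rfl⟩) F1 F2} (H : L.Hyp) (hax : a * x = x * a) :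
    ∃ D1 D2 n1 n2, L.Frame (bar x ⟨a, mem_centralizer_singleton_iff.2 hax⟩) D1 D2 n1 n2 := by
  refine H.exists_frame ?_ ?_ ?_ ?_
  · rw [← map_mul, ← map_mul]
    congr 1
    exact Subtype.ext hax
  · rw [← map_mul]
    have : (⟨a, mem_centralizer_singleton_iff.2 hax⟩ : centralizer ({x} : Set G)) *
        ⟨a, mem_centralizer_singleton_iff.2 hax⟩ = 1 := Subtype.ext h.aa
    rw [this, map_one]
  · rw [Ne, bar_eq_one]
    exact not_mem_core h.aa h.a1
  · rw [Ne, bar_eq]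
    have hx : x⁻¹ = x := inv_eq_of_mul_eq_one_left h.xx
    change ¬ (a * x⁻¹ ∈ _)
    rw [hx]
    apply not_mem_core
    · calc a * x * (a * x) = a * a * (x * x) := by
            rw [mul_assoc, ← mul_assoc x a x, h.comm]; group
        _ = 1 := by rw [h.aa, h.xx, one_mul]
    · intro h1
      apply h.ne
      have h2 := mul_eq_one_iff_eq_inv.1 h1
      rw [hx] at h2
      exact h2.symm

/-- `W ⟨a, a₀⟩` has odd order if the pair `(a, a₀)` is conjugate to a pair of a balanced big subgroup -/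
theorem W_odd_of_conj (hs : Solv G) {E : Subgroup G} (hE : Big E) (hb : BalOn E) {v w a a₀ g : G} (hv : v ∈ E)
    (hw : w ∈ E) (hv1 : v ≠ 1) (hw1 : w ≠ 1) (hne : v ≠ w) (h1 : g * v * g⁻¹ = a) (h2 : g * w * g⁻¹ = a₀) :
    ¬ 2 ∣ Nat.card (W (four a a₀)) := by
  have h3 := Core.Functor.W_four_conj v w g
  rw [h1, h2] at h3
  rw [← h3, card_map_of_injective (MulAut.conj g).injective, W_four_eq hs hE hb hv hw hv1 hw1 hne]
  exact W_odd hs hE hb

/-- **balance at the outer pairs** -/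
theorem outer_bal (hs : Solv G) (hL : ∀ v : G, orderOf v = 2 → LocHyp v) {Inn : G → G → Prop} (hiff : TypeIff Inn)
    (hbal : ∀ a b : G, Pair a b → Inn a b →
      centralizerPPrimeCore 2 a ⊓ centralizer ({b} : Set G) ≤ centralizerPPrimeCore 2 b)
    {E : Subgroup G} (hE : Big E) (hEI : ∀ a ∈ E, a ≠ 1 → ∀ b ∈ E, b ≠ 1 → a ≠ b → Inn a b)
    (hconj : ∀ t s t' s' : G, Pair t s → Pair t' s' → Inn t s → Inn t' s' →
      ∃ g, g * t * g⁻¹ = t' ∧ g * s * g⁻¹ = s')
    (hout : ∀ x a : G, Pair x a → ¬ Inn x a → ∃ a₀, Pair x a₀ ∧ Pair a a₀ ∧ Inn x a₀ ∧ Inn a a₀)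
    {x a : G} (h : Pair x a) (hn : ¬ Inn x a) :
    centralizerPPrimeCore 2 a ⊓ centralizer ({x} : Set G) ≤ centralizerPPrimeCore 2 x := by
  obtain ⟨a₀, p1, p2, i1, i2⟩ := hout x a h hn
  -- a balanced big subgroup
  have hb : BalOn E := by
    intro a ha ha1 b hb hb1
    by_cases hab : a = b
    · rw [hab]; exact inf_le_left
    · exact hbal a b ⟨elem_sq hE.1 ha, elem_sq hE.1 hb, ha1, hb1, hab, elem_comm hE.1 a ha b hb⟩
        (hEI a ha ha1 b hb hb1 hab)
  -- a pair of `E`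
  obtain ⟨v, hv, hv1⟩ : ∃ v ∈ E, v ≠ 1 := by
    by_contra hc
    push Not at hc
    have h1 : E = ⊥ := (Subgroup.eq_bot_iff_forall E).2 hc
    have h2 := hE.2
    rw [h1, Subgroup.card_bot] at h2
    omega
  obtain ⟨w, hw, hw1⟩ : ∃ w ∈ E, w ∉ Subgroup.zpowers v := by
    by_contra hc
    push Not at hc
    have h1 : Nat.card E ≤ Nat.card (Subgroup.zpowers v) :=
      Nat.le_of_dvd Nat.card_pos (Subgroup.card_dvd_of_le hc)
    rw [Nat.card_zpowers, orderOf_two (elem_sq hE.1 hv) hv1] at h1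
    have h2 := hE.2
    omega
  have hwv : v ≠ w := fun h => hw1 (h ▸ Subgroup.mem_zpowers v)
  have hw1' : w ≠ 1 := fun h => hw1 (h ▸ one_mem _)
  obtain ⟨g, hg1, hg2⟩ := hconj v w a a₀ ⟨elem_sq hE.1 hv, elem_sq hE.1 hw, hv1, hw1', hwv,
    elem_comm hE.1 v hv w hw⟩ p2 (hEI v hv hv1 w hw hw1' hwv) i2
  have hW : Odd (Nat.card (W (four a a₀))) := by
    rw [← Nat.not_even_iff_odd, even_iff_two_dvd]
    exact W_odd_of_conj hs hE hb hv hw hv1 hw1' hwv hg1 hg2
  obtain ⟨F1, F2, _, _, _, _, L, H⟩ := hL x (orderOf_two h.xx h.x1)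
  obtain ⟨D1, D2, n1, n2, F⟩ := exists_frame h H h.comm.symm
  obtain ⟨E1, E2, m1, m2, F'⟩ := exists_frame p1 H p1.comm.symm
  have hno : ¬ IsSquare D1.det := fun h1 => hn ((hiff x a h.comm.symm h F1 F2 L D1 D2 n1 n2 F).2 h1)
  have hsq : IsSquare E1.det := (hiff x a₀ p1.comm.symm p1 F1 F2 L E1 E2 m1 m2 F').1 i1
  have hnorm : ∀ c ∈ four a a₀, ∀ w ∈ W (four a a₀), c * w * c⁻¹ ∈ W (four a a₀) := by
    intro c hc w hw
    have h1 := normalizer_W (four a a₀) (Subgroup.le_normalizer hc)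
    exact (Subgroup.mem_normalizer_iff.1 h1 w).1 hw
  exact outer_balance H h.aa p1.aa h.comm.symm p1.comm.symm p2.comm F.rep F'.rep F.tr1 F.tr2 F'.tr1 F'.tr2 hno hsq hW
    (hnorm a (left_mem_four a a₀)) (hnorm a₀ (right_mem_four a a₀)) (le_W _ (left_mem_four a a₀) h.a1)
    (le_W _ (mul_mem (left_mem_four a a₀) (right_mem_four a a₀)) (by
      intro h1
      apply p2.ne
      rw [mul_eq_one_iff_eq_inv] at h1
      rw [h1, inv_eq_iff_mul_eq_one, p2.aa]))

/-! ### With the concrete type -/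

theorem typeIff_innG : TypeIff (G := G) Inner.InnG := fun _ _ hax h _ _ _ _ _ _ _ _ _ _ _ F =>
  Inner.innG_iff h.xx hax h.aa F

/-- inner pairs are conjugate -/
theorem exists_conj_innG (hL : ∀ v : G, orderOf v = 2 → LocHyp v)
    (hcl : ∀ a b : G, orderOf a = 2 → orderOf b = 2 → ∃ g : G, g * a * g⁻¹ = b) {t s t' s' : G} (h : Pair t s)
    (h' : Pair t' s') (hi : Inner.InnG t s) (hi' : Inner.InnG t' s') : ∃ g, g * t * g⁻¹ = t' ∧ g * s * g⁻¹ = s' :=
  Inner.exists_conj (fun v h1 h2 => hL v (orderOf_two h1 h2))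
    (fun a b h1 h2 h3 h4 => hcl a b (orderOf_two h1 h2) (orderOf_two h3 h4)) h.xx h.x1 h.comm.symm h.aa h.a1 h.ne.symm
    h'.xx h'.x1 h'.comm.symm h'.aa h'.a1 h'.ne.symm ⟨fun _ => hi', fun _ => hi⟩

/-- **balance for all pairs** from balance at the inner pairs and the geometry of the inner pairs -/
theorem bal_all (hs : Solv G) (hL : ∀ v : G, orderOf v = 2 → LocHyp v)
    (hcl : ∀ a b : G, orderOf a = 2 → orderOf b = 2 → ∃ g : G, g * a * g⁻¹ = b)
    (hbal : ∀ a b : G, Pair a b → Inner.InnG a b →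
      centralizerPPrimeCore 2 a ⊓ centralizer ({b} : Set G) ≤ centralizerPPrimeCore 2 b)
    {E : Subgroup G} (hE : Big E) (hEI : ∀ a ∈ E, a ≠ 1 → ∀ b ∈ E, b ≠ 1 → a ≠ b → Inner.InnG a b)
    (hout : ∀ x a : G, Pair x a → ¬ Inner.InnG x a → ∃ a₀, Pair x a₀ ∧ Pair a a₀ ∧ Inner.InnG x a₀ ∧ Inner.InnG a a₀) :
    ∀ a b : G, orderOf a = 2 → orderOf b = 2 → a * b = b * a →
      centralizerPPrimeCore 2 a ⊓ centralizer ({b} : Set G) ≤ centralizerPPrimeCore 2 b := by
  intro a b ha hb hab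
  by_cases hne : a = b
  · rw [hne]; exact inf_le_left
  have h : Pair a b := ⟨sq_of_orderOf ha, sq_of_orderOf hb, ne_one_of_orderOf ha, ne_one_of_orderOf hb, hne, hab⟩
  by_cases hi : Inner.InnG a b
  · exact hbal a b h hi
  · exact outer_bal hs hL typeIff_innG hbal hE hEI
      (fun t s t' s' h1 h2 h3 h4 => exists_conj_innG hL hcl h1 h2 h3 h4) hout h.symm
      (fun h1 => hi (h1.symm hab))

end Cfsg.Agent.GTwoOdd.Core.OuterBal
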