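import Cfsg.Agent.GTwoOdd.Core.Frame
import Cfsg.Agent.GTwoOdd.Core.OuterBal

/-!
# Geometry of the involutions, part (a)

There is `w ∈ S0 ∖ A` with all pairs of the elementary abelian group `V⟨w⟩` of order 8 inner.
-/

set_option autoImplicit false

namespace Cfsg.Agent.GTwoOdd.Core.Geom

open Subgroup Cfsg.Agent.Lib.GoldschmidtFusion
open Cfsg.Agent.GTwoOdd.Core.OddG Cfsg.Agent.GTwoOdd.Core.OddLoc Cfsg.Agent.GTwoOdd.Core.FrameG
open Cfsg.Agent.GTwoOdd.Core.OuterBal Cfsg.Agent.GTwoOdd.Core.Inner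

variable {G : Type*} [Group G]

/-- `V ∪ wV` -/
def octo (V : Subgroup G) (w : G) (hw : w * w = 1) (hc : ∀ v ∈ V, w * v = v * w) : Subgroup G where
  carrier := {x | x ∈ V ∨ w * x ∈ V}
  mul_mem' := by
    rintro x y (hx | hx) (hy | hy)
    · exact Or.inl (V.mul_mem hx hy)
    · right
      rw [← mul_assoc, hc x hx, mul_assoc]
      exact V.mul_mem hx hy
    · right
      rw [← mul_assoc]
      exact V.mul_mem hx hy
    · left
      have h1 : x = w * (w * x) := by rw [← mul_assoc, hw, one_mul]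
      have h2 : x * y = (w * x) * (w * y) := by
        calc x * y = w * (w * x) * y := by rw [← h1]
          _ = (w * x) * w * y := by rw [hc _ hx]
          _ = _ := by rw [mul_assoc]
      rw [h2]
      exact V.mul_mem hx hy
  one_mem' := Or.inl V.one_mem
  inv_mem' := by
    rintro x (hx | hx)
    · exact Or.inl (V.inv_mem hx)
    · right
      have hwi : w⁻¹ = w := inv_eq_of_mul_eq_one_left hw
      have h1 : w * (w * x) = x := by rw [← mul_assoc, hw, one_mul]
      have h2 : w * x⁻¹ = (w * x)⁻¹ := by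
        calc w * x⁻¹ = w * (w * (w * x))⁻¹ := by rw [h1]
          _ = w * ((w * x)⁻¹ * w) := by rw [mul_inv_rev w, hwi]
          _ = w * (w * (w * x)⁻¹) := by rw [hc _ (V.inv_mem hx)]
          _ = (w * x)⁻¹ := by rw [← mul_assoc, hw, one_mul]
      rw [h2]
      exact V.inv_mem hx

theorem mem_octo {V : Subgroup G} {w : G} {hw : w * w = 1} {hc : ∀ v ∈ V, w * v = v * w} {x : G} :
    x ∈ octo V w hw hc ↔ x ∈ V ∨ w * x ∈ V := Iff.rfl

/-- a fixed-point-free automorphism of a four-group is transitive -/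
theorem rot {P S0 A W V : Subgroup G} (h : Pre P S0 A W V) {x : G}
    (hx : ∀ v ∈ V, v ≠ 1 → x * v * x⁻¹ ∈ V ∧ x * v * x⁻¹ ≠ v) {u : G} (hu : u ∈ V) (hu1 : u ≠ 1) :
    x * (x * u * x⁻¹) * x⁻¹ = u * (x * u * x⁻¹) := by
  obtain ⟨h1, h2⟩ := hx u hu hu1
  have hb1 : x * u * x⁻¹ ≠ 1 := by rwa [Ne, conj_eq_one_iff]
  obtain ⟨h3, h4⟩ := hx _ h1 hb1
  rcases h.V_elim hu h1 hu1 hb1 h2.symm h3 with h5 | h5 | h5 | h5
  · rw [conj_eq_one_iff] at h5
    exact absurd h5 hb1
  · exfalso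
    -- `x` swaps `u` and `b`
    have hub : u * (x * u * x⁻¹) ∈ V := V.mul_mem hu h1
    have hub1 : u * (x * u * x⁻¹) ≠ 1 := by
      intro h6
      apply h2
      rw [mul_eq_one_iff_inv_eq, h.invV hu] at h6
      exact h6.symm
    apply (hx _ hub hub1).2
    calc x * (u * (x * u * x⁻¹)) * x⁻¹ = (x * u * x⁻¹) * (x * (x * u * x⁻¹) * x⁻¹) := by group
      _ = (x * u * x⁻¹) * u := by rw [h5]
      _ = u * (x * u * x⁻¹) := h.commV h1 hu
  · exact absurd h5 h4
  · exact h5

/-- **[G5] (a)** -/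
theorem geoA [Finite G] (hL : ∀ v : G, orderOf v = 2 → LocHyp v) {P : Sylow 2 G} {S0 A W V : Subgroup G} {m : ℕ}
    (hF : FrameData P S0 A W V m) :
    ∃ w ∈ S0, w ∉ A ∧ (∀ v ∈ V, v ≠ 1 → InnG w v) ∧ (∀ u ∈ V, u ≠ 1 → ∀ v ∈ V, v ≠ 1 → u ≠ v → InnG u v) ∧
    ∃ E : Subgroup G, Dichotomy.Elem.Big E ∧ ∀ a ∈ E, a ≠ 1 → ∀ b ∈ E, b ≠ 1 → a ≠ b → InnG a b := by
  have h := hF.conf
  obtain ⟨x, hxo, hxS, hxV⟩ := hF.fused
  -- a `3`-element with the same action on `V`
  obtain ⟨n, k, hk, hnk, hnV⟩ := Homo.exists_three h.cardV (fun v hv => h.sqV hv)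
    (fun v hv => h.conjV hxS hv) (fun v hv hv1 => (hxV v hv hv1).2)
  have hyS : ∀ y ∈ S0, x ^ n * y * (x ^ n)⁻¹ ∈ S0 := Homo.pow_conj_mem hxS n
  have hyA : ∀ y ∈ A, x ^ n * y * (x ^ n)⁻¹ ∈ A := fun y hy => h.conjA hyS hy
  have hyV : ∀ v ∈ V, v ≠ 1 → x ^ n * v * (x ^ n)⁻¹ ∈ V ∧ x ^ n * v * (x ^ n)⁻¹ ≠ v := by
    intro v hv hv1
    rw [hnV v hv]
    exact hxV v hv hv1
  have hA2 : IsPGroup 2 A := P.isPGroup'.to_le h.A_le_P
  have hA3 : ¬ 3 ∣ Nat.card A := by
    obtain ⟨l, hl⟩ := IsPGroup.iff_card.1 hA2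
    rw [hl]
    intro h3
    have := Nat.Prime.dvd_of_dvd_pow Nat.prime_three h3
    omega
  obtain ⟨w, hw, hwA, hyw⟩ := Homo.exists_commute h.A_le h.idxA h.exw hA3 hnk hyS hyA
  generalize x ^ n = y at *
  have hww : w * w = 1 := h.inv2 w hw hwA
  have hwV : ∀ v ∈ V, w * v = v * w := fun v hv => h.S_cent hw hv
  have hwV' : w ∉ V := fun h1 => hwA (h.V_le h1)
  have hw1 : w ≠ 1 := fun h1 => hwA (h1 ▸ A.one_mem)
  -- the pairs of `V`
  have hInV : ∀ u ∈ V, u ≠ 1 → ∀ v ∈ V, v ≠ 1 → u ≠ v → InnG u v := by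
    intro u hu _ v hv _ _
    obtain ⟨c, hc, hcc⟩ := h.root u hu
    exact ⟨c, h.comm c hc u (h.V_le hu), h.comm c hc v (h.V_le hv), Or.inl hcc⟩
  -- one pair `(w, u)` is inner
  have hone : ∃ u ∈ V, u ≠ 1 ∧ InnG w u := by
    obtain ⟨u, hu, hu1, -⟩ := h.exists_ne' 1
    by_cases hi : InnG w u
    · exact ⟨u, hu, hu1, hi⟩
    obtain ⟨h1, h2⟩ := hyV u hu hu1
    have hb1 : y * u * y⁻¹ ≠ 1 := by rwa [Ne, conj_eq_one_iff]
    have hub1 : u * (y * u * y⁻¹) ≠ 1 := by
      intro h6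
      apply h2
      rw [mul_eq_one_iff_inv_eq, h.invV hu] at h6
      exact h6.symm
    have hyw' : y * w * y⁻¹ = w := by rw [hyw]; group
    have hi2 : ¬ InnG w (y * u * y⁻¹) := by
      intro h3
      apply hi
      rw [← innG_conj y, hyw']
      exact h3
    refine ⟨u * (y * u * y⁻¹), V.mul_mem hu h1, hub1, ?_⟩
    refine innG_mul (hL w (orderOf_eq_prime (by rw [pow_two]; exact hww) hw1)) hww (hwV u hu).symm (h.sqV hu) hu1
      ?_ (hwV _ h1).symm (h.sqV h1) hb1 ?_ (h.commV hu h1) hub1 ?_ hi hi2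
    · rintro rfl
      exact hwV' hu
    · intro h3
      apply hwV'
      rw [← h3]
      exact h1
    · intro h3
      apply hwV'
      rw [← h3]
      exact V.mul_mem hu h1
  have hInw : ∀ v ∈ V, v ≠ 1 → InnG w v := by
    obtain ⟨u, hu, hu1, hi⟩ := hone
    have hyw' : y * w * y⁻¹ = w := by rw [hyw]; group
    obtain ⟨h1, h2⟩ := hyV u hu hu1
    have hb1 : y * u * y⁻¹ ≠ 1 := by rwa [Ne, conj_eq_one_iff]
    have hi1 : InnG w (y * u * y⁻¹) := by
      have := hi.conj y
      rwa [hyw'] at this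
    have hi2 : InnG w (u * (y * u * y⁻¹)) := by
      have := hi1.conj y
      rw [hyw', rot h.toPre hyV hu hu1] at this
      exact this
    intro v hv hv1
    rcases h.V_elim hu h1 hu1 hb1 h2.symm hv with h5 | h5 | h5 | h5
    · exact absurd h5 hv1
    · rw [h5]; exact hi
    · rw [h5]; exact hi1
    · rw [h5]; exact hi2
  have hall : ∀ a ∈ octo V w hww hwV, w * a = a * w := by
    rintro a (ha | ha)
    · exact hwV a ha
    · have h1 := hwV _ ha
      have h2 : w * (w * a) = a := by rw [← mul_assoc, hww, one_mul]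
      rw [h2] at h1
      calc w * a = w * (w * a * w) := by rw [← h1]
        _ = a * w := by rw [← mul_assoc, h2]
  have hrep : ∀ a ∈ octo V w hww hwV, ∃ v ∈ V, a = v ∨ a = w * v := by
    rintro a (ha | ha)
    · exact ⟨a, ha, Or.inl rfl⟩
    · exact ⟨w * a, ha, Or.inr (by rw [← mul_assoc, hww, one_mul])⟩
  have hEl : Cfsg.IsElementaryAbelian 2 (octo V w hww hwV) := by
    refine Dichotomy.Elem.isElementaryAbelian_of ?_ ?_
    · intro a ha b hb
      obtain ⟨v, hv, hv'⟩ := hrep a ha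
      rcases hv' with rfl | rfl
      · obtain ⟨v', hv', hv2⟩ := hrep b hb
        rcases hv2 with rfl | rfl
        · exact h.commV hv hv'
        · calc a * (w * v') = (w * a) * v' := by rw [hwV a hv, mul_assoc]
            _ = w * v' * a := by rw [mul_assoc, h.commV hv hv', mul_assoc]
      · have hvb : v * b = b * v := by
          obtain ⟨v', hv', hv2⟩ := hrep b hb
          rcases hv2 with rfl | rfl
          · exact h.commV hv hv'
          · calc v * (w * v') = (w * v) * v' := by rw [hwV v hv, mul_assoc]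
              _ = w * v' * v := by rw [mul_assoc, h.commV hv hv', mul_assoc]
        calc w * v * b = w * b * v := by rw [mul_assoc, hvb, mul_assoc]
          _ = b * (w * v) := by rw [hall b hb, mul_assoc]
    · rintro a (ha | ha)
      · exact h.sqV ha
      · have h2 : w * (w * a) = a := by rw [← mul_assoc, hww, one_mul]
        calc a * a = w * (w * a) * a := by rw [h2]
          _ = (w * a) * (w * a) := by rw [hwV _ ha, mul_assoc]
          _ = 1 := h.sqV ha
  -- the pairs of `E`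
  have key1 : ∀ v ∈ V, ∀ b ∈ V, b ≠ 1 → InnG (w * v) b := by
    intro v hv b hb hb1
    obtain ⟨c, hc, hcc⟩ := h.root v hv
    have h1 := (hInw b hb hb1).conj c
    have h2 : c * w * c⁻¹ = w * v := by rw [h.conj_root hc hw hwA, hcc, hwV v hv]
    have h3 : c * b * c⁻¹ = b := by rw [h.comm c hc b (h.V_le hb)]; group
    rwa [h2, h3] at h1
  have key2 : ∀ v ∈ V, ∀ v' ∈ V, v ≠ v' → InnG (w * v) (w * v') := by
    intro v hv v' hv' hne
    have h0 : v' * v ≠ 1 := by
      intro h6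
      apply hne
      rw [mul_eq_one_iff_inv_eq, h.invV hv'] at h6
      exact h6.symm
    have h1 := key1 v hv (v' * v) (V.mul_mem hv' hv) h0
    have h2 : w * v * (w * v) = 1 := by
      calc w * v * (w * v) = w * (v * w) * v := by group
        _ = (w * w) * (v * v) := by rw [← hwV v hv]; group
        _ = 1 := by rw [hww, h.sqV hv, one_mul]
    have h3 := h1.right h2
    have h4 : v' * v * (w * v) = w * v' := by
      calc v' * v * (w * v) = v' * (v * w) * v := by group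
        _ = (v' * w) * (v * v) := by rw [← hwV v hv]; group
        _ = w * v' := by rw [h.sqV hv, mul_one, hwV v' hv']
    rwa [h4] at h3
  refine ⟨w, hw, hwA, hInw, hInV, octo V w hww hwV, ⟨hEl, Dichotomy.Elem.card_ge hEl ?_⟩, ?_⟩
  · have hle : V ≤ octo V w hww hwV := fun v hv => Or.inl hv
    have h1 : Nat.card V ≤ Nat.card (octo V w hww hwV) := Subgroup.card_le_of_le hle
    have h2 : Nat.card V ≠ Nat.card (octo V w hww hwV) := by
      intro h3
      have h4 := Subgroup.eq_of_le_of_card_ge hle h3.ge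
      apply hwV'
      rw [h4]
      exact Or.inr (by rw [hww]; exact V.one_mem)
    rw [h.cardV] at h1 h2
    omega
  · intro a ha ha1 b hb hb1 hab
    obtain ⟨v, hv, hv2⟩ := hrep a ha
    obtain ⟨v', hv', hv2'⟩ := hrep b hb
    rcases hv2 with rfl | rfl
    · rcases hv2' with rfl | rfl
      · exact hInV a hv ha1 b hv' hb1 hab
      · refine (key1 v' hv' a hv ha1).symm ?_
        calc a * (w * v') = (w * a) * v' := by rw [hwV a hv, mul_assoc]
            _ = w * v' * a := by rw [mul_assoc, h.commV hv hv', mul_assoc]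
    · rcases hv2' with rfl | rfl
      · exact key1 v hv b hv' hb1
      · exact key2 v hv v' hv' (fun h1 => hab (by rw [h1]))

end Cfsg.Agent.GTwoOdd.Core.Geom
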