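import Cfsg.Agent.GTwoOdd.Core.OuterBal

/-!
# Geometry of the involutions, part (b)

An outer pair `x, a` is completed by an involution `a₀` with both pairs `x, a₀` and `a, a₀` inner.
-/

set_option autoImplicit false

namespace Cfsg.Agent.GTwoOdd.Core.Geom

open Subgroup
open Cfsg.Agent.GTwoOdd.Core.OddG
open Cfsg.Agent.GTwoOdd.Core.OuterBal Cfsg.Agent.GTwoOdd.Core.Inner

variable {G : Type*} [Group G]

/-- an involution `b` of `C(x)` commuting with `a`, whose image is the element `w` of a frame of `a` -/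
theorem exists_inner [Finite G] (hL : ∀ v : G, orderOf v = 2 → LocHyp v) {x a : G} (hp : Pair x a) :
    ∃ b : G, Pair x b ∧ b * a = a * b ∧ InnG x b := by
  obtain ⟨F1, F2, _, _, _, _, L, H⟩ := hL x (orderOf_eq_prime (by rw [pow_two]; exact hp.xx) hp.x1)
  obtain ⟨D1, D2, n1, n2, F⟩ := OuterBal.exists_frame hp H hp.comm.symm
  obtain ⟨y, hyx, hya, hyw⟩ := exists_lift_comm hp.comm.symm hp.aa (L.e1 n1 * L.e2 n2) F.w_s
  have h8 : (bar x ⟨y, cmem hyx⟩) ^ 8 = 1 := by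
    rw [hyw, show (8 : ℕ) = 2 * 4 from rfl, pow_mul, pow_two, F.ww, one_pow]
  obtain ⟨b, hbx, ⟨k, hk⟩, hby, hbw⟩ := exists_two_part hyx h8
  rw [hyw] at hbw
  have hba : b * a = a * b := by
    obtain ⟨i, rfl⟩ := mem_zpowers_iff.1 hby
    exact (Commute.zpow_left (show Commute y a from hya) i)
  have hbbc : b * b ∈ Cfsg.centralizerPPrimeCore 2 x := by
    refine mem_core_iff.2 ⟨mul_mem (cmem hbx) (cmem hbx), ?_⟩
    rw [← bar_eq_one_iff]
    have e : (⟨b * b, mul_mem (cmem hbx) (cmem hbx)⟩ : centralizer ({x} : Set G)) = ⟨b, cmem hbx⟩ * ⟨b, cmem hbx⟩ := rfl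
    rw [e, map_mul, hbw, F.ww]
  have hbb : b * b = 1 := by
    have h6 : (b * b) ^ 2 ^ k = 1 := by
      rw [← pow_two, ← pow_mul, mul_comm, pow_mul, hk, one_pow]
    have h7 : orderOf (b * b) ∣ 2 ^ k := orderOf_dvd_of_pow_eq_one h6
    have h8 : orderOf (b * b) ∣ Nat.card (Cfsg.centralizerPPrimeCore 2 x) := by
      have := orderOf_dvd_natCard (⟨_, hbbc⟩ : Cfsg.centralizerPPrimeCore 2 x)
      rwa [← Subgroup.orderOf_coe] at this
    refine orderOf_eq_one_iff.1 (Nat.eq_one_of_dvd_coprimes ?_ h7 h8)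
    exact Nat.Coprime.pow_left _ (Nat.coprime_two_left.2 (core_odd x))
  have hwrep : ∀ {c : M2 F1} {d : M2 F2}, L.Rep (L.e1 n1 * L.e2 n2) c d → ∃ r : F1, r ≠ 0 ∧ c = r • (n1 : M2 F1) :=
    fun h => (F.w_rep.prop h).1
  -- `w` is not `1` and not `t`
  have hw1 : L.e1 n1 * L.e2 n2 ≠ 1 := fun h => F.w_not_mem (h ▸ one_mem _)
  have hwt : L.e1 n1 * L.e2 n2 ≠ bar x ⟨x, mem_centralizer_singleton_iff.2 rfl⟩ := by
    intro h
    have h1 := F.w_not_mem
    rw [h] at h1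
    exact h1 F.t_mem
  have hb1 : b ≠ 1 := by
    rintro rfl
    apply hw1
    rw [← hbw]
    exact map_one (bar x)
  have hbne : b ≠ x := by
    rintro rfl
    exact hwt hbw.symm
  have hpb : Pair x b := ⟨hp.xx, hbb, hp.x1, hb1, hbne.symm, hbx.symm⟩
  refine ⟨b, hpb, hba, ?_⟩
  obtain ⟨E1, E2, m1, m2, F'⟩ := OuterBal.exists_frame hpb H hbx
  rw [innG_iff hp.xx hbx hbb F']
  have h1 := F'.rep
  rw [hbw] at h1
  obtain ⟨r, hr, hr'⟩ := hwrep h1
  rw [hr', det_smul2, sl_coe_det, mul_one]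
  exact IsSquare.mul_self r

/-- **[G5] (b)** -/
theorem geoB [Finite G] (hL : ∀ v : G, orderOf v = 2 → LocHyp v) :
    ∀ x a : G, Pair x a → ¬ InnG x a → ∃ a₀, Pair x a₀ ∧ Pair a a₀ ∧ InnG x a₀ ∧ InnG a a₀ := by
  intro x a hp hn
  obtain ⟨b, hpb, hba, hib⟩ := exists_inner hL hp
  have hne : b ≠ a := by
    rintro rfl
    exact hn hib
  have hib' : InnG x (b * x) := hib.right hp.xx
  have hne' : b * x ≠ a := by
    intro h
    rw [h] at hib'
    exact hn hib'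
  have hbx1 : b * x ≠ 1 := by
    intro h
    rw [mul_eq_one_iff_eq_inv, inv_eq_of_mul_eq_one_left hp.xx] at h
    exact hpb.ne h.symm
  have hbxbx : b * x * (b * x) = 1 := by
    calc b * x * (b * x) = b * (x * b) * x := by group
      _ = (b * b) * (x * x) := by rw [hpb.comm]; group
      _ = 1 := by rw [hpb.aa, hp.xx, one_mul]
  have hbxa : b * x * a = a * (b * x) := by rw [mul_assoc, hp.comm, ← mul_assoc, hba, mul_assoc]
  have hbxx : b * x ≠ x := by
    intro h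
    exact hpb.a1 (by simpa using h)
  have hpb' : Pair x (b * x) := by
    refine ⟨hp.xx, hbxbx, hp.x1, hbx1, hbxx.symm, ?_⟩
    rw [← mul_assoc, hpb.comm]
  by_cases hi : InnG a b
  · exact ⟨b, hpb, ⟨hp.aa, hpb.aa, hp.a1, hpb.a1, hne.symm, hba.symm⟩, hib, hi⟩
  by_cases hi' : InnG a (b * x)
  · exact ⟨b * x, hpb', ⟨hp.aa, hbxbx, hp.a1, hbx1, hne'.symm, hbxa.symm⟩, hib', hi'⟩
  exfalso
  have e : b * (b * x) = x := by rw [← mul_assoc, hpb.aa, one_mul]
  have h1 : InnG a (b * (b * x)) := by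
    refine innG_mul (hL a (orderOf_eq_prime (by rw [pow_two]; exact hp.aa) hp.a1)) hp.aa hba hpb.aa hpb.a1 hne hbxa
      hbxbx hbx1 hne' ?_ ?_ ?_ hi hi'
    · rw [mul_assoc b x b, hpb.comm]
    · rw [e]; exact hp.x1
    · rw [e]; exact hp.ne
  rw [e] at h1
  exact hn (h1.symm hp.comm)

end Cfsg.Agent.GTwoOdd.Core.Geom
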