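import Cfsg.Agent.GTwoOdd.Core.EndA
import Cfsg.Agent.GTwoOdd.Core.GeomA
import Cfsg.Agent.GTwoOdd.Core.GeomB
import Cfsg.Agent.GTwoOdd.Assemble

/-!
# (B): core killing

`coreProp`: in a finite simple group with one class of involutions, all of them with `LocHyp`, the cores
`O(C(t))` are trivial.  Hypotheses: the odd order theorem, S1221 (`O(H) ≤ O(G)` for `H` strongly embedded), and
`WrHyp` (simple groups with wreathed Sylow 2-subgroups).
-/

set_option autoImplicit false

namespace Cfsg.Agent.GTwoOdd.Core.End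

open Subgroup

universe u

/-- the odd core of a simple group with an involution is trivial -/
theorem oddCore_eq_bot {G : Type u} [Group G] [Finite G] [IsSimpleGroup G] {t : G} (ht : orderOf t = 2) :
    Cfsg.oddCore G = ⊥ := by
  have hn : (Cfsg.pPrimeCore 2 G).Normal := Lib.Cores.pPrimeCore_normal 2
  change Cfsg.pPrimeCore 2 G = ⊥
  rcases hn.eq_bot_or_eq_top with h | h
  · exact h
  · exfalso
    have h1 := Lib.Cores.pPrimeCore_coprime (G := G) 2
    rw [h, Subgroup.card_top] at h1
    have h2 : 2 ∣ Nat.card G := by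
      rw [← ht]; exact orderOf_dvd_natCard t
    exact (Nat.Prime.coprime_iff_not_dvd Nat.prime_two).1 h1.symm h2

/-- **(B)** -/
theorem coreProp
    (hFT : ∀ (X : Type u) [Group X] [Finite X], Odd (Nat.card X) → Group.IsSolvable X)
    (hSE : ∀ (G : Type u) [Group G] [Finite G] (H : Subgroup G), Cfsg.IsStronglyEmbedded H →
      (Cfsg.oddCore ↥H).map H.subtype ≤ Cfsg.oddCore G)
    (H5 : Concl.WrHyp.{u}) : Assemble.CoreProp.{u} := by
  intro G _ _ _ hone hL t ht
  have hcl : ∀ a b : G, orderOf a = 2 → orderOf b = 2 → ∃ g : G, g * a * g⁻¹ = b := by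
    intro a b ha hb
    exact isConj_iff.1 (hone a b ha hb)
  have h2 : Fact (Nat.Prime 2) := ⟨Nat.prime_two⟩
  obtain ⟨P⟩ : Nonempty (Sylow 2 G) := inferInstance
  obtain ⟨S0, A, W, V, m, hF⟩ := FrameG.exists_frame hcl hL P ⟨t, ht⟩
  have hfun := bal hFT H5 hcl hL hF (Geom.geoA hL hF) (Geom.geoB hL)
  exact ClosingB.core_eq_bot hfun hL (oddCore_eq_bot ht) (fun H hH => hSE G H hH) ht

end Cfsg.Agent.GTwoOdd.Core.End
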