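import Cfsg.Agent.GTwoOdd.Core.Push

/-!
# The data of the transitivity theorem from `Base` and `push`
-/

set_option autoImplicit false

namespace Cfsg.Agent.GTwoOdd.Core.PushDat

open Subgroup
open Cfsg.Agent.GTwoOdd.Core.OddG Cfsg.Agent.GTwoOdd.Core.Trans Cfsg.Agent.GTwoOdd.Core.Push

universe u

theorem coreC_odd {G : Type*} [Group G] [Finite G] (V : Subgroup G) : Odd (Nat.card (coreC V)) := by
  have h := Lib.Cores.pPrimeCore_coprime (G := centralizer (V : Set G)) 2
  have h1 : Odd (Nat.card (Cfsg.pPrimeCore 2 (centralizer (V : Set G)))) := Nat.coprime_two_right.1 h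
  exact odd_map _ h1

/-- **The data `Dat`** of `Core/Trans.lean` -/
theorem dat {G : Type u} [Group G] [Finite G] {V A S₀ T : Subgroup G} {r : ℕ} (h : Base V A S₀ T r)
    (H5 : Concl.WrHyp.{u}) (hconf : ConfHyp S₀ A V) {m : ℕ} (hm : 2 ≤ m)
    (eA : A ≃* Multiplicative (ZMod (2 ^ m) × ZMod (2 ^ m))) :
    Dat V S₀ (coreC V) T (fun v => Cfsg.centralizerPPrimeCore 2 v) r where
  two := h.two
  odd := h.odd
  V_le := h.V_le
  le_cent := h.le_cent
  W_le := coreC_le V
  W_odd := coreC_odd V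
  W_norm := fun _ hc _ hw => coreC_norm V hc hw
  le_W := fun D hD hDV x hx => h.hW x (hDV hx)
    ((h.odd_of_pgroup hD).of_dvd_nat (Subgroup.orderOf_dvd_natCard D hx))
  T_syl := h.T_syl
  T_norm := h.T_norm
  O_le := fun v _ _ => core_le v
  O_norm := fun _ _ _ _ hc _ hu => core_norm hc hu
  O_odd := fun v _ _ => core_odd v
  push := fun D hD hTD hS Y hY hYD hYS => h.push H5 hconf hm eA D hD hTD hS Y hY hYD hYS

/-- hypothesis `hone` of `Dat.inf_centralizer_singleton_le` -/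
theorem hone {G : Type u} [Group G] [Finite G] {V A S₀ T : Subgroup G} {r : ℕ} (h : Base V A S₀ T r) :
    ∀ v ∈ V, v ≠ 1 → ∀ Y : Subgroup G, IsPGroup r Y → Y ≤ centralizer ({v} : Set G) →
      S₀ ≤ normalizer (Y : Set G) → Y ≤ Cfsg.centralizerPPrimeCore 2 v ⊔ coreC V :=
  fun _ hv hv1 _ hY hYv hN => h.hone hv hv1 hY hYv hN

end Cfsg.Agent.GTwoOdd.Core.PushDat
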