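import Cfsg.Agent.GTwoOdd.Core.OddLoc
import Cfsg.Agent.GTwoOdd.Core.AutTorus
import Cfsg.Agent.GTwoOdd.Core.OuterBal
import Cfsg.Agent.GTwoOdd.Core.PushDat
import Cfsg.Agent.GTwoOdd.Transport

/-!
# Balance at the inner pairs

`V` a four-group, `S0` a 2-subgroup of `C(V)` containing `V` and an involution `w ∉ V`.  If all pairs `(u, w)`,
`u ∈ V#`, are of inner type and the transitivity theorem `Core.Trans` is available for all the odd primes `r` which
divide the order of the torus, then `O(C(a)) ⊓ C(b) ≤ O(C(b))` for all the pairs `(a, b)` of inner type.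
-/

set_option autoImplicit false
set_option linter.unusedSectionVars false

namespace Cfsg.Agent.GTwoOdd.Core.InnerBal

universe u

open Matrix Subgroup
open Cfsg Cfsg.Agent
open Cfsg.Agent.GTwoOdd Cfsg.Agent.GTwoOdd.LocalSL
open Cfsg.Agent.GTwoOdd.Core.Trans
open Cfsg.Agent.GTwoOdd.Core.OuterBal (Pair)
open Cfsg.Agent.GTwoOdd.Core.OuterGlue (im)
open Cfsg.Agent.GTwoOdd.Core.OddLoc (XX tt)

/-! ### Anticommuting matrices -/

/-- commuting involutions `α`, `β` with a product which is not trivial on the factor have anticommuting matrices -/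
theorem anti_of {F : Type*} [Field F] (h2 : (2 : F) ≠ 0) {X : Type*} [Group X] {e : SL2 F →* X}
    (he : Function.Injective e) {α β : X} {D E C : M2 F} (hα : Acts e α D) (hβ : Acts e β E)
    (hC : Acts e (α * β) C) (hc : α * β = β * α) (tD : D.trace = 0) (tE : E.trace = 0) (tC : C.trace = 0) :
    E * D = -(D * E) := by
  have h1 := hα.mul hβ
  have h3 := hβ.mul hα
  rw [← hc] at h3
  obtain ⟨k, hk, hk'⟩ := h1.proportional he h3
  have hdet : k * k = 1 := by
    have := congrArg Matrix.det hk'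
    rw [Matrix.det_mul, det_smul2, Matrix.det_mul] at this
    have h8 : D.det * E.det * (k * k - 1) = 0 := by linear_combination -this
    rcases mul_eq_zero.1 h8 with h9 | h9
    · exact absurd h9 (mul_ne_zero hα.1 hβ.1)
    · linear_combination h9
  rcases mul_self_eq_one_iff.1 hdet with rfl | rfl
  · exfalso
    rw [one_smul] at hk'
    have hD0 : D ≠ 0 := by
      intro h
      apply hα.1
      rw [h]
      simp
    obtain ⟨b, rfl⟩ := prop_of_comm h2 hD0 tD tE hk'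
    obtain ⟨l, hl, hl'⟩ := h1.proportional he hC
    have h4 : (D * (b • D)).trace = 0 := by
      have h5 := congrArg Matrix.trace hl'
      rw [tC, Matrix.trace_smul] at h5
      rcases smul_eq_zero.1 h5.symm with h6 | h6
      · exact absurd h6 hl
      · exact h6
    rw [Matrix.mul_smul, m2_sq_of_trace tD, Matrix.trace_smul, Matrix.trace_smul, Matrix.trace_one,
      Fintype.card_fin] at h4
    have h5 : b * (-D.det * 2) = 0 := by simpa using h4
    have hb : b ≠ 0 := by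
      rintro rfl
      apply hβ.1
      simp
    rcases mul_eq_zero.1 h5 with h6 | h6
    · exact hb h6
    · rcases mul_eq_zero.1 h6 with h7 | h7
      · exact hα.1 (neg_eq_zero.1 h7)
      · exact h2 h7
  · rw [hk', neg_one_smul]

variable {G : Type*} [Group G]

theorem cm {x a : G} (h : Pair x a) : a ∈ centralizer ({x} : Set G) := mem_centralizer_singleton_iff.2 h.comm.symm

/-- the images of `a`, `b` in `C(x)/O(C(x))` anticommute, `⟨x, a, b⟩` elementary abelian of order 8 -/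
theorem exists_anti [Finite G] {x a b : G} {F1 F2 : Type*} [Field F1] [Field F2] [Finite F1] [Finite F2]
    {L : LocalSL (tt x) F1 F2} (H : L.Hyp) (ha : Pair x a) (hb : Pair x b) (hab : Pair a b) (hx : a * b ≠ x) :
    ∃ D1 D2 n1 n2, L.Anti (bar x ⟨a, cm ha⟩) (bar x ⟨b, cm hb⟩) D1 D2 n1 n2 := by
  obtain ⟨D1, D2, m1, m2, F⟩ := OuterBal.exists_frame ha H ha.comm.symm
  obtain ⟨E1, E2, m1', m2', F'⟩ := OuterBal.exists_frame hb H hb.comm.symm
  have hpc : Pair x (a * b) := by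
    refine ⟨ha.xx, ?_, ha.x1, ?_, hx.symm, ?_⟩
    · calc a * b * (a * b) = a * (b * a) * b := by group
        _ = (a * a) * (b * b) := by rw [← hab.comm]; group
        _ = 1 := by rw [ha.aa, hb.aa, one_mul]
    · intro h
      apply hab.ne
      rw [mul_eq_one_iff_eq_inv] at h
      rw [h, inv_eq_iff_mul_eq_one, hb.aa]
    · rw [← mul_assoc, ha.comm, mul_assoc, hb.comm, mul_assoc]
  obtain ⟨C1, C2, k1, k2, F''⟩ := OuterBal.exists_frame hpc H hpc.comm.symm
  have e : bar x ⟨a * b, cm hpc⟩ = bar x ⟨a, cm ha⟩ * bar x ⟨b, cm hb⟩ := by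
    rw [← map_mul]
    rfl
  have hc : bar x ⟨a, cm ha⟩ * bar x ⟨b, cm hb⟩ =
      bar x ⟨b, cm hb⟩ * bar x ⟨a, cm ha⟩ := by
    rw [← map_mul, ← map_mul]
    congr 1
    exact Subtype.ext hab.comm
  have hr := F''.rep
  rw [e] at hr
  exact ⟨D1, D2, E1, E2, F.rep, F'.rep,
    anti_of H.two_ne1 L.inj1 F.rep.acts1 F'.rep.acts1 hr.acts1 hc F.tr1 F'.tr1 F''.tr1,
    anti_of H.two_ne2 L.inj2 F.rep.acts2 F'.rep.acts2 hr.acts2 hc F.tr2 F'.tr2 F''.tr2⟩

/-! ### The `r`-parts -/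

section rpart

variable [Finite G]

/-- the elements of order `r` of the `C0`-part of the image of `O_u ∩ C(w)` in `C(w)/O_w` -/
def RFree (r : ℕ) {w : G} {F1 F2 : Type*} [Field F1] [Field F2] (L : LocalSL (tt w) F1 F2) (u : G) : Prop :=
  ∀ c ∈ im w (centralizerPPrimeCore 2 u), c ∈ L.zero → c ^ r = 1 → c = 1

/-- one of the three involutions of `V` -/
theorem exists_free {V S₀ T : Subgroup G} {r : ℕ} [Fact r.Prime]
    (hD : Core.Trans.Dat V S₀ (coreC V) T (fun v => centralizerPPrimeCore 2 v) r) {w a b : G} (hwS : w ∈ S₀) (ha : a ∈ V)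
    (hb : b ∈ V) (pa : Pair w a) (pb : Pair w b) (hab : Pair a b) (hw : a * b ≠ w) {F1 F2 : Type*} [Field F1]
    [Field F2] [Finite F1] [Finite F2] {L : LocalSL (tt w) F1 F2} (H : L.Hyp) : ∃ u ∈ V, u ≠ 1 ∧ RFree r L u := by
  have hrp : r.Prime := Fact.out
  obtain ⟨Q, hQ, hQs⟩ := hD.exists_common
  have hX := OddLoc.tt_central w
  obtain ⟨D1, D2, n1, n2, hanti⟩ := exists_anti H pa pb hab hw
  -- the image of `Q ∩ C(w)`
  have hRp : IsPGroup r (im w Q) := (hQ.1.pgroup.comap_of_injective _ (Subgroup.subtype_injective _)).map _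
  have hnorm : ∀ v (hv : v ∈ V) (hvw : v ∈ centralizer ({w} : Set G)), ∀ c ∈ im w Q,
      bar w ⟨v, hvw⟩ * c * (bar w ⟨v, hvw⟩)⁻¹ ∈ im w Q := by
    rintro v hv hvw _ ⟨c, hc, rfl⟩
    refine ⟨⟨v, hvw⟩ * c * ⟨v, hvw⟩⁻¹, ?_, by rw [map_mul, map_mul, map_inv]⟩
    exact (mem_normalizer_iff.1 (hQ.1.norm (hD.V_le hv)) _).1 hc
  have hbar_ne : ∀ {x y : centralizer ({w} : Set G)}, (x : G) * y ≠ 1 → (x : G) * x = 1 → (y : G) * y = 1 →
      (x : G) * y = y * x → bar w x ≠ bar w y := by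
    intro x y hxy hx hy hc h
    rw [OuterGlue.bar_eq] at h
    have hy' : (y : G)⁻¹ = y := inv_eq_of_mul_eq_one_left hy
    rw [Subgroup.coe_inv, hy'] at h
    refine OuterBal.not_mem_core ?_ hxy h
    calc (x : G) * y * (x * y) = x * (y * x) * y := by group
      _ = (x * x) * (y * y) := by rw [← hc]; group
      _ = 1 := by rw [hx, hy, one_mul]
  have habne : a * b ≠ 1 := by
    intro h
    apply hab.ne
    rw [mul_eq_one_iff_eq_inv] at h
    rw [h, inv_eq_iff_mul_eq_one, hab.aa]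
  obtain ⟨u', hu', hfree⟩ := H.exists_trivial hX hrp hD.odd hRp hanti
    (hbar_ne habne pa.aa pb.aa hab.comm)
    (by rw [Ne, OuterGlue.bar_eq_one]; exact OuterBal.not_mem_core pa.aa pa.a1)
    (by rw [Ne, OuterGlue.bar_eq_one]; exact OuterBal.not_mem_core pb.aa pb.a1)
    (fun c hc => hnorm a ha (cm pa) c hc) (fun c hc => hnorm b hb (cm pb) c hc)
  -- the element of `V`
  obtain ⟨u, hu, hu1, huw, rfl⟩ : ∃ u ∈ V, u ≠ 1 ∧ ∃ h : u ∈ centralizer ({w} : Set G), bar w ⟨u, h⟩ = u' := by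
    rcases hu' with rfl | rfl | rfl
    · exact ⟨a, ha, hab.x1, cm pa, rfl⟩
    · exact ⟨b, hb, hab.a1, cm pb, rfl⟩
    · refine ⟨b * a, mul_mem hb ha, ?_, mul_mem (cm pb) (cm pa), ?_⟩
      · rw [← hab.comm]; exact habne
      · rw [← map_mul]; rfl
  refine ⟨u, hu, hu1, ?_⟩
  rintro _ ⟨c₀, hc₀, rfl⟩ hcz hcr
  by_contra hc1
  -- the `r`-part of `c₀`
  have hord : orderOf (bar w c₀) = r := orderOf_eq_prime hcr hc1
  obtain ⟨k, m, hm, hkm⟩ : ∃ k m : ℕ, ¬ r ∣ m ∧ orderOf (c₀ : G) = r ^ k * m :=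
    Nat.exists_eq_pow_mul_and_not_dvd (orderOf_pos (c₀ : G)).ne' r hrp.ne_one
  have hyr : ((c₀ : G) ^ m) ^ r ^ k = 1 := by
    rw [← pow_mul, mul_comm, ← hkm, pow_orderOf_eq_one]
  have hcw : (c₀ : G) ∈ centralizer ({w} : Set G) := c₀.2
  -- a Sylow subgroup of `O_u ∩ C(w)`
  have hB : zpowers w ≤ S₀ := by rwa [zpowers_le]
  have hcz' : centralizer ((zpowers w : Subgroup G) : Set G) = centralizer ({w} : Set G) := by
    rw [zpowers_eq_closure, centralizer_closure]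
  have hsyl := hD.fixed_sylow hQ.1 hu hu1 (hQs u hu hu1).2 hB
  rw [hcz'] at hsyl
  have hyp : IsPGroup r (zpowers ((c₀ : G) ^ m)) := by
    intro z
    obtain ⟨j, hj⟩ := mem_zpowers_iff.1 z.2
    refine ⟨k, Subtype.ext ?_⟩
    rw [SubmonoidClass.coe_pow, ← hj, ← zpow_natCast, ← _root_.zpow_mul, mul_comm, _root_.zpow_mul, zpow_natCast, hyr, _root_.one_zpow]
    rfl
  set Z : Subgroup G := centralizerPPrimeCore 2 u ⊓ centralizer ({w} : Set G) with hZ
  have hyZ : (c₀ : G) ^ m ∈ Z := mem_inf.2 ⟨pow_mem hc₀ m, pow_mem hcw m⟩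
  have hyp' : IsPGroup r ((zpowers ((c₀ : G) ^ m)).subgroupOf Z) := hyp.comap_of_injective _ (Subgroup.subtype_injective _)
  obtain ⟨P, hP⟩ := hyp'.exists_le_sylow
  obtain ⟨g, hg, hgP⟩ := Cfsg.Agent.Blocks.SylowIn.exists_conj_of_sylow_map_eq (p := r) (K := Z) ⟨P, rfl⟩ hsyl
  have hyP : (c₀ : G) ^ m ∈ (P : Subgroup Z).map Z.subtype :=
    ⟨⟨(c₀ : G) ^ m, hyZ⟩, hP (mem_subgroupOf.2 (mem_zpowers _)), rfl⟩
  have hgy : g * (c₀ : G) ^ m * g⁻¹ ∈ Q ⊓ centralizerPPrimeCore 2 u ⊓ centralizer ({w} : Set G) := by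
    rw [← hgP]
    exact ⟨_, hyP, rfl⟩
  obtain ⟨⟨hgy1, hgy2⟩, hgy3⟩ := hgy
  have hgw : g ∈ centralizer ({w} : Set G) := (mem_inf.1 hg).2
  have e1 : bar w ⟨g * (c₀ : G) ^ m * g⁻¹, hgy3⟩ = bar w ⟨g, hgw⟩ * (bar w c₀) ^ m * (bar w ⟨g, hgw⟩)⁻¹ := by
    rw [← map_pow, ← map_inv, ← map_mul, ← map_mul]
    rfl
  have e2 : bar w ⟨g * (c₀ : G) ^ m * g⁻¹, hgy3⟩ = 1 := by
    refine hfree _ ⟨⟨_, hgy3⟩, hgy1, rfl⟩ ?_ ?_
    · rw [e1]
      exact H.conj_mem_zeroG (hX _) ((LocalSL.zeroG L).pow_mem hcz m)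
    · rw [← map_mul, ← map_mul]
      congr 1
      apply Subtype.ext
      exact mem_centralizer_singleton_iff.1 (Dichotomy.Functor.th_le u hgy2)
  rw [e1, conj_eq_one_iff] at e2
  exact hm (by rw [← hord]; exact orderOf_dvd_of_pow_eq_one e2)

theorem RFree.conj {r : ℕ} {w : G} {F1 F2 : Type*} [Field F1] [Field F2] [Finite F1] [Finite F2]
    {L : LocalSL (tt w) F1 F2} (H : L.Hyp) {u : G} (h : RFree r L u) {g : G}
    (hg : g ∈ centralizer ({w} : Set G)) : RFree r L (g * u * g⁻¹) := by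
  have hX := OddLoc.tt_central w
  rintro _ ⟨c, hc, rfl⟩ hcz hcr
  have hc' : (c : G) ∈ centralizerPPrimeCore 2 (g * u * g⁻¹) := hc
  rw [Dichotomy.Functor.th_conj] at hc'
  obtain ⟨d, hd, hdc⟩ := hc'
  change g * d * g⁻¹ = c at hdc
  have hd' : d = g⁻¹ * c * g := by rw [← hdc]; group
  have hdw : d ∈ centralizer ({w} : Set G) := by
    rw [hd']
    exact mul_mem (mul_mem (inv_mem hg) c.2) hg
  have e1 : bar w ⟨d, hdw⟩ = (bar w ⟨g, hg⟩)⁻¹ * bar w c * (bar w ⟨g, hg⟩)⁻¹⁻¹ := by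
    rw [inv_inv, ← map_inv, ← map_mul, ← map_mul]
    congr 1
    exact Subtype.ext hd'
  have e2 : bar w ⟨d, hdw⟩ = 1 := by
    refine h _ ⟨⟨d, hdw⟩, hd, rfl⟩ ?_ ?_
    · rw [e1]
      exact H.conj_mem_zeroG (hX _) hcz
    · rw [e1, conj_pow, hcr]
      group
  rw [e1, conj_eq_one_iff] at e2
  exact e2

/-- an element of order `r` of `C0` commuting with the image of `u` -/
def Tor (r : ℕ) (v u : G) : Prop :=
  ∃ (F1 F2 : Type) (_ : Field F1) (_ : Field F2) (_ : Finite F1) (_ : Finite F2) (L : LocalSL (tt v) F1 F2),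
    L.Hyp ∧ ∃ c : XX v, c ∈ L.zero ∧ c ^ r = 1 ∧ c ≠ 1 ∧
      ∀ h : u ∈ centralizer ({v} : Set G), c * bar v ⟨u, h⟩ = bar v ⟨u, h⟩ * c

theorem free_of_not_tor {r : ℕ} {w u : G} {F1 F2 : Type} [Field F1] [Field F2] [Finite F1] [Finite F2]
    {L : LocalSL (tt w) F1 F2} (H : L.Hyp) (h : ¬ Tor r w u) : RFree r L u := by
  intro c hc hcz hcr
  by_contra hc1
  refine h ⟨F1, F2, inferInstance, inferInstance, inferInstance, inferInstance, L, H, c, hcz, hcr, hc1, fun hu => ?_⟩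
  obtain ⟨d, hd, rfl⟩ := hc
  rw [← map_mul, ← map_mul]
  congr 1
  apply Subtype.ext
  exact mem_centralizer_singleton_iff.1 (Dichotomy.Functor.th_le u hd)

/-- conjugation by `g`, from `C(v)` to `C(g v g⁻¹)` -/
def ce (g v : G) : centralizer ({v} : Set G) ≃* centralizer ({g * v * g⁻¹} : Set G) where
  toFun x := ⟨g * x * g⁻¹, by
    have h := mem_centralizer_singleton_iff.1 x.2
    rw [mem_centralizer_singleton_iff]
    calc g * (x : G) * g⁻¹ * (g * v * g⁻¹) = g * ((x : G) * v) * g⁻¹ := by group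
      _ = g * (v * x) * g⁻¹ := by rw [h]
      _ = g * v * g⁻¹ * (g * x * g⁻¹) := by group⟩
  invFun y := ⟨g⁻¹ * y * g, by
    have h := mem_centralizer_singleton_iff.1 y.2
    rw [mem_centralizer_singleton_iff]
    calc g⁻¹ * (y : G) * g * v = g⁻¹ * ((y : G) * (g * v * g⁻¹)) * g := by group
      _ = g⁻¹ * ((g * v * g⁻¹) * y) * g := by rw [h]
      _ = v * (g⁻¹ * y * g) := by group⟩
  left_inv x := Subtype.ext (by
    change g⁻¹ * (g * (x : G) * g⁻¹) * g = x
    group)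
  right_inv y := Subtype.ext (by
    change g * (g⁻¹ * (y : G) * g) * g⁻¹ = y
    group)
  map_mul' x y := Subtype.ext (by
    change g * ((x : G) * y) * g⁻¹ = (g * x * g⁻¹) * (g * y * g⁻¹)
    group)

theorem ce_core (g v : G) : (pPrimeCore 2 (centralizer ({v} : Set G))).map (ce g v).toMonoidHom =
    pPrimeCore 2 (centralizer ({g * v * g⁻¹} : Set G)) := by
  have hiff : ∀ (v : G) (x : centralizer ({v} : Set G)),
      x ∈ pPrimeCore 2 (centralizer ({v} : Set G)) ↔ (x : G) ∈ centralizerPPrimeCore 2 v := by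
    intro v x
    rw [OddG.mem_core_iff]
    exact ⟨fun h => ⟨x.2, h⟩, fun ⟨_, h⟩ => h⟩
  ext y
  rw [hiff, Dichotomy.Functor.th_conj]
  constructor
  · rintro ⟨x, hx, rfl⟩
    exact ⟨x, (hiff v x).1 hx, rfl⟩
  · rintro ⟨x, hx, hxy⟩
    have hxv : x ∈ centralizer ({v} : Set G) := Dichotomy.Functor.th_le v hx
    exact ⟨⟨x, hxv⟩, (hiff v ⟨x, hxv⟩).2 hx, Subtype.ext hxy⟩

/-- the isomorphism `C(v)/O_v → C(g v g⁻¹)/O_{g v g⁻¹}` -/
noncomputable def cx (g v : G) : XX v ≃* XX (g * v * g⁻¹) :=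
  QuotientGroup.congr _ _ (ce g v) (ce_core g v)

theorem cx_bar (g v : G) (x : centralizer ({v} : Set G)) : cx g v (bar v x) = bar (g * v * g⁻¹) (ce g v x) := rfl

theorem Tor.conj {r : ℕ} {v u : G} (hvu : u ∈ centralizer ({v} : Set G)) (h : Tor r v u) (g : G) :
    Tor r (g * v * g⁻¹) (g * u * g⁻¹) := by
  obtain ⟨F1, F2, i1, i2, i3, i4, L, H, c, hcz, hcr, hc1, hcu⟩ := h
  have ht : (cx g v).toMonoidHom (tt v) = tt (g * v * g⁻¹) := by
    change cx g v (bar v _) = _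
    rw [cx_bar]
    rfl
  have hr : ∀ d : XX (g * v * g⁻¹), d * tt (g * v * g⁻¹) = tt (g * v * g⁻¹) * d → ∃ k, (cx g v).toMonoidHom k = d :=
    fun d _ => ⟨(cx g v).symm d, (cx g v).apply_symm_apply d⟩
  refine ⟨F1, F2, i1, i2, i3, i4, L.map (cx g v).toMonoidHom (cx g v).injective ht hr, H.map, cx g v c, ?_, ?_, ?_, ?_⟩
  · obtain ⟨A, B, hAB⟩ := hcz
    exact ⟨A, B, hAB.map⟩
  · rw [← map_pow, hcr, map_one]
  · intro h1
    apply hc1
    apply (cx g v).injective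
    rw [h1, map_one]
  · intro h1
    have h2 := congrArg (cx g v) (hcu hvu)
    rw [map_mul, map_mul, cx_bar] at h2
    exact h2

/-- **balance at one pair**, if there is no element of prime order -/
theorem bal_of_free {w u : G} {F1 F2 : Type*} [Field F1] [Field F2] [Finite F1] [Finite F2]
    {L : LocalSL (tt w) F1 F2} (H : L.Hyp) (hp : Pair w u) (hfree : ∀ r : ℕ, r.Prime → r ≠ 2 → RFree r L u) :
    centralizerPPrimeCore 2 u ⊓ centralizer ({w} : Set G) ≤ centralizerPPrimeCore 2 w := by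
  have hX := OddLoc.tt_central w
  obtain ⟨D1, D2, n1, n2, F⟩ := OuterBal.exists_frame hp H hp.comm.symm
  have hodd : Odd (Nat.card (im w (centralizerPPrimeCore 2 u))) := OuterGlue.odd_im (OuterGlue.odd_core u)
  have e1 : (⟨u, cm hp⟩ : centralizer ({w} : Set G)) * ⟨u, cm hp⟩ = 1 := Subtype.ext hp.aa
  have hbot : im w (centralizerPPrimeCore 2 u) = ⊥ := by
    refine H.eq_bot_of_normal F.rep F.tr1 F.tr2 (fun i _ => hX i) ?_ ?_
    · rintro d - hd _ ⟨x, hx, rfl⟩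
      obtain ⟨d', rfl, hd'⟩ := OuterGlue.exists_lift e1 e1 (g := d) (by
        rw [mul_inv_eq_iff_eq_mul]
        exact hd)
      refine ⟨d' * x * d'⁻¹, ?_, by rw [map_mul, map_mul, map_inv]⟩
      have h4 : (d' : G) * u * (d' : G)⁻¹ = u := congrArg Subtype.val hd'
      have h3 : (d' : G) * x * (d' : G)⁻¹ ∈ centralizerPPrimeCore 2 ((d' : G) * u * (d' : G)⁻¹) := by
        rw [Dichotomy.Functor.th_conj]
        exact ⟨x, hx, rfl⟩
      rwa [h4] at h3
    · intro c hc hcz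
      by_contra hc1
      obtain ⟨r, hr, hrd⟩ := Nat.exists_prime_and_dvd (n := orderOf c) (by rwa [Ne, orderOf_eq_one_iff])
      have hro : Odd (orderOf c) := hodd.of_dvd_nat (Subgroup.orderOf_dvd_natCard _ hc)
      have hr2 : r ≠ 2 := by
        rintro rfl
        exact (Nat.not_even_iff_odd.2 hro) (even_iff_two_dvd.2 hrd)
      obtain ⟨k, hk⟩ := hrd
      have h0 : 0 < orderOf c := orderOf_pos c
      have h1 : c ^ k = 1 := by
        refine hfree r hr hr2 _ (pow_mem hc k) ((LocalSL.zeroG L).pow_mem hcz k) ?_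
        rw [← pow_mul, mul_comm k r, ← hk, pow_orderOf_eq_one]
      have h2 := Nat.le_of_dvd (by
        rcases Nat.eq_zero_or_pos k with h | h
        · rw [h, mul_zero] at hk
          omega
        · exact h) (orderOf_dvd_of_pow_eq_one h1)
      have h3 := hr.two_le
      rw [hk] at h2 h0
      have h4 : 0 < k := pos_of_mul_pos_right h0 (by omega)
      nlinarith
  intro x hx
  obtain ⟨hx1, hx2⟩ := mem_inf.1 hx
  have h3 : bar w ⟨x, hx2⟩ ∈ im w (centralizerPPrimeCore 2 u) := ⟨⟨x, hx2⟩, hx1, rfl⟩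
  rw [hbot, mem_bot] at h3
  exact OuterGlue.bar_eq_one.1 h3

end rpart

/-- **Balance at the inner pairs.** -/
theorem inner_bal {G : Type u} [Group G] [Finite G] {V A S₀ : Subgroup G} (two : IsPGroup 2 S₀) (V_le : V ≤ S₀)
    (A_le : A ≤ S₀) (le_cent : S₀ ≤ centralizer (V : Set G)) (V2 : ∀ v ∈ V, v * v = 1)
    (four : ∀ u ∈ V, ∀ v ∈ V, ∀ u' ∈ V, u ≠ 1 → v ≠ 1 → u ≠ v → u' = 1 ∨ u' = v ∨ u' = u ∨ u' = u * v)
    (root : ∀ v ∈ V, ∃ c ∈ A, c * c = v) (exw : ∃ w ∈ S₀, ∀ a ∈ A, w * a * w⁻¹ = a⁻¹)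
    (hW : ∀ x ∈ centralizer (V : Set G), Odd (orderOf x) → x ∈ coreC V)
    (H5 : Concl.WrHyp.{u}) (hconf : Push.ConfHyp S₀ A V) {m : ℕ} (hm : 2 ≤ m)
    (eA : A ≃* Multiplicative (ZMod (2 ^ m) × ZMod (2 ^ m))) (hL : ∀ v : G, orderOf v = 2 → LocHyp v)
    {w t s : G} (hwS : w ∈ S₀) (ht : t ∈ V) (hs : s ∈ V) (ht1 : t ≠ 1) (hs1 : s ≠ 1) (hts : t ≠ s)
    (hww : w * w = 1) (hwV : w ∉ V) {Inn : G → G → Prop} (hsymm : ∀ a b, Pair a b → Inn a b → Inn b a)
    (hInw : ∀ u ∈ V, u ≠ 1 → Inn w u) (hInV : ∀ u ∈ V, u ≠ 1 → ∀ v ∈ V, v ≠ 1 → u ≠ v → Inn u v)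
    (hconj : ∀ t s t' s' : G, Pair t s → Pair t' s' → Inn t s → Inn t' s' →
      ∃ g, g * t * g⁻¹ = t' ∧ g * s * g⁻¹ = s') (a b : G) (hab : Pair a b) (hi : Inn a b) :
    centralizerPPrimeCore 2 a ⊓ centralizer ({b} : Set G) ≤ centralizerPPrimeCore 2 b := by
  have hpw : ∀ u ∈ V, u ≠ 1 → Pair w u := by
    intro u hu hu1
    refine ⟨hww, V2 u hu, ?_, hu1, ?_, ?_⟩
    · rintro rfl
      exact hwV (one_mem _)
    · rintro rfl
      exact hwV hu
    · exact (mem_centralizer_iff.1 (le_cent hwS) u hu).symm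
  have hpV : ∀ u ∈ V, u ≠ 1 → ∀ v ∈ V, v ≠ 1 → u ≠ v → Pair u v := by
    intro u hu hu1 v hv hv1 huv
    exact ⟨V2 u hu, V2 v hv, hu1, hv1, huv, (mem_centralizer_iff.1 (le_cent (V_le hu)) v hv).symm⟩
  have hother : ∀ v ∈ V, v ≠ 1 → ∃ u ∈ V, u ≠ 1 ∧ u ≠ v := by
    intro v hv hv1
    by_cases h : t = v
    · exact ⟨s, hs, hs1, fun e => hts (h.trans e.symm)⟩
    · exact ⟨t, ht, ht1, h⟩
  obtain ⟨F1, F2, i1, i2, i3, i4, L, H⟩ := hL w (by
    rw [orderOf_eq_prime_iff]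
    exact ⟨by rw [pow_two]; exact hww, (hpw t ht ht1).x1⟩)
  -- no elements of order `r`
  have key : ∀ r : ℕ, r.Prime → r ≠ 2 → RFree r L t := by
    intro r hr hr2
    have : Fact r.Prime := ⟨hr⟩
    by_cases hT : Tor r w t
    · have htor : ∀ v ∈ V, v ≠ 1 → Push.TorR V r v := by
        intro v hv hv1
        obtain ⟨u, hu, hu1, huv⟩ := hother v hv hv1
        obtain ⟨g, hg1, hg2⟩ := hconj w t v u (hpw t ht ht1) (hpV v hv hv1 u hu hu1 huv.symm) (hInw t ht ht1)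
          (hInV v hv hv1 u hu hu1 huv.symm)
        have h1 := hT.conj (cm (hpw t ht ht1)) g
        rw [hg1, hg2] at h1
        obtain ⟨E1, E2, j1, j2, j3, j4, M, hM, c, hcz, hcr, hc1, hcu⟩ := h1
        have huc : u ∈ centralizer ({v} : Set G) := cm (hpV v hv hv1 u hu hu1 huv.symm)
        exact ⟨E1, E2, j1, j2, j3, j4, M, hM, u, hu, huc, hu1, huv, c, hcz, hcr, hc1, hcu huc⟩
      have hWodd := PushDat.coreC_odd V
      obtain ⟨T, hTs, hTn⟩ := Lib.PGroupCoprimeAction.exists_invariant_sylow (A := S₀) (H := coreC V) two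
        (Trans.not_two_dvd hWodd) (fun b hb u hu => Push.coreC_norm V (le_cent hb) hu) r
      have hbase : Push.Base V A S₀ T r :=
        { two := two
          prime := hr
          odd := hr2
          V_le := V_le
          A_le := A_le
          le_cent := le_cent
          V2 := V2
          four := four
          root := root
          exw := exw
          hW := hW
          T_syl := hTs
          T_norm := Trans.le_normalizer_of hTn
          tor := htor }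
      have hD := PushDat.dat hbase H5 hconf hm eA
      have hne : t * s ≠ w := by
        rintro rfl
        exact hwV (mul_mem ht hs)
      obtain ⟨u, hu, hu1, hfree⟩ := exists_free hD hwS ht hs (hpw t ht ht1) (hpw s hs hs1) (hpV t ht ht1 s hs hs1 hts)
        hne H
      obtain ⟨g, hg1, hg2⟩ := hconj w u w t (hpw u hu hu1) (hpw t ht ht1) (hInw u hu hu1) (hInw t ht ht1)
      have hgw : g ∈ centralizer ({w} : Set G) := by
        rw [mem_centralizer_singleton_iff]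
        rwa [mul_inv_eq_iff_eq_mul] at hg1
      have h1 := hfree.conj H hgw
      rwa [hg2] at h1
    · exact free_of_not_tor H hT
  have hbal := bal_of_free H (hpw t ht ht1) key
  -- conjugation
  obtain ⟨g, hg1, hg2⟩ := hconj w t b a (hpw t ht ht1) hab.symm (hInw t ht ht1) (hsymm a b hab hi)
  intro x hx
  obtain ⟨hx1, hx2⟩ := mem_inf.1 hx
  rw [← hg2, Dichotomy.Functor.th_conj] at hx1
  obtain ⟨y, hy, hyx⟩ := hx1
  change g * y * g⁻¹ = x at hyx
  have hyw : y ∈ centralizer ({w} : Set G) := by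
    rw [mem_centralizer_singleton_iff] at hx2 ⊢
    rw [← hyx, ← hg1] at hx2
    have e1 : g * y * g⁻¹ * (g * w * g⁻¹) = g * (y * w) * g⁻¹ := by group
    have e2 : g * w * g⁻¹ * (g * y * g⁻¹) = g * (w * y) * g⁻¹ := by group
    rw [e1, e2] at hx2
    exact mul_left_cancel (mul_right_cancel hx2)
  rw [← hg1, Dichotomy.Functor.th_conj]
  exact ⟨y, hbal (mem_inf.2 ⟨hy, hyw⟩), hyx⟩

end Cfsg.Agent.GTwoOdd.Core.InnerBal
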