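import Mathlib.GroupTheory.Transfer
import Cfsg.Agent.GTwoOdd.Torus
import Cfsg.Agent.GTwoOdd.Core.Defs
import Cfsg.Agent.Lib.Cores

/-!
# `C(V)` is 2-nilpotent

`Nil2 Y`: every element of odd order of `Y` lies in `O(Y)`.  For `V = ⟨t, s⟩` a four-group and
`LocHyp t` the group `C(V)` satisfies `Nil2`.
-/

set_option autoImplicit false

namespace Cfsg.Agent.GTwoOdd.Core.Nilp

open Cfsg

/-- every element of odd order lies in the odd core -/
def Nil2 (Y : Type*) [Group Y] : Prop := ∀ y : Y, Odd (orderOf y) → y ∈ Cfsg.pPrimeCore 2 Y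

section general

variable {Y : Type*} [Group Y]

theorem eq_one_of_odd {y : Y} {k : ℕ} (hk : Odd k) (h1 : y ^ k = 1) (h2 : y * y = 1) : y = 1 := by
  obtain ⟨m, rfl⟩ := hk
  rwa [pow_add, pow_mul, pow_two, h2, one_pow, one_mul, pow_one] at h1

theorem coprime_of_no_invol [Finite Y] {N : Subgroup Y} (h : ∀ y ∈ N, y * y = 1 → y = 1) :
    (Nat.card N).Coprime 2 := by
  rw [Nat.coprime_comm, Nat.Prime.coprime_iff_not_dvd Nat.prime_two]
  intro hd
  obtain ⟨y, hy⟩ := exists_prime_orderOf_dvd_card' 2 hd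
  have h1 : (y : Y) * y = 1 := by
    have := pow_orderOf_eq_one y
    rw [hy, pow_two] at this
    exact congrArg Subtype.val this
  have h2 := h y y.2 h1
  have h3 : y = 1 := Subtype.ext h2
  rw [h3, orderOf_one] at hy
  omega

/-- the centre has odd index -/
theorem nil2_of_center [Finite Y] (h : Odd (Subgroup.center Y).index) : Nil2 Y := by
  obtain ⟨a, M, hM, hcard⟩ := Nat.exists_eq_two_pow_mul_odd
    (n := Nat.card (Subgroup.center Y)) Nat.card_pos.ne'
  let f : Y →* Subgroup.center Y :=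
    { toFun := fun y => (MonoidHom.transferCenterPow Y y) ^ M
      map_one' := by rw [map_one, one_pow]
      map_mul' := by
        intro x y
        have hc : Commute (MonoidHom.transferCenterPow Y x) (MonoidHom.transferCenterPow Y y) :=
          Subtype.ext (Subgroup.mem_center_iff.1 (MonoidHom.transferCenterPow Y y).2
            (MonoidHom.transferCenterPow Y x : Y))
        rw [map_mul, hc.mul_pow] }
  have hf : ∀ y, ((f y : Subgroup.center Y) : Y) = (y ^ (Subgroup.center Y).index) ^ M := by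
    intro y
    change (((MonoidHom.transferCenterPow Y y) ^ M : Subgroup.center Y) : Y) = _
    rw [Subgroup.coe_pow, MonoidHom.transferCenterPow_apply]
  have hker : ∀ y, y ∈ f.ker ↔ y ^ ((Subgroup.center Y).index * M) = 1 := by
    intro y
    rw [MonoidHom.mem_ker, pow_mul, ← hf, OneMemClass.coe_eq_one]
  have hle : f.ker ≤ pPrimeCore 2 Y := by
    refine Lib.Cores.le_pPrimeCore inferInstance (coprime_of_no_invol ?_)
    intro y hy h2
    exact eq_one_of_odd (h.mul hM) ((hker y).1 hy) h2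
  intro y hy
  apply hle
  rw [hker, pow_mul]
  have h1 : (y ^ (Subgroup.center Y).index) ^ (2 ^ a * M) = 1 := by
    rw [← hcard]
    have h2 := pow_card_eq_one' (x := MonoidHom.transferCenterPow Y y)
    have h3 := congrArg Subtype.val h2
    rwa [Subgroup.coe_pow, MonoidHom.transferCenterPow_apply] at h3
  have h2 : (y ^ (Subgroup.center Y).index) ^ orderOf y = 1 := by
    rw [← pow_mul, mul_comm, pow_mul, pow_orderOf_eq_one, one_pow]
  have h3 := orderOf_dvd_of_pow_eq_one h1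
  have h4 := orderOf_dvd_of_pow_eq_one h2
  have h5 : Nat.Coprime (orderOf (y ^ (Subgroup.center Y).index)) (2 ^ a) :=
    Nat.Coprime.coprime_dvd_left h4 (Nat.Coprime.pow_right a (Nat.coprime_two_right.2 hy))
  exact orderOf_dvd_iff_pow_eq_one.1 (h5.dvd_of_dvd_mul_left h3)

/-- pull back along a homomorphism with odd kernel -/
theorem nil2_of_hom [Finite Y] {Y' : Type*} [Group Y'] [Finite Y'] (φ : Y →* Y')
    (hk : ∀ y, φ y = 1 → y * y = 1 → y = 1) (h : Nil2 Y') : Nil2 Y := by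
  have hle : (pPrimeCore 2 Y').comap φ ≤ pPrimeCore 2 Y := by
    refine Lib.Cores.le_pPrimeCore ((Lib.Cores.pPrimeCore_normal 2).comap φ)
      (coprime_of_no_invol ?_)
    intro y hy h2
    apply hk y _ h2
    have hodd : Odd (Nat.card (pPrimeCore 2 Y')) :=
      Nat.coprime_two_right.1 (Lib.Cores.pPrimeCore_coprime 2)
    refine eq_one_of_odd hodd ?_ (by rw [← map_mul, h2, map_one])
    exact congrArg Subtype.val (pow_card_eq_one' (x := (⟨φ y, hy⟩ : pPrimeCore 2 Y')))
  intro y hy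
  apply hle
  apply h
  obtain ⟨m, hm⟩ := orderOf_map_dvd φ y
  rw [hm] at hy
  exact (Nat.odd_mul.1 hy).1

theorem conj_pow_eq {c x z : Y} (hz : c * z = z * c) (h : c * x * c⁻¹ = z * x) (k : ℕ) :
    c ^ k * x * (c ^ k)⁻¹ = z ^ k * x := by
  induction k with
  | zero => simp
  | succ k ih =>
    have hzk : c * z ^ k = z ^ k * c := ((show Commute c z from hz).pow_right k).eq
    calc c ^ (k + 1) * x * (c ^ (k + 1))⁻¹ = c * (c ^ k * x * (c ^ k)⁻¹) * c⁻¹ := by
          rw [pow_succ']; group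
      _ = c * z ^ k * x * c⁻¹ := by rw [ih]; group
      _ = z ^ k * (c * x * c⁻¹) := by rw [hzk]; group
      _ = z ^ (k + 1) * x := by rw [h, pow_succ]; group

theorem pow_eq_one_of_conj {c x z : Y} (hz : c * z = z * c) (h : c * x * c⁻¹ = z * x) :
    z ^ orderOf c = 1 := by
  have h1 := conj_pow_eq hz h (orderOf c)
  rw [pow_orderOf_eq_one, one_mul, inv_one, mul_one] at h1
  exact (mul_eq_right.1 h1.symm)

/-- a dihedral-like normal `2`-subgroup `E` of odd index whose torus `T` is abelian with central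
involutions -/
theorem nil2_aux [Finite Y] (T E : Subgroup Y) (hTE : T ≤ E) (hE : E.Normal) (hTn : T.Normal)
    (hT2 : IsPGroup 2 T) (hTc : ∀ x ∈ T, ∀ y ∈ T, x * y = y * x)
    (hidx : ∀ x ∈ E, x ∉ T → ∀ y ∈ E, y ∉ T → x * y ∈ T) (hEY : ∀ y, y * y ∈ E → y ∈ E)
    (hOm : ∀ x ∈ T, x * x = 1 → ∀ y, y * x = x * y) : Nil2 Y := by
  -- elements of odd order centralise `T`
  have stepa : ∀ c : Y, Odd (orderOf c) → ∀ n : ℕ, ∀ x ∈ T, x ^ (2 ^ n) = 1 → c * x = x * c := by
    intro c hc n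
    induction n with
    | zero =>
      intro x _ h
      rw [pow_zero, pow_one] at h
      rw [h]; simp
    | succ n ih =>
      intro x hx h
      have h1 : c * (x * x) = x * x * c := by
        apply ih _ (mul_mem hx hx)
        rw [← pow_two, ← pow_mul, ← pow_succ']
        exact h
      have hcx : c * x * c⁻¹ ∈ T := hTn.conj_mem x hx c
      have hzT : c * x * c⁻¹ * x⁻¹ ∈ T := mul_mem hcx (inv_mem hx)
      have hzx : c * x * c⁻¹ = c * x * c⁻¹ * x⁻¹ * x := by group
      have hz2 : c * x * c⁻¹ * x⁻¹ * (c * x * c⁻¹ * x⁻¹) = 1 := by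
        have h2 := hTc _ hcx _ (inv_mem hx)
        calc c * x * c⁻¹ * x⁻¹ * (c * x * c⁻¹ * x⁻¹)
            = x⁻¹ * (c * x * c⁻¹) * (c * x * c⁻¹ * x⁻¹) := by rw [h2]
          _ = x⁻¹ * (c * (x * x)) * c⁻¹ * x⁻¹ := by group
          _ = 1 := by rw [h1]; group
      have hzc : c * (c * x * c⁻¹ * x⁻¹) = c * x * c⁻¹ * x⁻¹ * c := hOm _ hzT hz2 c
      have h3 := pow_eq_one_of_conj hzc hzx
      have h4 := eq_one_of_odd hc h3 hz2
      have h5 : c * x * c⁻¹ = x := by rw [hzx, h4, one_mul]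
      calc c * x = c * x * c⁻¹ * c := by group
        _ = x * c := by rw [h5]
  have stepT : ∀ c : Y, Odd (orderOf c) → ∀ x ∈ T, c * x = x * c := by
    intro c hc x hx
    obtain ⟨n, hn⟩ := hT2 ⟨x, hx⟩
    exact stepa c hc n x hx (by simpa using congrArg Subtype.val hn)
  have stepE : ∀ c : Y, Odd (orderOf c) → ∀ x ∈ E, c * x = x * c := by
    intro c hc x hx
    by_cases hxT : x ∈ T
    · exact stepT c hc x hxT
    have hcx : c * x * c⁻¹ ∈ E := hE.conj_mem x hx c
    have hcxT : c * x * c⁻¹ ∉ T := by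
      intro h
      apply hxT
      have := hTn.conj_mem _ h c⁻¹
      have h2 : c⁻¹ * (c * x * c⁻¹) * c⁻¹⁻¹ = x := by group
      rwa [h2] at this
    have hzT : c * x * c⁻¹ * x⁻¹ ∈ T := by
      refine hidx _ hcx hcxT _ (inv_mem hx) ?_
      rwa [inv_mem_iff]
    have hzx : c * x * c⁻¹ = c * x * c⁻¹ * x⁻¹ * x := by group
    have h3 := pow_eq_one_of_conj (stepT c hc _ hzT) hzx
    obtain ⟨n, hn⟩ := hT2 ⟨_, hzT⟩
    have hn' : (c * x * c⁻¹ * x⁻¹) ^ (2 ^ n) = 1 := by simpa using congrArg Subtype.val hn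
    have h4 : orderOf (c * x * c⁻¹ * x⁻¹) = 1 := by
      have d1 := orderOf_dvd_of_pow_eq_one h3
      have d2 := orderOf_dvd_of_pow_eq_one hn'
      have hco : Nat.Coprime (orderOf c) (2 ^ n) :=
        Nat.Coprime.pow_right n (Nat.coprime_two_right.2 hc)
      exact Nat.eq_one_of_dvd_coprimes hco d1 d2
    have h5 := orderOf_eq_one_iff.1 h4
    have h6 : c * x * c⁻¹ = x := by rw [hzx, h5, one_mul]
    calc c * x = c * x * c⁻¹ * c := by group
      _ = x * c := by rw [h6]
  -- the centraliser of `E`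
  have hKn : (Subgroup.centralizer (E : Set Y)).Normal := by
    refine ⟨fun k hk g => ?_⟩
    rw [Subgroup.mem_centralizer_iff] at hk ⊢
    intro e he
    have h1 : g⁻¹ * e * g ∈ E := by
      have := hE.conj_mem e he g⁻¹
      rwa [inv_inv] at this
    have h2 := hk _ h1
    calc e * (g * k * g⁻¹) = g * (g⁻¹ * e * g * k) * g⁻¹ := by group
      _ = g * (k * (g⁻¹ * e * g)) * g⁻¹ := by rw [h2]
      _ = g * k * g⁻¹ * e := by group
  have hcen : E.subgroupOf (Subgroup.centralizer (E : Set Y)) ≤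
      Subgroup.center (Subgroup.centralizer (E : Set Y)) := by
    intro x hx
    rw [Subgroup.mem_center_iff]
    intro k
    apply Subtype.ext
    exact (Subgroup.mem_centralizer_iff.1 k.2 x hx).symm
  have hZodd : Odd (Subgroup.center (Subgroup.centralizer (E : Set Y))).index := by
    have h1 : Odd (E.subgroupOf (Subgroup.centralizer (E : Set Y))).index := by
      have hn : (E.subgroupOf (Subgroup.centralizer (E : Set Y))).Normal := hE.subgroupOf _
      rw [Subgroup.index, ← Nat.not_even_iff_odd, even_iff_two_dvd]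
      intro hd
      obtain ⟨y, hy⟩ := exists_prime_orderOf_dvd_card' 2 hd
      obtain ⟨k, rfl⟩ := QuotientGroup.mk_surjective y
      have h2 := pow_orderOf_eq_one (QuotientGroup.mk k :
        (Subgroup.centralizer (E : Set Y)) ⧸ (E.subgroupOf (Subgroup.centralizer (E : Set Y))))
      rw [hy, ← QuotientGroup.mk_pow, QuotientGroup.eq_one_iff, pow_two] at h2
      have h3 : k ∈ E.subgroupOf (Subgroup.centralizer (E : Set Y)) := hEY _ h2
      rw [(QuotientGroup.eq_one_iff k).2 h3, orderOf_one] at hy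
      omega
    exact Odd.of_dvd_nat h1 (Subgroup.index_dvd_of_le hcen)
  have hK := nil2_of_center hZodd
  intro y hy
  have hyK : y ∈ Subgroup.centralizer (E : Set Y) := by
    rw [Subgroup.mem_centralizer_iff]
    intro e he
    exact (stepE y hy e he).symm
  have h1 := hK ⟨y, hyK⟩ (by rwa [← Subgroup.orderOf_coe])
  have h2 : y ∈ (pPrimeCore 2 (Subgroup.centralizer (E : Set Y))).map
      (Subgroup.centralizer (E : Set Y)).subtype := ⟨_, h1, rfl⟩
  rw [Lib.Cores.map_subtype_pPrimeCore 2 hKn] at h2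
  exact h2.2

/-- the same with `T` an arbitrary abelian group, the elements of `E - T` being involutions -/
theorem nil2_of_abelian [Finite Y] (T E : Subgroup Y) (hTE : T ≤ E) (hE : E.Normal)
    (hTc : ∀ x ∈ T, ∀ y ∈ T, x * y = y * x) (hinv : ∀ x ∈ E, x ∉ T → x * x = 1)
    (hidx : ∀ x ∈ E, x ∉ T → ∀ y ∈ E, y ∉ T → x * y ∈ T) (hEY : ∀ y, y * y ∈ E → y ∈ E)
    (hOm : ∀ x ∈ T, x * x = 1 → ∀ y, y * x = x * y) : Nil2 Y := by
  have hTn : T.Normal := by
    refine ⟨fun x hx c => ?_⟩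
    by_contra hcx
    have h1 := hinv _ (hE.conj_mem x (hTE hx) c) hcx
    have h2 : x * x = 1 := by
      have : c * x * c⁻¹ * (c * x * c⁻¹) = c * (x * x) * c⁻¹ := by group
      rw [this, conj_eq_one_iff] at h1
      exact h1
    apply hcx
    rw [hOm x hx h2 c, mul_inv_cancel_right]
    exact hx
  obtain ⟨a, M, hM, hcard⟩ := Nat.exists_eq_two_pow_mul_odd (n := Nat.card T) Nat.card_pos.ne'
  let O : Subgroup Y :=
    { carrier := {x | x ∈ T ∧ x ^ M = 1}
      one_mem' := ⟨one_mem _, one_pow _⟩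
      mul_mem' := by
        rintro x y ⟨hx, hx'⟩ ⟨hy, hy'⟩
        refine ⟨mul_mem hx hy, ?_⟩
        have hc : Commute x y := hTc x hx y hy
        rw [hc.mul_pow, hx', hy', one_mul]
      inv_mem' := by
        rintro x ⟨hx, hx'⟩
        exact ⟨inv_mem hx, by rw [inv_pow, hx', inv_one]⟩ }
  have hmem : ∀ x, x ∈ O ↔ x ∈ T ∧ x ^ M = 1 := fun x => Iff.rfl
  have hOn : O.Normal := by
    refine ⟨fun x hx c => ?_⟩
    rw [hmem] at hx ⊢
    exact ⟨hTn.conj_mem x hx.1 c, by rw [conj_pow, hx.2]; simp⟩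
  have hOT : O ≤ T := fun x hx => hx.1
  have hmk : ∀ {x y : Y}, (QuotientGroup.mk' O) x = (QuotientGroup.mk' O) y → x⁻¹ * y ∈ O := by
    intro x y h
    exact QuotientGroup.eq.1 h
  have hTmem : ∀ x, (QuotientGroup.mk' O) x ∈ T.map (QuotientGroup.mk' O) ↔ x ∈ T := by
    intro x
    constructor
    · rintro ⟨y, hy, hyx⟩
      have h1 := hOT (hmk hyx)
      have h2 : x = y * (y⁻¹ * x) := by group
      rw [h2]
      exact mul_mem hy h1
    · intro h
      exact ⟨x, h, rfl⟩
  have hEmem : ∀ x, (QuotientGroup.mk' O) x ∈ E.map (QuotientGroup.mk' O) ↔ x ∈ E := by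
    intro x
    constructor
    · rintro ⟨y, hy, hyx⟩
      have h1 := hTE (hOT (hmk hyx))
      have h2 : x = y * (y⁻¹ * x) := by group
      rw [h2]
      exact mul_mem hy h1
    · intro h
      exact ⟨x, h, rfl⟩
  refine nil2_of_hom (QuotientGroup.mk' O) ?_ (nil2_aux (T.map (QuotientGroup.mk' O))
    (E.map (QuotientGroup.mk' O)) (Subgroup.map_mono hTE)
    (hE.map _ (QuotientGroup.mk'_surjective O)) (hTn.map _ (QuotientGroup.mk'_surjective O))
    ?_ ?_ ?_ ?_ ?_)
  · intro y hy h2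
    have h3 : y ∈ O := (QuotientGroup.eq_one_iff y).1 hy
    exact eq_one_of_odd hM h3.2 h2
  · rintro ⟨_, x, hx, rfl⟩
    refine ⟨a, ?_⟩
    apply Subtype.ext
    change ((QuotientGroup.mk' O) x) ^ 2 ^ a = 1
    rw [← map_pow]
    refine (QuotientGroup.eq_one_iff (x ^ 2 ^ a)).2 ((hmem _).2 ⟨pow_mem hx _, ?_⟩)
    rw [← pow_mul, ← hcard]
    exact congrArg Subtype.val (pow_card_eq_one' (x := (⟨x, hx⟩ : T)))
  · rintro _ ⟨x, hx, rfl⟩ _ ⟨y, hy, rfl⟩
    rw [← map_mul, ← map_mul, hTc x hx y hy]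
  · rintro _ ⟨x, hx, rfl⟩ hx' _ ⟨y, hy, rfl⟩ hy'
    rw [← map_mul, hTmem]
    exact hidx x hx (fun h => hx' ((hTmem x).2 h)) y hy (fun h => hy' ((hTmem y).2 h))
  · intro y hy
    obtain ⟨y, rfl⟩ := QuotientGroup.mk'_surjective O y
    rw [← map_mul, hEmem] at hy
    exact (hEmem y).2 (hEY y hy)
  · rintro _ ⟨x, hx, rfl⟩ h2 y
    obtain ⟨y, rfl⟩ := QuotientGroup.mk'_surjective O y
    have h3 : x * x ∈ O := by
      rw [← map_mul] at h2
      exact (QuotientGroup.eq_one_iff (x * x)).1 h2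
    obtain ⟨k, hk⟩ := hM
    have h4 : (x ^ M) * (x ^ M) = 1 := by
      rw [← (Commute.refl x).mul_pow]
      exact h3.2
    have h5 : (QuotientGroup.mk' O) (x ^ M) = (QuotientGroup.mk' O) x := by
      rw [hk, pow_succ, pow_mul, map_mul, pow_two]
      have : (QuotientGroup.mk' O) ((x * x) ^ k) = 1 :=
        (QuotientGroup.eq_one_iff _).2 (pow_mem h3 k)
      rw [this, one_mul]
    rw [← h5, ← map_mul, ← map_mul, hOm _ (pow_mem hx M) h4]

end general

section local'

variable {X : Type*} [Group X] [Finite X] {t : X} {F1 F2 : Type*} [Field F1] [Field F2]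
  [Finite F1] [Finite F2] {L : LocalSL t F1 F2} {s : X} {D1 : M2 F1} {D2 : M2 F2}
  {n1 : SL2 F1} {n2 : SL2 F2}

theorem nil2_centralizer (F : L.Frame s D1 D2 n1 n2) (hX : ∀ c : X, c * t = t * c) :
    Nil2 (Subgroup.centralizer ({s} : Set X)) := by
  have hs : ∀ y : Subgroup.centralizer ({s} : Set X), (y : X) * s = s * y :=
    fun y => Subgroup.mem_centralizer_singleton_iff.1 y.2
  let E : Subgroup (Subgroup.centralizer ({s} : Set X)) :=
    { carrier := {c | ∃ A B, L.Rep (c : X) A B}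
      mul_mem' := fun ⟨_, _, h⟩ ⟨_, _, h'⟩ => ⟨_, _, h.mul h'⟩
      one_mem' := ⟨1, 1, LocalSL.Rep.one L⟩
      inv_mem' := fun ⟨_, _, h⟩ => ⟨_, _, h.inv⟩ }
  have hEmem : ∀ c, c ∈ E ↔ ∃ A B, L.Rep (c : X) A B := fun c => Iff.rfl
  refine nil2_of_abelian ((L.tor D1 D2).subgroupOf _) E ?_ ?_ ?_ ?_ ?_ ?_ ?_
  · intro c hc
    obtain ⟨A, B, h, -, -⟩ := (LocalSL.mem_tor.1 (Subgroup.mem_subgroupOf.1 hc))
    exact ⟨A, B, h⟩
  · refine ⟨fun c hc g => ?_⟩
    obtain ⟨A, B, h⟩ := hc
    obtain ⟨x, y, hxy⟩ := F.hyp.comm_mem (g : X) (c : X) (hX g) (hX c)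
    refine ⟨(x : M2 F1) * A, (y : M2 F2) * B, ?_⟩
    have h1 : ((g * c * g⁻¹ : Subgroup.centralizer ({s} : Set X)) : X) =
        L.e1 x * L.e2 y * c := by
      change (g : X) * c * (g : X)⁻¹ = _
      rw [hxy]; group
    rw [h1]
    exact (LocalSL.Rep.e12 L x y).mul h
  · intro x hx y hy
    exact Subtype.ext (F.tor_comm (Subgroup.mem_subgroupOf.1 hx) (Subgroup.mem_subgroupOf.1 hy))
  · intro x hx hxT
    obtain ⟨A, B, h⟩ := hx
    rcases F.mem_or_of_comm_s h (hs x) with h1 | h1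
    · exact absurd (Subgroup.mem_subgroupOf.2 h1) hxT
    · apply Subtype.ext
      change (x : X) * x = 1
      have h2 := F.mul_w_sq h1
      have h3 : (x : X) * (L.e1 n1 * L.e2 n2) * (L.e1 n1 * L.e2 n2) = x := by
        rw [mul_assoc, F.ww, mul_one]
      rwa [h3] at h2
  · intro x hx hxT y hy hyT
    obtain ⟨A, B, h⟩ := hx
    obtain ⟨A', B', h'⟩ := hy
    have h1 := (F.mem_or_of_comm_s h (hs x)).resolve_left
      (fun h => hxT (Subgroup.mem_subgroupOf.2 h))
    have h2 := (F.mem_or_of_comm_s h' (hs y)).resolve_left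
      (fun h => hyT (Subgroup.mem_subgroupOf.2 h))
    rw [Subgroup.mem_subgroupOf]
    change (x : X) * y ∈ L.tor D1 D2
    -- `x y = (x w) (w y) = (x w) (y w)⁻¹`
    have h4 : (y : X) * (L.e1 n1 * L.e2 n2) * (y * (L.e1 n1 * L.e2 n2)) = (y : X) * (L.e1 n1 * L.e2 n2) * (y * (L.e1 n1 * L.e2 n2)) := rfl
    have hyy : (y : X) * y = 1 := by
      have h5 := F.mul_w_sq h2
      have h6 : (y : X) * (L.e1 n1 * L.e2 n2) * (L.e1 n1 * L.e2 n2) = y := by
        rw [mul_assoc, F.ww, mul_one]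
      rwa [h6] at h5
    have h7 : (x : X) * y = (x * (L.e1 n1 * L.e2 n2)) * ((y : X) * (L.e1 n1 * L.e2 n2))⁻¹ := by
      rw [mul_inv_rev, inv_eq_of_mul_eq_one_left hyy]
      group
    rw [h7]
    exact mul_mem h1 (inv_mem h2)
  · intro y hy
    exact F.hyp.sq_mem (y : X) (hX y) hy
  · intro x hx h2 y
    have h3 := F.tor_invol (Subgroup.mem_subgroupOf.1 hx) (congrArg Subtype.val h2)
    apply Subtype.ext
    change (y : X) * x = x * y
    rcases h3 with h | h | h | h
    · rw [h]; simp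
    · rw [h]; exact hX y
    · rw [h]; exact hs y
    · rw [h, ← mul_assoc, hs y, mul_assoc, hX y, mul_assoc]

end local'

section group

variable {G : Type*} [Group G] [Finite G]

theorem bar_eq_one_iff (a : G) (z : Subgroup.centralizer ({a} : Set G)) :
    bar a z = 1 ↔ z ∈ Cfsg.pPrimeCore 2 (Subgroup.centralizer ({a} : Set G)) :=
  QuotientGroup.eq_one_iff z

theorem odd_core (a : G) :
    Odd (Nat.card (Cfsg.pPrimeCore 2 (Subgroup.centralizer ({a} : Set G)))) :=
  Nat.coprime_two_right.1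
    (Lib.Cores.pPrimeCore_coprime (G := Subgroup.centralizer ({a} : Set G)) 2)

theorem eq_one_of_bar {a : G} {z : Subgroup.centralizer ({a} : Set G)} (h : bar a z = 1)
    (h2 : z * z = 1) : z = 1 := by
  rw [bar_eq_one_iff] at h
  refine eq_one_of_odd (odd_core a) ?_ h2
  exact congrArg Subtype.val (pow_card_eq_one' (x := (⟨z, h⟩ : Cfsg.pPrimeCore 2 _)))

/-- `C(V)` is 2-nilpotent -/
theorem nil2_of_locHyp {t s : G} (hL : LocHyp t) (htt : t * t = 1)
    (hss : s * s = 1) (hs1 : s ≠ 1) (hst : s ≠ t) (hc : s * t = t * s) (V : Subgroup G)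
    (hV : ∀ x, x ∈ Subgroup.centralizer (V : Set G) → x * t = t * x ∧ x * s = s * x) :
    Nil2 (Subgroup.centralizer (V : Set G)) := by
  obtain ⟨F1, F2, _, _, _, _, L, H⟩ := hL
  have hcen : ∀ c : Subgroup.centralizer ({t} : Set G),
      c * ⟨t, Subgroup.mem_centralizer_singleton_iff.2 rfl⟩ =
        ⟨t, Subgroup.mem_centralizer_singleton_iff.2 rfl⟩ * c :=
    fun c => Subtype.ext (Subgroup.mem_centralizer_singleton_iff.1 c.2)
  have hX : ∀ c, c * bar t ⟨t, Subgroup.mem_centralizer_singleton_iff.2 rfl⟩ =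
      bar t ⟨t, Subgroup.mem_centralizer_singleton_iff.2 rfl⟩ * c := by
    intro c
    obtain ⟨c, rfl⟩ := QuotientGroup.mk'_surjective _ c
    change bar t c * _ = _ * bar t c
    rw [← map_mul, ← map_mul, hcen]
  have hss' : (⟨s, Subgroup.mem_centralizer_singleton_iff.2 hc⟩ :
      Subgroup.centralizer ({t} : Set G)) * ⟨s, Subgroup.mem_centralizer_singleton_iff.2 hc⟩ = 1 :=
    Subtype.ext hss
  obtain ⟨D1, D2, n1, n2, F⟩ := H.exists_frame
    (s := bar t ⟨s, Subgroup.mem_centralizer_singleton_iff.2 hc⟩) (hX _)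
    (by rw [← map_mul, hss', map_one])
    (by
      intro h
      exact hs1 (congrArg Subtype.val (eq_one_of_bar h hss')))
    (by
      intro h
      have h1 : bar t (⟨s, Subgroup.mem_centralizer_singleton_iff.2 hc⟩ *
          ⟨t, Subgroup.mem_centralizer_singleton_iff.2 rfl⟩) = 1 := by
        rw [map_mul, h, ← map_mul]
        have : (⟨t, Subgroup.mem_centralizer_singleton_iff.2 rfl⟩ :
          Subgroup.centralizer ({t} : Set G)) *
            ⟨t, Subgroup.mem_centralizer_singleton_iff.2 rfl⟩ = 1 := Subtype.ext htt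
        rw [this, map_one]
      have h2 : (⟨s, Subgroup.mem_centralizer_singleton_iff.2 hc⟩ *
          ⟨t, Subgroup.mem_centralizer_singleton_iff.2 rfl⟩ :
          Subgroup.centralizer ({t} : Set G)) * (⟨s, Subgroup.mem_centralizer_singleton_iff.2 hc⟩ *
          ⟨t, Subgroup.mem_centralizer_singleton_iff.2 rfl⟩) = 1 := by
        apply Subtype.ext
        change s * t * (s * t) = 1
        calc s * t * (s * t) = s * (t * s) * t := by group
          _ = s * (s * t) * t := by rw [hc]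
          _ = s * s * (t * t) := by group
          _ = 1 := by rw [hss, htt, one_mul]
      have h3 : s * t = 1 := congrArg Subtype.val (eq_one_of_bar h1 h2)
      apply hst
      rw [← mul_one s, ← htt, ← mul_assoc, h3, one_mul])
  have hle : Subgroup.centralizer (V : Set G) ≤ Subgroup.centralizer ({t} : Set G) :=
    fun x hx => Subgroup.mem_centralizer_singleton_iff.2 (hV x hx).1
  let φ : Subgroup.centralizer (V : Set G) →*
      Subgroup.centralizer ({bar t ⟨s, Subgroup.mem_centralizer_singleton_iff.2 hc⟩} : Set _) :=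
    ((bar t).comp (Subgroup.inclusion hle)).codRestrict _ (by
      intro x
      rw [Subgroup.mem_centralizer_singleton_iff]
      change bar t _ * bar t _ = bar t _ * bar t _
      rw [← map_mul, ← map_mul]
      congr 1
      exact Subtype.ext (hV x x.2).2)
  refine nil2_of_hom φ ?_ (nil2_centralizer F hX)
  intro y hy h2
  have h3 : bar t (Subgroup.inclusion hle y) = 1 := congrArg Subtype.val hy
  have h4 := eq_one_of_bar h3 (by rw [← map_mul, h2, map_one])
  have h5 : ((Subgroup.inclusion hle y : Subgroup.centralizer ({t} : Set G)) : G) = 1 := by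
    rw [h4]; rfl
  exact Subtype.ext h5

/-- elements of odd order of `C(V)` lie in `coreC V` -/
theorem mem_coreC {t s : G} (hL : LocHyp t) (htt : t * t = 1)
    (hss : s * s = 1) (hs1 : s ≠ 1) (hst : s ≠ t) (hc : s * t = t * s) (V : Subgroup G)
    (hV : ∀ x, x ∈ Subgroup.centralizer (V : Set G) ↔ x * t = t * x ∧ x * s = s * x) {x : G}
    (hxt : x * t = t * x) (hxs : x * s = s * x) (hx : Odd (orderOf x)) : x ∈ coreC V := by
  have hxV := (hV x).2 ⟨hxt, hxs⟩
  refine ⟨⟨x, hxV⟩, ?_, rfl⟩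
  exact nil2_of_locHyp hL htt hss hs1 hst hc V (fun x h => (hV x).1 h) _
    (by rwa [← Subgroup.orderOf_coe])

/-- the same, from `t, s ∈ V` and `V ⊆ {1, t, s, st}` -/
theorem mem_coreC' {t s : G} (hL : LocHyp t) (htt : t * t = 1)
    (hss : s * s = 1) (hs1 : s ≠ 1) (hst : s ≠ t) (hc : s * t = t * s) {V : Subgroup G}
    (htV : t ∈ V) (hsV : s ∈ V) (hV : ∀ v ∈ V, v = 1 ∨ v = t ∨ v = s ∨ v = s * t) {x : G}
    (hxt : x * t = t * x) (hxs : x * s = s * x) (hx : Odd (orderOf x)) : x ∈ coreC V := by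
  refine mem_coreC hL htt hss hs1 hst hc V ?_ hxt hxs hx
  intro y
  rw [Subgroup.mem_centralizer_iff]
  constructor
  · intro h
    exact ⟨(h t htV).symm, (h s hsV).symm⟩
  · rintro ⟨h1, h2⟩ v hv
    rcases hV v hv with rfl | rfl | rfl | rfl
    · simp
    · exact h1.symm
    · exact h2.symm
    · rw [mul_assoc, ← h1, ← mul_assoc, ← h2, mul_assoc]

end group

end Cfsg.Agent.GTwoOdd.Core.Nilp
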