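import Cfsg.Agent.GTwoOdd.Core.Frame
import Cfsg.Agent.GTwoOdd.Core.InnerBal
import Cfsg.Agent.GTwoOdd.Core.OuterBal
import Cfsg.Agent.GTwoOdd.Core.Nilp
import Cfsg.Agent.GTwoOdd.Core.ClosingB

/-!
# (B): the cores of the centralisers of the involutions are trivial
-/

set_option autoImplicit false

namespace Cfsg.Agent.GTwoOdd.Core.End

open Subgroup Cfsg.Agent.Lib.GoldschmidtFusion
open Cfsg.Agent.GTwoOdd.Core.OddG Cfsg.Agent.GTwoOdd.Core.OddLoc Cfsg.Agent.GTwoOdd.Core.FrameG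
open Cfsg.Agent.GTwoOdd.Core.OuterBal

universe u

/-- geometry, part (a) -/
def GeoA {G : Type u} [Group G] (S0 A V : Subgroup G) : Prop :=
  ∃ w ∈ S0, w ∉ A ∧ (∀ v ∈ V, v ≠ 1 → Inner.InnG w v) ∧ (∀ u ∈ V, u ≠ 1 → ∀ v ∈ V, v ≠ 1 → u ≠ v → Inner.InnG u v) ∧
    ∃ E : Subgroup G, Dichotomy.Elem.Big E ∧ ∀ a ∈ E, a ≠ 1 → ∀ b ∈ E, b ≠ 1 → a ≠ b → Inner.InnG a b

/-- geometry, part (b) -/
def GeoB (G : Type u) [Group G] : Prop :=
  ∀ x a : G, Pair x a → ¬ Inner.InnG x a → ∃ a₀, Pair x a₀ ∧ Pair a a₀ ∧ Inner.InnG x a₀ ∧ Inner.InnG a a₀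

/-- balance for all commuting pairs -/
theorem bal {G : Type u} [Group G] [Finite G]
    (hFT : ∀ (X : Type u) [Group X] [Finite X], Odd (Nat.card X) → Group.IsSolvable X)
    (H5 : Concl.WrHyp.{u}) (hcl : ∀ a b : G, orderOf a = 2 → orderOf b = 2 → ∃ g : G, g * a * g⁻¹ = b)
    (hL : ∀ v : G, orderOf v = 2 → LocHyp v) {P : Sylow 2 G} {S0 A W V : Subgroup G} {m : ℕ}
    (hF : FrameData P S0 A W V m) (hgA : GeoA S0 A V) (hgB : GeoB G) : Dichotomy.Functor.Fun G := by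
  have hsolv : Functor.Solv G := fun a _ => hFT _ (core_odd a)
  have h := hF.conf
  obtain ⟨w, hw, hwA, hInw, hInV, E, hE, hEI⟩ := hgA
  obtain ⟨t, ht, ht1, -⟩ := h.exists_t
  obtain ⟨s, hs, hs1, hst⟩ := h.exists_ne' t
  obtain ⟨eA⟩ := hF.eA
  have hord : ∀ v ∈ V, v ≠ 1 → orderOf v = 2 := fun v hv hv1 =>
    orderOf_eq_prime (by rw [pow_two]; exact h.sqV hv) hv1
  have hbal : ∀ a b : G, Pair a b → Inner.InnG a b →
      Cfsg.centralizerPPrimeCore 2 a ⊓ centralizer ({b} : Set G) ≤ Cfsg.centralizerPPrimeCore 2 b := by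
    intro a b hab hi
    refine InnerBal.inner_bal (V := V) (A := A) (S₀ := S0) (P.isPGroup'.to_le h.S_le) h.V_le_S h.A_le ?_ (fun v hv => h.sqV hv) ?_
      h.root ?_ ?_ H5 (confHyp h hF.big hF.hm eA) hF.hm eA hL hw ht hs ht1 hs1 (Ne.symm hst)
      (h.inv2 w hw hwA) (fun h1 => hwA (h.V_le h1)) (fun a b h1 h2 => h2.symm h1.comm.symm) hInw hInV
      (fun t s t' s' h1 h2 h3 h4 => exists_conj_innG hL hcl h1 h2 h3 h4) a b hab hi
    · intro x hx
      rw [mem_centralizer_iff]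
      intro v hv
      exact (h.S_cent hx hv).symm
    · intro u hu v hv u' hu' hu1 hv1 huv
      rcases h.V_elim hu hv hu1 hv1 huv hu' with h1 | h1 | h1 | h1
      · exact Or.inl h1
      · exact Or.inr (Or.inr (Or.inl h1))
      · exact Or.inr (Or.inl h1)
      · exact Or.inr (Or.inr (Or.inr h1))
    · exact ⟨w, hw, fun a ha => h.inv w hw hwA a ha⟩
    · intro x hx hxo
      rw [mem_centralizer_iff] at hx
      refine Nilp.mem_coreC' (hL t (hord t ht ht1)) (h.sqV ht) (h.sqV hs) hs1 hst (h.commV hs ht) (V := V) ht hs ?_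
        (hx t ht).symm (hx s hs).symm hxo
      intro v hv
      rcases h.V_elim hs ht hs1 ht1 hst hv with h1 | h1 | h1 | h1
      · exact Or.inl h1
      · exact Or.inr (Or.inr (Or.inl h1))
      · exact Or.inr (Or.inl h1)
      · exact Or.inr (Or.inr (Or.inr h1))
  exact
    { solv := hsolv
      bal := bal_all hsolv hL hcl hbal hE hEI hgB }

end Cfsg.Agent.GTwoOdd.Core.End
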