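import Cfsg.Agent.TwoFusion.FpfAbelian
import Cfsg.Agent.TwoFusion.RankTwoWreath

/-!
# Homocyclic groups, wreathed groups, and elements of 3-power order

`A` is an abelian 2-subgroup with `V = Ω₁(A)` of order 4, and `x` normalises `A` and moves every involution
of `V`.
-/

set_option autoImplicit false
set_option linter.style.haveILetI false

namespace Cfsg.Agent.GTwoOdd.Core.Homo

open Subgroup Cfsg

variable {G : Type*} [Group G]

/-- A group of order 4 and exponent 2 is `{1, a, b, a b}`. -/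
theorem four_elems {V : Subgroup G} (cardV : Nat.card V = 4) (hV : ∀ v ∈ V, v * v = 1) {a b : G}
    (ha : a ∈ V) (hb : b ∈ V) (ha1 : a ≠ 1) (hb1 : b ≠ 1) (hne : a ≠ b) {x : G} (hx : x ∈ V) :
    x = 1 ∨ x = a ∨ x = b ∨ x = a * b := by
  classical
  haveI : Finite V := Nat.finite_of_card_ne_zero (by rw [cardV]; norm_num)
  haveI : Fintype V := Fintype.ofFinite _
  rw [Nat.card_eq_fintype_card] at cardV
  set a' : V := ⟨a, ha⟩ with ha'
  set b' : V := ⟨b, hb⟩ with hb'
  have ha1' : a' ≠ 1 := fun e => ha1 (congrArg Subtype.val e)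
  have hb1' : b' ≠ 1 := fun e => hb1 (congrArg Subtype.val e)
  have hne' : a' ≠ b' := fun e => hne (congrArg Subtype.val e)
  have haa : a' * a' = 1 := Subtype.ext (hV a ha)
  have h4 : ({1, a', b', a' * b'} : Finset V).card = 4 := by
    rw [Finset.card_insert_of_notMem, Finset.card_insert_of_notMem, Finset.card_insert_of_notMem,
      Finset.card_singleton]
    · rw [Finset.mem_singleton]
      intro e
      exact ha1' (mul_eq_right.1 e.symm)
    · rw [Finset.mem_insert, Finset.mem_singleton, not_or]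
      exact ⟨hne', fun e => hb1' (mul_eq_left.1 e.symm)⟩
    · rw [Finset.mem_insert, Finset.mem_insert, Finset.mem_singleton, not_or, not_or]
      refine ⟨fun e => ha1' e.symm, fun e => hb1' e.symm, fun e => hne' ?_⟩
      calc a' = a' * (a' * b') := by rw [← e, mul_one]
        _ = b' := by rw [← mul_assoc, haa, one_mul]
  have h5 : ({1, a', b', a' * b'} : Finset V) = Finset.univ :=
    Finset.eq_univ_of_card _ (by rw [h4, cardV])
  have h6 : (⟨x, hx⟩ : V) ∈ ({1, a', b', a' * b'} : Finset V) := by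
    rw [h5]
    exact Finset.mem_univ _
  rw [Finset.mem_insert, Finset.mem_insert, Finset.mem_insert, Finset.mem_singleton] at h6
  rcases h6 with e | e | e | e
  · exact Or.inl (congrArg Subtype.val e)
  · exact Or.inr (Or.inl (congrArg Subtype.val e))
  · exact Or.inr (Or.inr (Or.inl (congrArg Subtype.val e)))
  · exact Or.inr (Or.inr (Or.inr (congrArg Subtype.val e)))

/-- `x` acts on `V` with `x³` trivial. -/
theorem cube {V : Subgroup G} (cardV : Nat.card V = 4) (hV : ∀ v ∈ V, v * v = 1) {x : G}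
    (hx : ∀ v ∈ V, x * v * x⁻¹ ∈ V) (hne : ∀ v ∈ V, v ≠ 1 → x * v * x⁻¹ ≠ v) :
    ∀ v ∈ V, x ^ 3 * v * (x ^ 3)⁻¹ = v := by
  intro v hv
  by_cases hv1 : v = 1
  · rw [hv1]; group
  set b := x * v * x⁻¹ with hb
  have hbV : b ∈ V := hx v hv
  have hb1 : b ≠ 1 := by
    intro e
    apply hv1
    calc v = x⁻¹ * b * x := by rw [hb]; group
      _ = 1 := by rw [e]; group
  have hbv : b ≠ v := hne v hv hv1
  -- `x b x⁻¹ = v b`
  have h1 : x * b * x⁻¹ ∈ V := hx b hbV
  have h2 : x * b * x⁻¹ = v * b := by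
    rcases four_elems cardV hV hv hbV hv1 hb1 (Ne.symm hbv) h1 with e | e | e | e
    · exfalso
      apply hb1
      calc b = x⁻¹ * (x * b * x⁻¹) * x := by group
        _ = 1 := by rw [e]; group
    · -- then `x` swaps `v` and `b` and fixes `v b`
      exfalso
      have h3 : x * (v * b) * x⁻¹ = b * v := by
        calc x * (v * b) * x⁻¹ = (x * v * x⁻¹) * (x * b * x⁻¹) := by group
          _ = b * v := by rw [← hb, e]
      have h4 : b * v = v * b := by
        have h5 := hV _ (mul_mem hv hbV)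
        have h6 : (v * b)⁻¹ = v * b := inv_eq_of_mul_eq_one_left h5
        have h7 : v⁻¹ = v := inv_eq_of_mul_eq_one_left (hV v hv)
        have h8 : b⁻¹ = b := inv_eq_of_mul_eq_one_left (hV b hbV)
        calc b * v = b⁻¹ * v⁻¹ := by rw [h7, h8]
          _ = v * b := by rw [← mul_inv_rev, h6]
      rw [h4] at h3
      refine hne _ (mul_mem hv hbV) ?_ h3
      intro h5
      apply hbv
      calc b = (v * v) * b := by rw [hV v hv, one_mul]
        _ = v := by rw [mul_assoc, h5, mul_one]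
    · exact absurd e (hne b hbV hb1)
    · exact e
  have h3 : x * (v * b) * x⁻¹ = v := by
    calc x * (v * b) * x⁻¹ = (x * v * x⁻¹) * (x * b * x⁻¹) := by group
      _ = b * (v * b) := by rw [← hb, h2]
      _ = b * (b * v) := by
        have h5 := hV _ (mul_mem hv hbV)
        have h6 : (v * b)⁻¹ = v * b := inv_eq_of_mul_eq_one_left h5
        have h7 : v⁻¹ = v := inv_eq_of_mul_eq_one_left (hV v hv)
        have h8 : b⁻¹ = b := inv_eq_of_mul_eq_one_left (hV b hbV)
        have h9 : v * b = b * v := by rw [← h6, mul_inv_rev, h7, h8]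
        rw [h9]
      _ = v := by rw [← mul_assoc, hV b hbV, one_mul]
  calc x ^ 3 * v * (x ^ 3)⁻¹ = x * (x * (x * v * x⁻¹) * x⁻¹) * x⁻¹ := by
        rw [show x ^ 3 = x * x * x by rw [pow_succ, pow_two]]
        group
    _ = v := by rw [← hb, h2, h3]

/-- (iii), first part: a power of `x` of 3-power order with the same action on `V`. -/
theorem exists_three [Finite G] {V : Subgroup G} (cardV : Nat.card V = 4) (hV : ∀ v ∈ V, v * v = 1) {x : G}
    (hx : ∀ v ∈ V, x * v * x⁻¹ ∈ V) (hne : ∀ v ∈ V, v ≠ 1 → x * v * x⁻¹ ≠ v) :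
    ∃ n k : ℕ, 1 ≤ k ∧ orderOf (x ^ n) = 3 ^ k ∧ ∀ v ∈ V, x ^ n * v * (x ^ n)⁻¹ = x * v * x⁻¹ := by
  have h3 := cube cardV hV hx hne
  -- powers of `x³` act trivially
  have h3n : ∀ j : ℕ, ∀ v ∈ V, (x ^ 3) ^ j * v * ((x ^ 3) ^ j)⁻¹ = v := by
    intro j
    induction j with
    | zero => intro v _; simp
    | succ j ih =>
      intro v hv
      calc (x ^ 3) ^ (j + 1) * v * ((x ^ 3) ^ (j + 1))⁻¹
          = (x ^ 3) ^ j * (x ^ 3 * v * (x ^ 3)⁻¹) * ((x ^ 3) ^ j)⁻¹ := by rw [pow_succ]; group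
        _ = v := by rw [h3 v hv, ih v hv]
  -- a nontrivial element of `V`
  obtain ⟨v, hv, hv1⟩ : ∃ v ∈ V, v ≠ 1 := by
    by_contra hcon
    push Not at hcon
    have : V = ⊥ := (eq_bot_iff_forall V).2 hcon
    rw [this, card_bot] at cardV
    omega
  have hpos : orderOf x ≠ 0 := (orderOf_pos x).ne'
  -- `orderOf x = 3 ^ k * m`
  obtain ⟨k, m, hm3, hkm⟩ := Nat.exists_eq_pow_mul_and_not_dvd hpos 3 (by norm_num)
  have hcop : Nat.Coprime (3 ^ k) m := Nat.Coprime.pow_left k ((Nat.Prime.coprime_iff_not_dvd Nat.prime_three).2 hm3)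
  have hk : 1 ≤ k := by
    by_contra hk0
    have hk0' : k = 0 := by omega
    rw [hk0', pow_zero, one_mul] at hkm
    have hc3 : Nat.Coprime 3 (orderOf x) := by rw [hkm]; exact (Nat.Prime.coprime_iff_not_dvd Nat.prime_three).2 hm3
    -- `x` is a power of `x ^ 3`
    obtain ⟨j, hj⟩ : ∃ j : ℕ, (x ^ 3) ^ j = x := by
      have h4 := Nat.exists_mul_mod_eq_one_of_coprime hc3
      rcases Nat.lt_or_ge 1 (orderOf x) with h5 | h5
      · obtain ⟨j, -, hj⟩ := Nat.exists_mul_mod_eq_one_of_coprime hc3 h5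
        refine ⟨j, ?_⟩
        rw [← pow_mul, ← pow_mod_orderOf, hj, pow_one]
      · have h6 : orderOf x = 1 := by have := orderOf_pos x; omega
        rw [orderOf_eq_one_iff] at h6
        exact ⟨0, by rw [h6]; simp⟩
    have h6 := h3n j v hv
    rw [hj] at h6
    exact hne v hv hv1 h6
  -- Chinese remainder
  obtain ⟨n, hn1, hn2⟩ := Nat.chineseRemainder hcop 1 0
  have hdvd : m ∣ n := (Nat.modEq_zero_iff_dvd).1 hn2
  refine ⟨n, k, hk, ?_, ?_⟩
  · have h4 : Nat.gcd (orderOf x) n = m := by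
      obtain ⟨c, rfl⟩ := hdvd
      have h5 : Nat.Coprime (3 ^ k) c := by
        have h6 : Nat.Coprime (3 ^ k) (m * c) := by
          have h7 : Nat.gcd (m * c) (3 ^ k) = Nat.gcd 1 (3 ^ k) := Nat.ModEq.gcd_eq hn1
          rw [Nat.gcd_comm] at h7
          rw [Nat.Coprime, h7, Nat.gcd_one_left]
        exact Nat.Coprime.coprime_mul_left_right h6
      rw [hkm, Nat.mul_comm (3 ^ k) m, Nat.gcd_mul_left, h5, mul_one]
    rw [orderOf_pow x, h4, hkm]
    refine Nat.mul_div_cancel _ (Nat.pos_of_ne_zero ?_)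
    intro h5
    rw [h5, mul_zero] at hkm
    exact hpos hkm
  · intro v hv
    -- `n = 1 + 3 j` or so
    have h4 : n % 3 = 1 := by
      have h5 : n ≡ 1 [MOD 3] := hn1.of_dvd (dvd_pow_self 3 (by omega))
      have h6 : n % 3 = 1 % 3 := h5
      omega
    have h5 : n = 3 * (n / 3) + 1 := by omega
    calc x ^ n * v * (x ^ n)⁻¹ = (x ^ (3 * (n / 3) + 1)) * v * (x ^ (3 * (n / 3) + 1))⁻¹ := by rw [← h5]
      _ = (x ^ 3) ^ (n / 3) * (x * v * x⁻¹) * ((x ^ 3) ^ (n / 3))⁻¹ := by rw [pow_succ, pow_mul]; group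
      _ = x * v * x⁻¹ := h3n _ _ (hx v hv)

/-- Powers of an element normalising `A`. -/
theorem pow_conj_mem {A : Subgroup G} {x : G} (hx : ∀ a ∈ A, x * a * x⁻¹ ∈ A) (n : ℕ) :
    ∀ a ∈ A, x ^ n * a * (x ^ n)⁻¹ ∈ A := by
  induction n with
  | zero => intro a ha; simpa using ha
  | succ n ih =>
    intro a ha
    have e : x ^ (n + 1) * a * (x ^ (n + 1))⁻¹ = x ^ n * (x * a * x⁻¹) * (x ^ n)⁻¹ := by rw [pow_succ]; group
    rw [e]
    exact ih _ (hx a ha)

section fpf

variable [Finite G] {A V : Subgroup G} (hA : IsPGroup 2 A) (comm : ∀ a ∈ A, ∀ b ∈ A, a * b = b * a)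
  (V_le : V ≤ A) (memV : ∀ a ∈ A, (a ∈ V ↔ a * a = 1)) (cardV : Nat.card V = 4) {x : G}
  (hx : ∀ a ∈ A, x * a * x⁻¹ ∈ A) (hne : ∀ v ∈ V, v ≠ 1 → x * v * x⁻¹ ≠ v)
include hA comm V_le memV cardV hx hne

/-- (i): `A` is homocyclic of rank 2. -/
theorem homocyclic : ∃ m : ℕ, 1 ≤ m ∧ Nonempty (A ≃* Multiplicative (ZMod (2 ^ m) × ZMod (2 ^ m))) := by
  have hV : ∀ v ∈ V, v * v = 1 := fun v hv => (memV v (V_le hv)).1 hv
  have hxV : ∀ v ∈ V, x * v * x⁻¹ ∈ V := by
    intro v hv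
    rw [memV _ (hx v (V_le hv))]
    calc x * v * x⁻¹ * (x * v * x⁻¹) = x * (v * v) * x⁻¹ := by group
      _ = 1 := by rw [hV v hv]; group
  obtain ⟨n, k, -, hk, hn⟩ := exists_three cardV hV hxV hne
  set y := x ^ n with hy
  have hyA : ∀ a ∈ A, y * a * y⁻¹ ∈ A := pow_conj_mem hx n
  letI : CommGroup A := { (inferInstance : Group A) with
    mul_comm := fun a b => Subtype.ext (comm a a.2 b b.2) }
  let α : A →* A :=
    { toFun := fun a => ⟨y * a * y⁻¹, hyA a a.2⟩
      map_one' := Subtype.ext (by simp)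
      map_mul' := fun a b => Subtype.ext (by
        change y * ((a : G) * b) * y⁻¹ = y * a * y⁻¹ * (y * b * y⁻¹)
        group) }
  have hα : ∀ (j : ℕ) (a : A), ((α^[j] a : A) : G) = y ^ j * a * (y ^ j)⁻¹ := by
    intro j
    induction j with
    | zero => intro a; simp
    | succ j ih =>
      intro a
      rw [Function.iterate_succ_apply, ih]
      change y ^ j * (y * a * y⁻¹) * (y ^ j)⁻¹ = _
      rw [pow_succ]
      group
  have hfpf : ∀ a : A, α a = a → a = 1 := by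
    intro a ha
    by_contra hne1
    obtain ⟨i, h1, h2⟩ := Cfsg.Agent.TwoFusion.FpfPowBasic.exists_step hA (fun z => z = 1) rfl hne1
    set s : A := a ^ 2 ^ i with hs
    have h3 : α s = s := by rw [hs, map_pow, ha]
    have h4 : (s : G) ∈ V := by
      rw [memV _ s.2]
      have := congrArg Subtype.val h2
      rw [pow_two] at this
      exact this
    have h5 : (s : G) ≠ 1 := fun e => h1 (Subtype.ext e)
    have h6 : y * (s : G) * y⁻¹ = s := congrArg Subtype.val h3
    rw [hn _ h4] at h6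
    exact hne _ h4 h5 h6
  have hF : Cfsg.Agent.TwoFusion.FpfPowBasic.FpfPow α k := by
    refine ⟨fun a => ?_, hfpf⟩
    apply Subtype.ext
    rw [hα, ← hk, pow_orderOf_eq_one]
    group
  have hs : Nat.card {a : A // a ^ 2 = 1} ≤ 4 := by
    rw [← cardV]
    refine Nat.card_le_card_of_injective (fun a => ⟨((a : A) : G), ?_⟩) ?_
    · rw [memV _ (a : A).2]
      have := congrArg Subtype.val a.2
      rw [pow_two] at this
      exact this
    · intro a b hab
      have h7 : (((a : A) : A) : G) = ((b : A) : G) := congrArg (fun z : V => (z : G)) hab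
      exact Subtype.ext (Subtype.ext h7)
  obtain ⟨m, ⟨e⟩⟩ := Cfsg.Agent.TwoFusion.FpfAbelian.exists_mulEquiv hA hF hs
  refine ⟨m, ?_, ⟨e⟩⟩
  by_contra hm
  have hm0 : m = 0 := by omega
  subst hm0
  have h1 : Nat.card A = 1 := by
    rw [Nat.card_congr e.toEquiv, Nat.card_congr Multiplicative.toAdd, Nat.card_prod, Nat.card_zmod]
    norm_num
  have h2 : Nat.card V ≤ Nat.card A := card_le_of_le V_le
  omega

/-- (i): if `A > V` then `m ≥ 2` and the elements of `V` are squares in `A`. -/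
theorem homocyclic_root (hfour : ∃ c ∈ A, c * c ≠ 1) :
    (∃ m : ℕ, 2 ≤ m ∧ Nonempty (A ≃* Multiplicative (ZMod (2 ^ m) × ZMod (2 ^ m)))) ∧
      ∀ v ∈ V, ∃ c ∈ A, c * c = v := by
  obtain ⟨m, hm, ⟨e⟩⟩ := homocyclic hA comm V_le memV cardV hx hne
  have hm2 : 2 ≤ m := by
    by_contra hlt
    have hm1 : m = 1 := by omega
    subst hm1
    obtain ⟨c, hc, hcc⟩ := hfour
    apply hcc
    have h1 := Cfsg.Agent.TwoFusion.RankTwoWreath.pow_eq_one' e ⟨c, hc⟩
    have h2 := congrArg Subtype.val h1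
    rw [pow_one, pow_two] at h2
    exact h2
  refine ⟨⟨m, hm2, ⟨e⟩⟩, fun v hv => ?_⟩
  obtain ⟨c, hc⟩ := Cfsg.Agent.TwoFusion.RankTwoWreath.exists_root hm e ⟨v, V_le hv⟩
    (Subtype.ext ((memV v (V_le hv)).1 hv))
  obtain ⟨j, rfl⟩ : ∃ j, m = j + 2 := ⟨m - 2, by omega⟩
  refine ⟨(c : G) ^ 2 ^ j, pow_mem c.2 _, ?_⟩
  have h2 := congrArg Subtype.val hc
  rw [← pow_two, ← pow_mul, ← pow_succ]
  exact h2

end fpf

/-- (ii): a 2-group `W` with a homocyclic subgroup `A` of index 2 and an involution `z` outside moving an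
involution of `A` is wreathed. -/
theorem isWreathed [Finite G] {A W : Subgroup G} (hAW : A ≤ W) (hidx : A.relIndex W = 2) {m : ℕ}
    (hm : 2 ≤ m) (e : A ≃* Multiplicative (ZMod (2 ^ m) × ZMod (2 ^ m))) {z s : G} (hz : z ∈ W)
    (hzz : z * z = 1) (hzA : ∀ a ∈ A, z * a * z⁻¹ ∈ A) (hs : s ∈ A) (hss : s * s = 1)
    (hne : z * s * z⁻¹ ≠ s) : IsWreathed W := by
  haveI : Fact (Nat.Prime 2) := ⟨Nat.prime_two⟩
  obtain ⟨r, hr⟩ := Cfsg.Agent.TwoFusion.RankTwoWreath.exists_root (by omega : 1 ≤ m) e ⟨s, hs⟩ (Subtype.ext hss)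
  have hs1 : s ≠ 1 := by
    rintro rfl
    apply hne
    group
  have hz1 : z ≠ 1 := by
    rintro rfl
    apply hne
    group
  set x : G := (r : G) with hx
  have hxs : x ^ 2 ^ (m - 1) = s := by
    have := congrArg Subtype.val hr
    simpa using this
  have hx1 : x ^ 2 ^ m = 1 := by
    have := congrArg Subtype.val (Cfsg.Agent.TwoFusion.RankTwoWreath.pow_eq_one' e r)
    simpa using this
  have hxo : orderOf x = 2 ^ m := by
    obtain ⟨j, rfl⟩ : ∃ j, m = j + 1 := ⟨m - 1, by omega⟩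
    apply orderOf_eq_prime_pow
    · rw [Nat.add_sub_cancel] at hxs
      rw [hxs]; exact hs1
    · exact hx1
  set y : G := z * x * z⁻¹ with hy
  have hyo : orderOf y = 2 ^ m := by
    rw [← hxo, hy]
    exact (MulAut.conj z).orderOf_eq x
  have hys : y ^ 2 ^ (m - 1) = z * s * z⁻¹ := by rw [hy, conj_pow, hxs]
  have hso : orderOf s = 2 := orderOf_eq_prime (by rw [pow_two, hss]) hs1
  have hdisj : ∀ g ∈ zpowers x, g ∈ zpowers y → g = 1 := by
    intro g hgx hgy
    by_contra hg1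
    have h2 : IsPGroup 2 (zpowers x) := by
      rw [IsPGroup.iff_card]
      exact ⟨m, by rw [Nat.card_zpowers, hxo]⟩
    have hg1' : ¬ ((⟨g, hgx⟩ : zpowers x) = 1) := fun e => hg1 (congrArg Subtype.val e)
    obtain ⟨i, h3, h4⟩ := Cfsg.Agent.TwoFusion.FpfPowBasic.exists_step h2 (fun z => z = 1) rfl hg1'
    set c : G := g ^ 2 ^ i with hc
    have hc1 : c ≠ 1 := fun e => h3 (Subtype.ext (by simpa using e))
    have hc2 : c ^ 2 = 1 := by simpa using congrArg Subtype.val h4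
    have hco : orderOf c = 2 := orderOf_eq_prime hc2 hc1
    have h5 := Cfsg.Agent.TwoFusion.RankTwoWreath.eq_of_mem_zpowers (by omega : 1 ≤ m) hxo
      (pow_mem hgx _) hco
    have h6 := Cfsg.Agent.TwoFusion.RankTwoWreath.eq_of_mem_zpowers (by omega : 1 ≤ m) hyo
      (pow_mem hgy _) hco
    rw [hxs] at h5
    rw [hys] at h6
    exact hne (h6.symm.trans h5)
  have hcommA : ∀ a ∈ A, ∀ b ∈ A, a * b = b * a := by
    intro a ha b hb
    have h : (⟨a, ha⟩ : A) * ⟨b, hb⟩ = ⟨b, hb⟩ * ⟨a, ha⟩ := by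
      apply e.injective
      rw [map_mul, map_mul, mul_comm]
    exact congrArg Subtype.val h
  have hxA : x ∈ A := r.2
  have hyA : y ∈ A := hzA x hxA
  have hcardA : Nat.card A = 2 ^ m * 2 ^ m := by
    rw [Nat.card_congr e.toEquiv]
    rw [Nat.card_congr Multiplicative.toAdd, Nat.card_prod, Nat.card_zmod]
  have hcardW : Nat.card W = 2 ^ (2 * m + 1) := by
    rw [← relIndex_bot_left W, ← relIndex_mul_relIndex ⊥ A W bot_le hAW, relIndex_bot_left, hcardA, hidx,
      pow_succ, two_mul, pow_add]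
  refine ⟨m, hm, hcardW, ⟨x, hAW hxA⟩, ⟨y, hAW hyA⟩, ⟨z, hz⟩, ?_, ?_, ?_, ?_, ?_⟩
  · rw [Subgroup.orderOf_mk]; exact hxo
  · exact Subtype.ext (hcommA x hxA y hyA)
  · rw [eq_bot_iff_forall]
    rintro ⟨g, hgW⟩ hg
    obtain ⟨⟨i, hi⟩, ⟨j, hj⟩⟩ := mem_inf.1 hg
    apply Subtype.ext
    refine hdisj g ⟨i, ?_⟩ ⟨j, ?_⟩
    · exact congrArg Subtype.val hi
    · exact congrArg Subtype.val hj
  · rw [Subgroup.orderOf_mk]; exact orderOf_eq_prime (by rw [pow_two, hzz]) hz1
  · exact Subtype.ext hy.symm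

/-- (iii), second part: a 3-element normalising `S0` and `A` centralises an element of `S0 - A`, if
`S0 - A` is a coset of `A` and `|A|` is prime to 3. -/
theorem exists_commute [Finite G] {A S0 : Subgroup G} (hAS : A ≤ S0)
    (idxA : ∀ x ∈ S0, x ∉ A → ∀ y ∈ S0, y ∉ A → x * y ∈ A) (exw : ∃ w ∈ S0, w ∉ A) (hA3 : ¬ 3 ∣ Nat.card A)
    {x : G} {k : ℕ} (hx : orderOf x = 3 ^ k) (hxS : ∀ y ∈ S0, x * y * x⁻¹ ∈ S0)
    (hxA : ∀ y ∈ A, x * y * x⁻¹ ∈ A) : ∃ w ∈ S0, w ∉ A ∧ x * w = w * x := by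
  haveI : Fact (Nat.Prime 3) := ⟨Nat.prime_three⟩
  let Ω : Type _ := {w : G // w ∈ S0 ∧ w ∉ A}
  have hxn : ∀ y : G, y ∉ A → x * y * x⁻¹ ∉ A := by
    -- conjugation by `x` is injective on `A`
    intro y hy hmem
    apply hy
    have h1 : A.map (MulAut.conj x).toMonoidHom = A := by
      refine eq_of_le_of_card_ge ?_ (by rw [card_map_of_injective (MulAut.conj x).injective])
      rintro _ ⟨a, ha, rfl⟩
      exact hxA a ha
    rw [← h1] at hmem
    obtain ⟨a, ha, e⟩ := hmem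
    have e' : x * a * x⁻¹ = x * y * x⁻¹ := e
    have h2 : a = y := by
      have := mul_right_cancel e'
      exact mul_left_cancel this
    rw [← h2]
    exact ha
  have hpow : ∀ g ∈ zpowers x, (∀ y ∈ S0, g * y * g⁻¹ ∈ S0) ∧ ∀ y, y ∉ A → g * y * g⁻¹ ∉ A := by
    intro g hg
    obtain ⟨n, rfl⟩ := mem_powers_iff_mem_zpowers.2 hg
    refine ⟨pow_conj_mem hxS n, ?_⟩
    clear hg
    induction n with
    | zero => intro y hy; simpa using hy
    | succ n ih =>
      intro y hy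
      have e : x ^ (n + 1) * y * (x ^ (n + 1))⁻¹ = x ^ n * (x * y * x⁻¹) * (x ^ n)⁻¹ := by rw [pow_succ]; group
      rw [e]
      exact ih _ (hxn y hy)
  let _ : MulAction (zpowers x) Ω :=
    { smul := fun g w => ⟨g * w * (g : G)⁻¹, (hpow g g.2).1 _ w.2.1, (hpow g g.2).2 _ w.2.2⟩
      one_smul := fun w => Subtype.ext (by
        change ((1 : zpowers x) : G) * (w : G) * ((1 : zpowers x) : G)⁻¹ = w
        simp)
      mul_smul := fun g h w => Subtype.ext (by
        change ((g * h : zpowers x) : G) * (w : G) * ((g * h : zpowers x) : G)⁻¹ =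
          (g : G) * ((h : G) * w * (h : G)⁻¹) * (g : G)⁻¹
        rw [coe_mul]
        group) }
  have hcard : Nat.card Ω = Nat.card A := by
    obtain ⟨w, hw, hwA⟩ := exw
    refine Nat.card_congr ⟨fun y => ⟨w * y, idxA w hw hwA y y.2.1 y.2.2⟩,
      fun a => ⟨w⁻¹ * a, mul_mem (inv_mem hw) (hAS a.2), fun h => hwA ?_⟩, ?_, ?_⟩
    · have : w = a * (w⁻¹ * a)⁻¹ := by group
      rw [this]
      exact mul_mem a.2 (inv_mem h)
    · intro y
      exact Subtype.ext (by simp)
    · intro a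
      exact Subtype.ext (by simp)
  have hp : IsPGroup 3 (zpowers x) := by
    rw [IsPGroup.iff_card]
    exact ⟨k, by rw [Nat.card_zpowers, hx]⟩
  obtain ⟨w, hw⟩ := hp.nonempty_fixed_point_of_prime_not_dvd_card Ω (by rw [hcard]; exact hA3)
  refine ⟨w, w.2.1, w.2.2, ?_⟩
  have h1 := congrArg Subtype.val (hw ⟨x, mem_zpowers x⟩)
  have h2 : x * (w : G) * x⁻¹ = w := h1
  calc x * (w : G) = x * w * x⁻¹ * x := by group
    _ = w * x := by rw [h2]

end Cfsg.Agent.GTwoOdd.Core.Homo
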