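import Cfsg.Agent.GTwoOdd.Core.FusionB

/-!
# The fusion lemma [F]
-/

set_option autoImplicit false

namespace Cfsg.Agent.GTwoOdd.Core

open Subgroup Cfsg.Agent.Lib.GoldschmidtFusion

variable {N : Type*} [Group N] [Finite N]

/-- extremal transfer in `K = O²(N)` -/
theorem transfer_in (P : Sylow 2 N) (T : Subgroup N) {u : N} (huK : u ∈ Cfsg.pResidual 2 N) (huP : u ∈ P)
    (huT : u ∉ T) (hu2 : u * u = 1) (hT : ∀ b, b ∈ P → b ∈ Cfsg.pResidual 2 N → b ∉ T → b * u ∈ T)
    (R : Subgroup N) (hR : IsPGroup 2 R) (hRK : R ≤ Cfsg.pResidual 2 N) (hRu : ∀ r ∈ R, r * u = u * r) :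
    ∃ g : N, g * u * g⁻¹ ∈ T ∧ ∀ r ∈ R, g * r * g⁻¹ ∈ P := by
  have : Fact (Nat.Prime 2) := ⟨Nat.prime_two⟩
  set K : Subgroup N := Cfsg.pResidual 2 N with hK
  have hKn : K.Normal := Cfsg.Agent.Transfer.Residual.pResidual_normal 2
  have hres : Cfsg.pResidual 2 K = ⊤ := by
    rw [eq_top_iff]
    have h1 : (K : Set N) ⊆ ((Cfsg.pResidual 2 K).map K.subtype : Subgroup N) := by
      have h2 : K ≤ (Cfsg.pResidual 2 K).map K.subtype := by
        conv_lhs => rw [hK]
        unfold Cfsg.pResidual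
        rw [Subgroup.closure_le]
        intro g hg
        have hgK : g ∈ K := Subgroup.subset_closure hg
        refine ⟨⟨g, hgK⟩, Subgroup.subset_closure ?_, rfl⟩
        change Nat.Coprime (orderOf (⟨g, hgK⟩ : K)) 2
        rw [Subgroup.orderOf_mk]
        exact hg
      exact h2
    intro x _
    obtain ⟨y, hy, hyx⟩ := h1 x.2
    have : y = x := Subtype.ext hyx
    rwa [this] at hy
  set SK : Sylow 2 K := (Lib.SylowNormalInf.isPGroup_subgroupOf P K).toSylow
    (Lib.SylowNormalInf.not_dvd_relIndex P K) with hSK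
  have memSK : ∀ x : K, x ∈ SK ↔ (x : N) ∈ P := fun x => Iff.rfl
  set T' : Subgroup K := T.subgroupOf K ⊓ (SK : Subgroup K) with hT'
  have hidx : T'.relIndex (SK : Subgroup K) = 2 := by
    rw [Subgroup.relIndex_eq_two_iff_exists_notMem_and]
    refine ⟨⟨u, huK⟩, huP, ?_, ?_⟩
    · intro h1
      exact huT h1.1
    · intro b hb
      by_cases hbT : (b : N) ∈ T
      · right
        exact ⟨hbT, hb⟩
      · left
        refine ⟨hT b hb b.2 hbT, ?_⟩
        exact (SK : Subgroup K).mul_mem hb huP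
  obtain ⟨g, hg1, hg2⟩ := SylowSp4.ExtTransfer.exists_extremal SK T' inf_le_right hidx ⟨u, huK⟩
    (Subtype.ext hu2) (fun f => Transfer.ThompsonTransfer.hom_eq_one_of_pResidual_eq_top hres f _)
    (R.subgroupOf K) (hR.comap_of_injective K.subtype K.subtype_injective) (by
      intro r hr
      exact Subtype.ext (hRu r hr))
  refine ⟨g, hg1.1, ?_⟩
  intro r hr
  exact hg2 ⟨r, hRK hr⟩ hr

namespace Conf

variable {S0 A W1 V : Subgroup N}

omit [Finite N] in
/-- an element of a 2-subgroup fixed by `x` gives an involution fixed by `x` -/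
theorem eq_one_of_fixed {P : Subgroup N} (h : Conf P S0 A W1 V) (hP : IsPGroup 2 P) {x : N}
    (hx : ∀ v ∈ V, v ≠ 1 → x * v * x⁻¹ ≠ v) {d : N} (hd : d ∈ A) (hxd : x * d * x⁻¹ = d) : d = 1 := by
  by_contra hd1
  obtain ⟨k, hk⟩ := hP ⟨d, h.A_le_P hd⟩
  have hk' : d ^ 2 ^ k = 1 := by
    have := congrArg Subtype.val hk
    simpa using this
  classical
  have hex : ∃ k, d ^ 2 ^ k = 1 := ⟨k, hk'⟩
  set m := Nat.find hex with hm
  have hm1 : d ^ 2 ^ m = 1 := Nat.find_spec hex
  have hm2 : m ≠ 0 := by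
    intro h3
    rw [h3, pow_zero, pow_one] at hm1
    exact hd1 hm1
  obtain ⟨j, hj⟩ := Nat.exists_eq_succ_of_ne_zero hm2
  have hj1 : d ^ 2 ^ j ≠ 1 := by
    intro h3
    have h4 := Nat.find_min' hex h3
    omega
  have hjV : d ^ 2 ^ j ∈ V := by
    apply h.mem_V_of_A (A.pow_mem hd _)
    rw [← pow_add, ← two_mul, ← pow_succ', ← Nat.succ_eq_add_one, ← hj]
    exact hm1
  apply hx _ hjV hj1
  have h5 : x * d ^ 2 ^ j * x⁻¹ = (x * d * x⁻¹) ^ 2 ^ j := (conj_pow).symm
  rw [h5, hxd]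

/-- if `V` is fused then `A ≤ O²(N)` -/
theorem A_le_residual {P : Sylow 2 N} (h : Conf (P : Subgroup N) S0 A W1 V) (hf : Fused S0 V) :
    A ≤ Cfsg.pResidual 2 N := by
  obtain ⟨x, hxo, hxS, hxV⟩ := hf
  have hKn : (Cfsg.pResidual 2 N).Normal := Cfsg.Agent.Transfer.Residual.pResidual_normal 2
  have hxK : x ∈ Cfsg.pResidual 2 N :=
    Cfsg.Agent.Transfer.Residual.mem_pResidual_of_coprime (Nat.coprime_two_right.2 hxo)
  -- the injective map `a ↦ a (x a⁻¹ x⁻¹)`
  have hmem : ∀ a ∈ A, a * (x * a⁻¹ * x⁻¹) ∈ A := fun a ha => A.mul_mem ha (h.conjA hxS (A.inv_mem ha))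
  let f : A → A := fun a => ⟨a * (x * (a : N)⁻¹ * x⁻¹), hmem a a.2⟩
  have hinj : Function.Injective f := by
    intro a b hab
    have h1 : (a : N) * (x * (a : N)⁻¹ * x⁻¹) = b * (x * (b : N)⁻¹ * x⁻¹) := congrArg Subtype.val hab
    have h2 : (b : N)⁻¹ * a = x * ((b : N)⁻¹ * a) * x⁻¹ := by
      have h3 : (b : N)⁻¹ * (a * (x * (a : N)⁻¹ * x⁻¹)) * (x * a * x⁻¹) =
          (b : N)⁻¹ * (b * (x * (b : N)⁻¹ * x⁻¹)) * (x * a * x⁻¹) := by rw [h1]
      have h4 : (b : N)⁻¹ * (a * (x * (a : N)⁻¹ * x⁻¹)) * (x * a * x⁻¹) = (b : N)⁻¹ * a := by group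
      have h5 : (b : N)⁻¹ * (b * (x * (b : N)⁻¹ * x⁻¹)) * (x * a * x⁻¹) = x * ((b : N)⁻¹ * a) * x⁻¹ := by group
      rw [h4, h5] at h3
      exact h3
    have h3 := h.eq_one_of_fixed P.isPGroup' (fun v hv hv1 => (hxV v hv hv1).2)
      (A.mul_mem (A.inv_mem b.2) a.2) h2.symm
    apply Subtype.ext
    exact (inv_mul_eq_one.1 h3).symm
  have hsurj : Function.Surjective f := Finite.surjective_of_injective hinj
  intro a ha
  obtain ⟨b, hb⟩ := hsurj ⟨a, ha⟩
  have h1 : (b : N) * (x * (b : N)⁻¹ * x⁻¹) = a := congrArg Subtype.val hb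
  rw [← h1]
  have h2 : (b : N) * (x * (b : N)⁻¹ * x⁻¹) = ((b : N) * x * (b : N)⁻¹) * x⁻¹ := by group
  rw [h2]
  exact Subgroup.mul_mem _ (hKn.conj_mem x hxK b) (Subgroup.inv_mem _ hxK)

/-- no elementary abelian group `V⟨w⟩`, `w ∉ V` centralising `V`, has a conjugate in `W1` -/
theorem not_conj_le_W {P : Subgroup N} (h : Conf P S0 A W1 V) {w g : N} (hw : w ∈ S0) (hwA : w ∉ A)
    (hgw : g * w * g⁻¹ ∈ W1) (hgV : ∀ v ∈ V, g * v * g⁻¹ ∈ W1) : False := by
  classical
  have hw2 := h.inv2 w hw hwA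
  -- the subgroup `E = V ∪ V w`
  let E : Subgroup N :=
    { carrier := {x | ∃ v ∈ V, x = v ∨ x = v * w}
      mul_mem' := by
        rintro x y ⟨v, hv, hx⟩ ⟨v', hv', hy⟩
        have hc : w * v' = v' * w := h.S_cent hw hv'
        rcases hx with rfl | rfl <;> rcases hy with rfl | rfl
        · exact ⟨_, V.mul_mem hv hv', Or.inl rfl⟩
        · exact ⟨_, V.mul_mem hv hv', Or.inr (by group)⟩
        · exact ⟨_, V.mul_mem hv hv', Or.inr (by rw [mul_assoc, hc]; group)⟩
        · refine ⟨_, V.mul_mem hv hv', Or.inl ?_⟩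
          calc v * w * (v' * w) = v * (w * v') * w := by group
            _ = v * (v' * w) * w := by rw [hc]
            _ = v * v' * (w * w) := by group
            _ = v * v' := by rw [hw2, mul_one]
      one_mem' := ⟨1, V.one_mem, Or.inl rfl⟩
      inv_mem' := by
        rintro x ⟨v, hv, hx⟩
        have hc : w * v = v * w := h.S_cent hw hv
        have hwi : w⁻¹ = w := inv_eq_of_mul_eq_one_left hw2
        rcases hx with rfl | rfl
        · exact ⟨_, V.inv_mem hv, Or.inl rfl⟩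
        · refine ⟨v, hv, Or.inr ?_⟩
          rw [mul_inv_rev, hwi, h.invV hv, hc] }
  have hVE : V ≤ E := fun v hv => ⟨v, hv, Or.inl rfl⟩
  have hwE : w ∈ E := ⟨1, V.one_mem, Or.inr (by group)⟩
  have hEsq : ∀ x ∈ E, x * x = 1 := by
    rintro x ⟨v, hv, hx⟩
    have hc : w * v = v * w := h.S_cent hw hv
    rcases hx with rfl | rfl
    · exact h.sqV hv
    · calc v * w * (v * w) = v * (w * v) * w := by group
        _ = v * (v * w) * w := by rw [hc]
        _ = (v * v) * (w * w) := by group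
        _ = 1 := by rw [hw2, h.sqV hv, mul_one]
  have hlt : Nat.card V < Nat.card E := by
    refine lt_of_le_of_ne (Subgroup.card_le_of_le hVE) ?_
    intro hcard
    have h1 : V = E := Subgroup.eq_of_le_of_card_ge hVE hcard.ge
    apply hwA
    apply h.V_le
    rw [h1]
    exact hwE
  have h2 := h.rankW (E.map (MulAut.conj g).toMonoidHom) (by
    rintro _ ⟨x, ⟨v, hv, hx⟩, rfl⟩
    change g * x * g⁻¹ ∈ W1
    rcases hx with rfl | rfl
    · exact hgV _ hv
    · have h3 : g * (v * w) * g⁻¹ = (g * v * g⁻¹) * (g * w * g⁻¹) := by group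
      rw [h3]
      exact W1.mul_mem (hgV _ hv) hgw) (by
    rintro _ ⟨x, hx, rfl⟩
    rw [← map_mul, hEsq x hx, map_one])
  rw [card_map_conj] at h2
  have := h.cardV
  omega

/-- the case `V` fused -/
theorem residual_inf {P : Sylow 2 N} (h : Conf (P : Subgroup N) S0 A W1 V) (h1 : NoThree V)
    (h2 : InW (P : Subgroup N) S0 W1 V) (hf : Fused S0 V) :
    Cfsg.pResidual 2 N ⊓ P = A ∨ (Cfsg.pResidual 2 N ⊓ P = W1 ∧ ∃ x ∈ P, x ∉ S0) := by
  obtain ⟨t, ht, ht1, htP⟩ := h.exists_t
  have hAK := h.A_le_residual hf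
  have htt : t * t = 1 := h.sqV ht
  set K : Subgroup N := Cfsg.pResidual 2 N with hK
  have hAP : A ≤ K ⊓ P := le_inf hAK h.A_le_P
  -- elements of `P` outside `S0` differ by elements of `S0`
  have hquo : ∀ (Q : Subgroup N), (∀ x ∈ (P : Subgroup N), x ∉ Q → ∀ y ∈ (P : Subgroup N), y ∉ Q → x * y ∈ Q) →
      ∀ x ∈ (P : Subgroup N), x ∉ Q → ∀ y ∈ (P : Subgroup N), y ∉ Q → x * y⁻¹ ∈ Q := by
    intro Q hQ x hx hxQ y hy hyQ
    exact hQ x hx hxQ _ (P.inv_mem hy) (fun h3 => hyQ (by simpa using Q.inv_mem h3))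
  -- nothing in `S0 - A` inside `K` unless something outside `S0`
  by_cases hout : ∃ z ∈ P, z ∈ K ∧ z ∉ S0
  · obtain ⟨z, hzP, hzK, hzS⟩ := hout
    by_cases hw : ∃ w ∈ S0, w ∉ A ∧ w ∈ K
    · -- extremal transfer with `T = W1`
      exfalso
      obtain ⟨w, hwS, hwA, hwK⟩ := hw
      have hwW : w ∉ W1 := fun h3 => hwA (h.WS ⟨h3, hwS⟩)
      obtain ⟨g, hg1, hg2⟩ := transfer_in P W1 hwK (h.S_le hwS) hwW (h.inv2 w hwS hwA)
        (fun b hb _ hbW => h.idxW b hb hbW w (h.S_le hwS) hwW) V (P.isPGroup'.to_le h.V_le_P)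
        (h.V_le.trans hAK) (fun r hr => (h.S_cent hwS hr).symm)
      refine h.not_conj_le_W hwS hwA hg1 ?_
      intro v hv
      by_cases hv1 : v = 1
      · rw [hv1]
        have : g * 1 * g⁻¹ = 1 := by group
        rw [this]
        exact W1.one_mem
      obtain ⟨k, hk⟩ := h.conj_of_fused hf hv ht hv1 ht1
      refine h.mem_W_of_conj_t h1 h2 ht ht1 htP (hg2 v hv) (g0 := k * g⁻¹) ?_
      rw [← hk]; group
    · push Not at hw
      by_cases hzW : z ∈ W1
      · right
        refine ⟨le_antisymm ?_ ?_, z, hzP, hzS⟩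
        · intro x hx
          by_cases hxS : x ∈ S0
          · by_cases hxA : x ∈ A
            · exact h.A_le_W hxA
            · exact absurd hx.1 (hw x hxS hxA)
          · have h3 := hquo S0 h.idxS x hx.2 hxS z hzP hzS
            have h4 : x * z⁻¹ ∈ A := by
              by_contra hc
              exact hw _ h3 hc (K.mul_mem hx.1 (K.inv_mem hzK))
            have h5 := W1.mul_mem (h.A_le_W h4) hzW
            simpa using h5
        · intro x hx
          refine ⟨?_, h.W_le hx⟩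
          by_cases hxS : x ∈ S0
          · exact hAK (h.WS ⟨hx, hxS⟩)
          · have h3 := hquo S0 h.idxS x (h.W_le hx) hxS z hzP hzS
            have h4 : x * z⁻¹ ∈ A := h.WS ⟨W1.mul_mem hx (W1.inv_mem hzW), h3⟩
            have h5 := K.mul_mem (hAK h4) hzK
            simpa using h5
      · exfalso
        obtain ⟨u, huP, huS, huW, hu2⟩ := h.exW2 ⟨z, hzP, hzS⟩
        have h3 : u * z⁻¹ ∈ S0 := hquo S0 h.idxS u huP huS z hzP hzS
        have h4 : u * z⁻¹ ∈ W1 := hquo W1 h.idxW u huP huW z hzP hzW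
        have huK : u ∈ K := by
          have h5 := K.mul_mem (hAK (h.WS ⟨h4, h3⟩)) hzK
          simpa using h5
        obtain ⟨g, hg1, -⟩ := transfer_in P A huK huP (fun h5 => huS (h.A_le h5)) hu2 (by
          intro b hb hbK hbA
          by_cases hbS : b ∈ S0
          · exact absurd hbK (hw b hbS hbA)
          · by_contra hc
            exact hw _ (h.idxS b hb hbS u huP huS) hc (K.mul_mem hbK huK)) ⊥ IsPGroup.of_bot bot_le (by
          intro r hr
          rw [Subgroup.mem_bot] at hr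
          rw [hr]; group)
        have hu1 : u ≠ 1 := fun h5 => huS (by rw [h5]; exact S0.one_mem)
        have hgV : g * u * g⁻¹ ∈ V := by
          apply h.mem_V_of_A hg1
          calc g * u * g⁻¹ * (g * u * g⁻¹) = g * (u * u) * g⁻¹ := by group
            _ = 1 := by rw [hu2]; group
        have hg1' : g * u * g⁻¹ ≠ 1 := by
          intro h5
          apply hu1
          have := mul_inv_eq_one.1 h5
          simpa using this
        obtain ⟨k, hk⟩ := h.conj_of_fused hf hgV ht hg1' ht1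
        exact huW (h.mem_W_of_conj_t h1 h2 ht ht1 htP huP (g0 := k * g) (by rw [← hk]; group))
  · push Not at hout
    left
    refine le_antisymm ?_ hAP
    intro w hw
    by_contra hwA
    have hwS : w ∈ S0 := by
      by_contra hc
      exact hc (hout w hw.2 hw.1)
    have hw2 := h.inv2 w hwS hwA
    obtain ⟨g, hg1, -⟩ := transfer_in P A hw.1 hw.2 hwA hw2 (by
      intro b hb hbK hbA
      exact h.idxA b (hout b hb hbK) hbA w hwS hwA) ⊥ IsPGroup.of_bot bot_le (by
      intro r hr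
      rw [Subgroup.mem_bot] at hr
      rw [hr]; group)
    have hw1 : w ≠ 1 := fun h5 => hwA (by rw [h5]; exact A.one_mem)
    have hgV : g * w * g⁻¹ ∈ V := by
      apply h.mem_V_of_A hg1
      calc g * w * g⁻¹ * (g * w * g⁻¹) = g * (w * w) * g⁻¹ := by group
        _ = 1 := by rw [hw2]; group
    have hg1' : g * w * g⁻¹ ≠ 1 := by
      intro h5
      apply hw1
      have := mul_inv_eq_one.1 h5
      simpa using this
    obtain ⟨k, hk⟩ := h.conj_of_fused hf hgV ht hg1' ht1
    exact h.not_conj_t h1 ht ht1 htP hwS hwA (g0 := k * g) (by rw [← hk]; group)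

/-- the case `P > S0`: `t` isolated or `V` fused -/
theorem isolated_or_fused_big {P : Sylow 2 N} (h : Conf (P : Subgroup N) S0 A W1 V) (h1 : NoThree V)
    (hbig : ∃ x ∈ P, x ∉ S0) {t : N} (ht : t ∈ V) (ht1 : t ≠ 1) (htP : ∀ x ∈ P, x * t = t * x) :
    (∀ g : N, g * t * g⁻¹ ∈ P → g * t * g⁻¹ = t) ∨ Fused S0 V := by
  classical
  by_cases hiso : ∀ g : N, g * t * g⁻¹ ∈ P → g * t * g⁻¹ = t
  · exact Or.inl hiso
  right
  push Not at hiso
  obtain ⟨g1, hg1, hg1'⟩ := hiso
  -- `e` with maximal centraliser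
  let X : Set N := {e | e ∈ P ∧ e ≠ t ∧ ∃ g0, g0 * e * g0⁻¹ = t}
  have hXne : X.Nonempty := ⟨g1 * t * g1⁻¹, hg1, hg1', g1⁻¹, by group⟩
  obtain ⟨e, ⟨heP, het, g0, hg0⟩, hmax⟩ := (Set.toFinite X).exists_maximalFor
    (fun e => Nat.card ((P : Subgroup N) ⊓ centralizer ({e} : Set N) : Subgroup N)) X hXne
  have he2 : e * e = 1 := by
    have h2 : e = g0⁻¹ * t * g0 := by rw [← hg0]; group
    calc e * e = (g0⁻¹ * t * g0) * (g0⁻¹ * t * g0) := by rw [← h2]
      _ = g0⁻¹ * (t * t) * g0 := by group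
      _ = 1 := by rw [h.sqV ht]; group
  have he1 : e ≠ 1 := by
    intro h2
    apply ht1
    rw [← hg0, h2]; group
  obtain ⟨x1, hx1, hx1S⟩ := hbig
  have hne : ∃ x ∈ P, x * e ≠ e * x := by
    by_contra hc
    push Not at hc
    have heS : e ∈ S0 := h.cent e heP (fun v hv => (hc v (h.V_le_P hv)).symm)
    have heV := h.mem_V_of_conj_t h1 ht ht1 htP heS hg0
    rcases h.eq_of_comm ht ht1 htP hx1 hx1S heV (hc x1 hx1) with h3 | h3
    · exact he1 h3
    · exact het h3
  have hmax' : ∀ f ∈ X, Nat.card ((P : Subgroup N) ⊓ centralizer ({f} : Set N) : Subgroup N) ≤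
      Nat.card ((P : Subgroup N) ⊓ centralizer ({e} : Set N) : Subgroup N) := by
    intro f hf
    by_contra hc
    push Not at hc
    have := hmax hf hc.le
    exact absurd hc (not_lt.2 this)
  rcases exists_beta P htP hg0 heP hne with ⟨b, hbe, hbt, hb⟩ | ⟨c, hct, hcP, hcard⟩
  · by_cases heS : e ∈ S0
    · have heV := h.mem_V_of_conj_t h1 ht ht1 htP heS hg0
      -- `b` normalises `S0`
      have hbS : ∀ y ∈ S0, b * y * b⁻¹ ∈ S0 := by
        intro y hy
        obtain ⟨h3, h4⟩ := hb y ⟨h.S_le hy, h.S_cent hy heV⟩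
        by_contra hc
        rcases h.eq_of_comm ht ht1 htP h3 hc heV h4 with h5 | h5
        · exact he1 h5
        · exact het h5
      have hbe' : b * e * b⁻¹ = e := by rw [hbe]; group
      have hbt' : b * t * b⁻¹ = t * e := by
        have h3 := h.conjV hbS ht
        rcases h.V_elim ht heV ht1 he1 (Ne.symm het) h3 with h4 | h4 | h4 | h4
        · exfalso
          apply ht1
          have := mul_inv_eq_one.1 h4
          simpa using this
        · exact absurd (mul_inv_eq_iff_eq_mul.1 h4) hbt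
        · exfalso
          have h5 : b * t * b⁻¹ = b * e * b⁻¹ := by rw [h4, hbe']
          exact het (mul_left_cancel (mul_right_cancel h5)).symm
        · exact h4
      have hxt : x1 * t * x1⁻¹ = t := by rw [htP x1 hx1]; group
      have hxe : x1 * e * x1⁻¹ = e * t := h.moves ht ht1 htP hx1 hx1S heV he1 het
      have hcet := h.commV heV ht
      have htt := h.sqV ht
      refine h.fused_of_cycle (x := b * x1) (a := t) (b := t * e) ?_ ht (V.mul_mem ht heV) ht1 ?_ ?_ ?_ ?_ ?_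
      · intro y hy
        have h3 : b * x1 * y * (b * x1)⁻¹ = b * (x1 * y * x1⁻¹) * b⁻¹ := by group
        rw [h3]
        exact hbS _ (h.P_norm hx1 y hy)
      · intro h3
        apply het
        have := eq_inv_of_mul_eq_one_right h3
        rw [this, h.invV ht]
      · intro h3
        exact he1 (by simpa using h3.symm)
      · calc b * x1 * t * (b * x1)⁻¹ = b * (x1 * t * x1⁻¹) * b⁻¹ := by group
          _ = t * e := by rw [hxt, hbt']
      · calc b * x1 * (t * e) * (b * x1)⁻¹ = b * ((x1 * t * x1⁻¹) * (x1 * e * x1⁻¹)) * b⁻¹ := by group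
          _ = b * (t * (e * t)) * b⁻¹ := by rw [hxt, hxe]
          _ = b * (t * (t * e)) * b⁻¹ := by rw [hcet]
          _ = b * e * b⁻¹ := by rw [← mul_assoc t t e, htt, one_mul]
          _ = t * (t * e) := by rw [hbe', ← mul_assoc, htt, one_mul]
      · calc b * x1 * (t * (t * e)) * (b * x1)⁻¹ = b * (x1 * ((t * t) * e) * x1⁻¹) * b⁻¹ := by group
          _ = b * (x1 * e * x1⁻¹) * b⁻¹ := by rw [htt, one_mul]
          _ = b * (e * t) * b⁻¹ := by rw [hxe]
          _ = (b * e * b⁻¹) * (b * t * b⁻¹) := by group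
          _ = e * (t * e) := by rw [hbe', hbt']
          _ = t * (e * e) := by rw [← mul_assoc, hcet, mul_assoc]
          _ = t := by rw [he2, mul_one]
    · exact (hbt (h.fix_of_outside P.isPGroup' ht ht1 htP heP heS he2 hb)).elim
  · exfalso
    have h3 := hmax' (c * e * c⁻¹) ⟨hcP, ?_, g0 * c⁻¹, by rw [← hg0]; group⟩
    · exact absurd hcard (not_lt.2 h3)
    · intro h4
      apply het
      have h5 : c * t * c⁻¹ = t := by rw [hct]; group
      have h6 : c * e * c⁻¹ = c * t * c⁻¹ := by rw [h4, h5]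
      exact mul_left_cancel (mul_right_cancel h6)

/-- the case `P = S0` -/
theorem isolated_or_fused_small {P : Sylow 2 N} (h : Conf (P : Subgroup N) S0 A W1 V) (h1 : NoThree V)
    (hsm : ∀ x ∈ P, x ∈ S0) {t : N} (ht : t ∈ V) (ht1 : t ≠ 1) :
    (∀ g : N, g * t * g⁻¹ ∈ P → g * t * g⁻¹ = t) ∨ Fused S0 V := by
  have : Fact (Nat.Prime 2) := ⟨Nat.prime_two⟩
  by_cases hiso : ∀ g : N, g * t * g⁻¹ ∈ P → g * t * g⁻¹ = t
  · exact Or.inl hiso
  right
  push Not at hiso
  obtain ⟨g1, hg1, hg1'⟩ := hiso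
  have hcent : ∀ v ∈ V, ∀ x ∈ P, x * v = v * x := fun v hv x hx => h.S_cent (hsm x hx) hv
  set e := g1 * t * g1⁻¹ with hed
  have hg0 : g1⁻¹ * e * g1⁻¹⁻¹ = t := by rw [hed]; group
  have heV : e ∈ V := h.mem_V_of_conj_t h1 ht ht1 (hcent t ht) (hsm e hg1) hg0
  have he1 : e ≠ 1 := by
    intro h2
    apply ht1
    rw [← hg0, h2]; group
  obtain ⟨g, hg, hgP⟩ := exists_align P (hcent t ht) hg0 (P : Subgroup N) P.isPGroup' (hcent e heV)
  have hgS : ∀ y ∈ S0, g * y * g⁻¹ ∈ S0 := fun y hy => hsm _ (hgP y (h.S_le hy))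
  have hte : t ≠ e := fun h3 => hg1' h3.symm
  -- `g t g⁻¹` is `e` or `t e`
  have h3 := h.conjV hgS ht
  have ne1 : g * t * g⁻¹ ≠ 1 := by
    intro h4
    apply ht1
    have := mul_inv_eq_one.1 h4
    simpa using this
  have net : g * t * g⁻¹ ≠ t := by
    intro h4
    have h5 : g * t * g⁻¹ = g * e * g⁻¹ := by rw [h4, hg]
    exact hte (mul_left_cancel (mul_right_cancel h5))
  have hcet := h.commV heV ht
  have htt := h.sqV ht
  have hee := h.sqV heV
  rcases h.V_elim ht heV ht1 he1 hte h3 with h4 | h4 | h4 | h4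
  · exact absurd h4 ne1
  · exact absurd h4 net
  · -- `g` swaps `t` and `e`: impossible
    exfalso
    -- `g ^ m` with `m` odd, a 2-element
    obtain ⟨k, m, hm, hk⟩ := Nat.exists_eq_pow_mul_and_not_dvd (orderOf_pos g).ne' 2 (by norm_num)
    have hmo : Odd m := by
      rw [← Nat.not_even_iff_odd, even_iff_two_dvd]; exact hm
    set z := g ^ m with hz
    have hzS : ∀ j : ℕ, ∀ y ∈ P, g ^ j * y * (g ^ j)⁻¹ ∈ P := by
      intro j
      induction j with
      | zero => intro y hy; simpa using hy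
      | succ j ih =>
        intro y hy
        have h5 : g ^ (j + 1) * y * (g ^ (j + 1))⁻¹ = g * (g ^ j * y * (g ^ j)⁻¹) * g⁻¹ := by
          rw [pow_succ']; group
        rw [h5]
        exact hgP _ (ih y hy)
    have hzN : z ∈ normalizer ((P : Subgroup N) : Set N) := by
      rw [mem_normalizer_iff_map_conj]
      apply map_conj_le_of_le_normalizer
      rintro _ ⟨y, hy, rfl⟩
      exact hzS m y hy
    have hz2 : IsPGroup 2 (zpowers z) := by
      rw [IsPGroup.iff_card]
      refine ⟨k, ?_⟩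
      rw [Nat.card_zpowers, hz, orderOf_pow_of_dvd (by intro h5; rw [h5] at hm; simp at hm)
        (by rw [hk]; exact dvd_mul_left _ _), hk]
      exact Nat.mul_div_cancel _ (Nat.pos_of_ne_zero (by intro h5; rw [h5] at hm; simp at hm))
    have hzP : z ∈ P := by
      have h5 : zpowers z ≤ normalizer ((P : Subgroup N) : Set N) := by
        rw [zpowers_le]; exact hzN
      have h6 : IsPGroup 2 ((P : Subgroup N) ⊔ zpowers z : Subgroup N) :=
        IsPGroup.to_sup_of_normal_left' P.isPGroup' hz2 h5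
      have h7 := P.is_maximal' h6 le_sup_left
      rw [← SetLike.mem_coe, ← Sylow.coe_coe, ← h7]
      exact (le_sup_right : zpowers z ≤ _) (mem_zpowers z)
    have hzt : z * t * z⁻¹ = t := by rw [hcent t ht z hzP]; group
    -- `g ^ (2 j + 1)` swaps `t` and `e`
    have hodd : ∀ j : ℕ, g ^ (2 * j + 1) * t * (g ^ (2 * j + 1))⁻¹ = e := by
      intro j
      induction j with
      | zero => simpa using h4
      | succ j ih =>
        have h5 : g ^ (2 * (j + 1) + 1) * t * (g ^ (2 * (j + 1) + 1))⁻¹ =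
            g * (g * (g ^ (2 * j + 1) * t * (g ^ (2 * j + 1))⁻¹) * g⁻¹) * g⁻¹ := by
          rw [show 2 * (j + 1) + 1 = 1 + (1 + (2 * j + 1)) by ring, pow_add, pow_add, pow_one]
          group
        rw [h5, ih, hg, h4]
    obtain ⟨j, hj⟩ := hmo
    rw [hz, hj, hodd j] at hzt
    exact hte hzt.symm
  · -- `g : e ↦ t ↦ t e ↦ e`
    refine h.fused_of_cycle (x := g) (a := t) (b := t * e) hgS ht (V.mul_mem ht heV) ht1 ?_ ?_ h4 ?_ ?_
    · intro h5
      apply hte
      have := eq_inv_of_mul_eq_one_left h5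
      rwa [h.invV heV] at this
    · intro h5
      exact he1 (by simpa using h5.symm)
    · calc g * (t * e) * g⁻¹ = (g * t * g⁻¹) * (g * e * g⁻¹) := by group
        _ = t * e * t := by rw [h4, hg]
        _ = t * (t * e) := by rw [mul_assoc, hcet]
    · rw [← mul_assoc t t e, htt, one_mul, hg]

/-- **Fusion lemma [F].** -/
theorem fusion (P : Sylow 2 N) {S0 A W1 V : Subgroup N} (h : Conf (P : Subgroup N) S0 A W1 V)
    (h1 : NoThree V) (h2 : InW (P : Subgroup N) S0 W1 V) : FusionOut (P : Subgroup N) S0 A W1 V := by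
  have : Fact (Nat.Prime 2) := ⟨Nat.prime_two⟩
  obtain ⟨t, ht, ht1, htP⟩ := h.exists_t
  have hcase : (∀ g : N, g * t * g⁻¹ ∈ P → g * t * g⁻¹ = t) ∨ Fused S0 V := by
    by_cases hbig : ∃ x ∈ P, x ∉ S0
    · exact h.isolated_or_fused_big h1 hbig ht ht1 htP
    · push Not at hbig
      exact h.isolated_or_fused_small h1 hbig ht ht1
  rcases hcase with hiso | hf
  · exact Or.inl ⟨t, ht, ht1, htP, hiso⟩
  · right
    refine ⟨hf, Cfsg.pResidual 2 N, Cfsg.Agent.Transfer.Residual.pResidual_normal 2,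
      Cfsg.Agent.Transfer.Residual.exists_index_pResidual_eq_pow 2, ?_, h.residual_inf h1 h2 hf⟩
    intro H hH
    have hHn : H.Normal := Subgroup.normal_of_index_eq_two hH
    have h3 : Cfsg.pResidual 2 (Cfsg.pResidual 2 N) ≤ H := by
      apply Cfsg.Agent.Transfer.Residual.pResidual_le_of_isPGroup_quotient
      rw [IsPGroup.iff_card]
      exact ⟨1, by rw [pow_one]; exact hH⟩
    have h4 : H = ⊤ := by
      rw [eq_top_iff]
      refine le_trans ?_ h3
      intro x _
      have h5 : Cfsg.pResidual 2 N ≤ (Cfsg.pResidual 2 (Cfsg.pResidual 2 N)).map (Cfsg.pResidual 2 N).subtype := by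
        conv_lhs => unfold Cfsg.pResidual
        rw [Subgroup.closure_le]
        intro g hg
        have hgK : g ∈ Cfsg.pResidual 2 N := Subgroup.subset_closure hg
        refine ⟨⟨g, hgK⟩, Subgroup.subset_closure ?_, rfl⟩
        change Nat.Coprime (orderOf (⟨g, hgK⟩ : Cfsg.pResidual 2 N)) 2
        rw [Subgroup.orderOf_mk]
        exact hg
      obtain ⟨y, hy, hyx⟩ := h5 x.2
      have : y = x := Subtype.ext hyx
      rwa [this] at hy
    rw [h4, Subgroup.index_top] at hH
    norm_num at hH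

end Conf

end Cfsg.Agent.GTwoOdd.Core
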