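import Cfsg.Agent.GTwoOdd.Core.OddLoc
import Cfsg.Agent.GTwoOdd.Core.Fusion
import Cfsg.Agent.GTwoOdd.Core.Concl

/-!
# The pushing-up step `push` of the transitivity theorem

`ConfHyp S0 A V`: the Sylow 2-structure of the subgroups `N ≥ S0`.
`Base V A S0 T r`: the data of the pushing-up step, with an element of order `r` in the torus of every `v ∈ V#`.
`Base.push`: for an `r`-group `D ≥ T` normalised by `S0`, every `S0`-invariant `r`-subgroup of `N(D)` lies in
`O(N(D))`.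
-/

set_option autoImplicit false

namespace Cfsg.Agent.GTwoOdd.Core.Push

open Subgroup
open Cfsg.Agent.GTwoOdd.Core.OddG Cfsg.Agent.GTwoOdd.Core.Trans Cfsg.Agent.GTwoOdd.Core.OddLoc
open Cfsg.Agent.TwoFusion.ClosedFam (core)

universe u

section defs

variable {G : Type*} [Group G]

/-- the Sylow 2-structure of the subgroups containing `S0` -/
def ConfHyp (S₀ A V : Subgroup G) : Prop :=
  ∀ N : Subgroup G, S₀ ≤ N → ∃ P : Sylow 2 N,
    ((∀ x ∈ (P : Subgroup N), x ∈ S₀.subgroupOf N) →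
      Conf (P : Subgroup N) (S₀.subgroupOf N) (A.subgroupOf N) (A.subgroupOf N) (V.subgroupOf N)) ∧
    ((∃ x ∈ (P : Subgroup N), x ∉ S₀.subgroupOf N) → ∃ t ∈ V, t ≠ 1 ∧
      (∀ x ∈ (P : Subgroup N), (x : G) * t = t * x) ∧
      ∀ (F1 F2 : Type) [Field F1] [Field F2] [Finite F1] [Finite F2] (L : LocalSL (tt t) F1 F2), L.Hyp →
        (∃ W1 : Subgroup N, Conf (P : Subgroup N) (S₀.subgroupOf N) (A.subgroupOf N) W1 (V.subgroupOf N) ∧
          Cfsg.IsWreathed W1 ∧ ∀ x ∈ (P : Subgroup N), (x : G) ∈ pre t L.e1.range → x ∈ W1) ∧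
        (∃ W1 : Subgroup N, Conf (P : Subgroup N) (S₀.subgroupOf N) (A.subgroupOf N) W1 (V.subgroupOf N) ∧
          Cfsg.IsWreathed W1 ∧ ∀ x ∈ (P : Subgroup N), (x : G) ∈ pre t L.e2.range → x ∈ W1))

/-- an element of order `r` in the torus of `V` at `v` -/
def TorR (V : Subgroup G) (r : ℕ) (v : G) : Prop :=
  ∃ (F1 F2 : Type) (_ : Field F1) (_ : Field F2) (_ : Finite F1) (_ : Finite F2) (L : LocalSL (tt v) F1 F2),
    L.Hyp ∧ ∃ u ∈ V, ∃ huv : u ∈ centralizer ({v} : Set G), u ≠ 1 ∧ u ≠ v ∧ ∃ c : XX v,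
      (∃ A B, L.Rep c A B) ∧ c ^ r = 1 ∧ c ≠ 1 ∧ c * bar v ⟨u, huv⟩ = bar v ⟨u, huv⟩ * c

theorem TorR.loc {V : Subgroup G} {r : ℕ} {v : G} (h : TorR V r v) : LocHyp v := by
  obtain ⟨F1, F2, i1, i2, i3, i4, L, H, -⟩ := h
  exact ⟨F1, F2, i1, i2, i3, i4, L, H⟩

/-- the data of the pushing-up step -/
structure Base (V A S₀ T : Subgroup G) (r : ℕ) : Prop where
  two : IsPGroup 2 S₀
  prime : r.Prime
  odd : r ≠ 2
  V_le : V ≤ S₀
  A_le : A ≤ S₀
  le_cent : S₀ ≤ centralizer (V : Set G)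
  V2 : ∀ v ∈ V, v * v = 1
  four : ∀ u ∈ V, ∀ v ∈ V, ∀ u' ∈ V, u ≠ 1 → v ≠ 1 → u ≠ v → u' = 1 ∨ u' = v ∨ u' = u ∨ u' = u * v
  root : ∀ v ∈ V, ∃ c ∈ A, c * c = v
  exw : ∃ w ∈ S₀, ∀ a ∈ A, w * a * w⁻¹ = a⁻¹
  hW : ∀ x ∈ centralizer (V : Set G), Odd (orderOf x) → x ∈ coreC V
  T_syl : SylIn r T (coreC V)
  T_norm : S₀ ≤ normalizer (T : Set G)
  tor : ∀ v ∈ V, v ≠ 1 → TorR V r v

theorem coreC_le (V : Subgroup G) : coreC V ≤ centralizer (V : Set G) := map_subtype_le _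

theorem coreC_norm (V : Subgroup G) {c u : G} (hc : c ∈ centralizer (V : Set G)) (hu : u ∈ coreC V) :
    c * u * c⁻¹ ∈ coreC V := by
  obtain ⟨u, hu, rfl⟩ := hu
  exact ⟨⟨c, hc⟩ * u * ⟨c, hc⟩⁻¹, (Lib.Cores.pPrimeCore_normal 2).conj_mem _ hu _, rfl⟩

end defs

namespace Base

variable {G : Type*} [Group G] [Finite G] {V A S₀ T : Subgroup G} {r : ℕ} (h : Base V A S₀ T r)
include h

set_option linter.unusedSectionVars false

theorem S_cent {v : G} (hv : v ∈ V) : S₀ ≤ centralizer ({v} : Set G) :=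
  h.le_cent.trans (centralizer_le (Set.singleton_subset_iff.2 hv))

theorem V_cent {v : G} (hv : v ∈ V) : V ≤ centralizer ({v} : Set G) := h.V_le.trans (h.S_cent hv)

theorem T_cent : T ≤ centralizer (V : Set G) := h.T_syl.le.trans (coreC_le V)

theorem odd_of_pgroup {D : Subgroup G} (hD : IsPGroup r D) : Odd (Nat.card D) := by
  have : Fact r.Prime := ⟨h.prime⟩
  obtain ⟨k, hk⟩ := IsPGroup.iff_card.1 hD
  rw [hk]
  exact (h.prime.odd_of_ne_two h.odd).pow

theorem hone {v : G} (hv : v ∈ V) (hv1 : v ≠ 1) {Y : Subgroup G} (hY : IsPGroup r Y)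
    (hYv : Y ≤ centralizer ({v} : Set G)) (hN : S₀ ≤ normalizer (Y : Set G)) :
    Y ≤ Cfsg.centralizerPPrimeCore 2 v ⊔ coreC V := by
  obtain ⟨w, hw, hinv⟩ := h.exw
  exact OddG.hone h.two h.V_le h.A_le h.le_cent h.V2 h.root hw hinv h.hW hv (h.tor v hv hv1).loc
    (h.odd_of_pgroup hY) hYv hN

/-- `D ∩ C(v) ≤ O_v T` -/
theorem inf_le {D : Subgroup G} (hD : IsPGroup r D) (hTD : T ≤ D) (hS : S₀ ≤ normalizer (D : Set G)) {v : G}
    (hv : v ∈ V) (hv1 : v ≠ 1) :
    D ⊓ centralizer ({v} : Set G) ≤ Cfsg.centralizerPPrimeCore 2 v ⊔ T := by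
  have : Fact r.Prime := ⟨h.prime⟩
  have hS₀v := h.S_cent hv
  have hCV : coreC V ≤ centralizer ({v} : Set G) :=
    (coreC_le V).trans (centralizer_le (Set.singleton_subset_iff.2 hv))
  have hYr : IsPGroup r (D ⊓ centralizer ({v} : Set G) : Subgroup G) := hD.to_le inf_le_left
  have h1 : D ⊓ centralizer ({v} : Set G) ≤ Cfsg.centralizerPPrimeCore 2 v ⊔ coreC V := by
    refine h.hone hv hv1 hYr inf_le_right (Trans.le_normalizer_of fun b hb u hu => ?_)
    exact mem_inf.2 ⟨conj_mem_of hS b hb u (mem_inf.1 hu).1,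
      mul_mem (mul_mem (hS₀v hb) (mem_inf.1 hu).2) (inv_mem (hS₀v hb))⟩
  set Y : Subgroup G := D ⊓ centralizer ({v} : Set G) with hY
  set O : Subgroup G := Cfsg.centralizerPPrimeCore 2 v with hO
  have hTY : T ≤ Y := le_inf hTD (h.T_cent.trans (centralizer_le (Set.singleton_subset_iff.2 hv)))
  have hYn : Y ≤ normalizer (O : Set G) :=
    Trans.le_normalizer_of fun b hb u hu => core_norm (mem_inf.1 hb).2 hu
  have hWn : coreC V ≤ normalizer (O : Set G) :=
    Trans.le_normalizer_of fun b hb u hu => core_norm (hCV hb) hu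
  have hX : SylIn r T ((O ⊔ Y) ⊓ coreC V) :=
    h.T_syl.of_le (le_inf (hTY.trans le_sup_right) h.T_syl.le) inf_le_right
  have h2 : (O ⊔ Y) ⊓ coreC V ≤ O ⊔ T :=
    le_sup_of_sylow hX (inf_le_right.trans hWn) fun x hx => pow_mem_of_mem_sup hYn hYr (mem_inf.1 hx).1
  intro y hy
  obtain ⟨o, ho, w, hw, e⟩ := exists_mul_of_mem_sup hWn (h1 hy)
  have hw' : w = o⁻¹ * y := by rw [e, inv_mul_cancel_left]
  have h3 : w ∈ O ⊔ T := h2 (mem_inf.2 ⟨by
    rw [hw']
    exact mul_mem (inv_mem (mem_sup_left ho)) (mem_sup_right hy), hw⟩)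
  rw [e]
  exact mul_mem (mem_sup_left ho) h3

/-- `D ∩ C(V) = T` -/
theorem inf_eq {D : Subgroup G} (hD : IsPGroup r D) (hTD : T ≤ D) : D ⊓ centralizer (V : Set G) = T := by
  have hle : D ⊓ centralizer (V : Set G) ≤ coreC V := by
    intro x hx
    refine h.hW x hx.2 ?_
    have h1 := Subgroup.orderOf_dvd_natCard D hx.1
    exact (h.odd_of_pgroup hD).of_dvd_nat h1
  exact (sylIn_iff.1 h.T_syl).2.2 _ hle (hD.to_le inf_le_left) (le_inf hTD h.T_cent)

/-- **H3** -/
theorem mem_of_cent {D : Subgroup G} (hD : IsPGroup r D) (hTD : T ≤ D) {x : G} (hx : x ∈ normalizer (D : Set G))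
    (hxV : x ∈ centralizer (V : Set G)) {k : ℕ} (hk : x ^ r ^ k = 1) : x ∈ T := by
  have : Fact r.Prime := ⟨h.prime⟩
  -- `x` normalises `T = D ∩ C(V)`
  have hxT : zpowers x ≤ normalizer (T : Set G) := by
    rw [zpowers_le, ← h.inf_eq hD hTD, Subgroup.mem_normalizer_iff]
    intro y
    constructor
    · rintro ⟨h1, h2⟩
      exact ⟨(mem_normalizer_iff.1 hx y).1 h1, Subgroup.mul_mem _ (Subgroup.mul_mem _ hxV h2) (Subgroup.inv_mem _ hxV)⟩
    · rintro ⟨h1, h2⟩
      refine ⟨(mem_normalizer_iff.1 hx y).2 h1, ?_⟩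
      have h3 := Subgroup.mul_mem _ (Subgroup.mul_mem _ (Subgroup.inv_mem _ hxV) h2) hxV
      have e : x⁻¹ * (x * y * x⁻¹) * x = y := by group
      rwa [e] at h3
  have hxp : IsPGroup r (zpowers x) := by
    intro z
    obtain ⟨j, hj⟩ := mem_zpowers_iff.1 z.2
    refine ⟨k, Subtype.ext ?_⟩
    rw [SubmonoidClass.coe_pow, ← hj, ← zpow_natCast, ← zpow_mul, mul_comm, zpow_mul, zpow_natCast, hk, one_zpow]
    rfl
  have h4 : IsPGroup r (T ⊔ zpowers x : Subgroup G) := by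
    rw [sup_comm]
    exact IsPGroup.to_sup_of_normal_right' hxp h.T_syl.isPGroup hxT
  have hxW : x ∈ coreC V := by
    refine h.hW x hxV ?_
    have h5 : orderOf x ∣ r ^ k := orderOf_dvd_of_pow_eq_one hk
    exact ((h.prime.odd_of_ne_two h.odd).pow (n := k)).of_dvd_nat h5
  have h5 := (sylIn_iff.1 h.T_syl).2.2 (T ⊔ zpowers x) (sup_le h.T_syl.le (by rwa [zpowers_le])) h4 le_sup_left
  rw [← h5]
  exact mem_sup_right (mem_zpowers x)

/-- **H4** in `G`: `C_Y(v) ≤ (O_v ∩ N(D)) T` -/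
theorem cent_le {D Y : Subgroup G} (hD : IsPGroup r D) (hTD : T ≤ D) (hS : S₀ ≤ normalizer (D : Set G))
    (hY : IsPGroup r Y) (hYD : Y ≤ normalizer (D : Set G)) (hYS : S₀ ≤ normalizer (Y : Set G)) {v : G}
    (hv : v ∈ V) (hv1 : v ≠ 1) {y : G} (hy : y ∈ Y) (hyv : y ∈ centralizer ({v} : Set G)) :
    ∃ o ∈ Cfsg.centralizerPPrimeCore 2 v ⊓ normalizer (D : Set G), ∃ τ ∈ T, y = o * τ := by
  have : Fact r.Prime := ⟨h.prime⟩
  have hE : IsPGroup r (D ⊔ Y : Subgroup G) := by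
    rw [sup_comm]
    exact IsPGroup.to_sup_of_normal_right' hY hD hYD
  have hES : S₀ ≤ normalizer ((D ⊔ Y : Subgroup G) : Set G) := by
    refine Trans.le_normalizer_of fun b hb u hu => ?_
    obtain ⟨x, hx, z, hz, rfl⟩ := exists_mul_of_mem_sup hYD hu
    have e : b * (x * z) * b⁻¹ = (b * x * b⁻¹) * (b * z * b⁻¹) := by group
    rw [e]
    exact mul_mem (mem_sup_left (conj_mem_of hS b hb x hx)) (mem_sup_right (conj_mem_of hYS b hb z hz))
  have h1 := h.inf_le hE (hTD.trans le_sup_left) hES hv hv1 ⟨mem_sup_right hy, hyv⟩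
  have hTv : T ≤ centralizer ({v} : Set G) := h.T_cent.trans (centralizer_le (Set.singleton_subset_iff.2 hv))
  have hTn : T ≤ normalizer (Cfsg.centralizerPPrimeCore 2 v : Set G) :=
    Trans.le_normalizer_of fun b hb u hu => core_norm (hTv hb) hu
  obtain ⟨o, ho, τ, hτ, e⟩ := exists_mul_of_mem_sup hTn h1
  refine ⟨o, ⟨ho, ?_⟩, τ, hτ, e⟩
  have h2 : o = y * τ⁻¹ := by rw [e, mul_inv_cancel_right]
  rw [h2]
  exact Subgroup.mul_mem _ (hYD hy) (Subgroup.inv_mem _ (le_normalizer (hTD hτ)))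

omit h [Finite G] in
theorem cent_subgroupOf {N : Subgroup G} {H : Subgroup G} (hH : H ≤ N) {x : N} :
    x ∈ centralizer (H.subgroupOf N : Set N) ↔ (x : G) ∈ centralizer (H : Set G) := by
  rw [mem_centralizer_iff, mem_centralizer_iff]
  constructor
  · intro h1 g hg
    exact congrArg Subtype.val (h1 ⟨g, hH hg⟩ hg)
  · intro h1 g hg
    exact Subtype.ext (h1 g hg)

end Base

/-- **The pushing-up step** -/
theorem Base.push {G : Type u} [Group G] [Finite G] {V A S₀ T : Subgroup G} {r : ℕ} (h : Base V A S₀ T r)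
    (H5 : Concl.WrHyp.{u}) (hconf : ConfHyp S₀ A V) {m : ℕ} (hm : 2 ≤ m)
    (eA : A ≃* Multiplicative (ZMod (2 ^ m) × ZMod (2 ^ m))) (D : Subgroup G) (hD : IsPGroup r D) (hTD : T ≤ D)
    (hS : S₀ ≤ normalizer (D : Set G)) (Y : Subgroup G) (hY : IsPGroup r Y) (hYD : Y ≤ normalizer (D : Set G))
    (hYS : S₀ ≤ normalizer (Y : Set G)) : Y ≤ core (normalizer (D : Set G)) := by
  have hrf : Fact r.Prime := ⟨h.prime⟩
  set N : Subgroup G := normalizer (D : Set G) with hN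
  have hVN : V ≤ N := h.V_le.trans hS
  have hAN : A ≤ N := h.A_le.trans hS
  obtain ⟨P, hsmall, hbig⟩ := hconf N hS
  -- the image of `T` meets `L1` or `L2`
  have himg : ∀ v ∈ V, v ≠ 1 → ∃ (F1 F2 : Type) (_ : Field F1) (_ : Field F2) (_ : Finite F1) (_ : Finite F2)
      (L : LocalSL (tt v) F1 F2), L.Hyp ∧
      ((∃ c ∈ img v T L.e1.range, c ≠ 1) ∨ (∃ c ∈ img v T L.e2.range, c ≠ 1)) := by
    intro v hv hv1
    obtain ⟨F1, F2, i1, i2, i3, i4, L, H, u, hu, huv, hu1, hne, c, hc, hcr, hc1, hcu⟩ := h.tor v hv hv1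
    exact ⟨F1, F2, i1, i2, i3, i4, L, H, exists_img H h.odd (h.two.to_le h.V_le) hv hv1 (h.V_cent hv) h.V2
      (fun u hu u' hu' hu1 huv => h.four u hu v hv u' hu' hu1 hv1 huv) h.hW h.T_syl hu hu1 hne hc hcr hc1 hcu⟩
  -- NoThree
  have hno : NoThree (V.subgroupOf N) := by
    intro v hv hv1 g z z' hg hz hz' h1 h2 _ h3 h4
    obtain ⟨F1, F2, _, _, _, _, L, H, hex⟩ := himg v hv (fun e => hv1 (Subtype.ext e))
    have hc : ∀ x : N, x * v = v * x → (x : G) ∈ centralizer ({(v : G)} : Set G) := fun x hx =>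
      mem_centralizer_singleton_iff.2 (congrArg Subtype.val hx)
    have key := noThree H h.prime h.odd hD
      (hex.imp (fun ⟨c, hc, hc1⟩ => ⟨c, img_mono hTD hc, hc1⟩) (fun ⟨c, hc, hc1⟩ => ⟨c, img_mono hTD hc, hc1⟩))
      g.2 z.2 z'.2 (hc g hg) (hc z hz) (hc z' hz') (congrArg Subtype.val h1) (congrArg Subtype.val h2)
      (congrArg Subtype.val h3) (congrArg Subtype.val h4)
    exact Subtype.ext key
  -- the configuration
  have hout : ∃ W1 : Subgroup N, Conf (P : Subgroup N) (S₀.subgroupOf N) (A.subgroupOf N) W1 (V.subgroupOf N) ∧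
      InW (P : Subgroup N) (S₀.subgroupOf N) W1 (V.subgroupOf N) ∧
      ((∃ x ∈ (P : Subgroup N), x ∉ S₀.subgroupOf N) → Cfsg.IsWreathed W1) := by
    by_cases hb : ∃ x ∈ (P : Subgroup N), x ∉ S₀.subgroupOf N
    · obtain ⟨t, ht, ht1, htP, hL⟩ := hbig hb
      obtain ⟨F1, F2, i1, i2, i3, i4, L, H, hex⟩ := himg t ht ht1
      have hDT := h.inf_le hD hTD hS ht ht1
      -- the central involution is unique
      have huniq : ∀ {W1 : Subgroup N},
          Conf (P : Subgroup N) (S₀.subgroupOf N) (A.subgroupOf N) W1 (V.subgroupOf N) →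
          ∀ t' ∈ V.subgroupOf N, t' ≠ 1 → (∀ x ∈ (P : Subgroup N), x * t' = t' * x) → (t' : G) = t := by
        intro W1 hW1 t' ht' ht1' hP'
        by_contra hne
        obtain ⟨x, hx, hxS⟩ := hb
        apply hxS
        refine hW1.cent x hx fun v hv => ?_
        rcases h.four (t' : G) ht' t ht v hv (fun e => ht1' (Subtype.ext e)) ht1 hne with e | e | e | e
        · rw [show v = 1 from Subtype.ext e, mul_one, one_mul]
        · refine Subtype.ext ?_
          rw [Subgroup.coe_mul, Subgroup.coe_mul, e]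
          exact htP x hx
        · rw [show v = t' from Subtype.ext e]
          exact hP' x hx
        · refine Subtype.ext ?_
          have e1 : (x : G) * t' = t' * x := congrArg Subtype.val (hP' x hx)
          rw [Subgroup.coe_mul, Subgroup.coe_mul, e, ← mul_assoc, e1, mul_assoc, htP x hx, mul_assoc]
      have hgen : ∀ {W1 : Subgroup N} {M : Subgroup (XX t)},
          Conf (P : Subgroup N) (S₀.subgroupOf N) (A.subgroupOf N) W1 (V.subgroupOf N) →
          (∀ x ∈ (P : Subgroup N), (x : G) ∈ pre t M → x ∈ W1) →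
          (∀ c ∈ N, c ∈ centralizer ({t} : Set G) → ∀ u ∈ V, c * u * c⁻¹ * u⁻¹ ∈ pre t M) →
          InW (P : Subgroup N) (S₀.subgroupOf N) W1 (V.subgroupOf N) := by
        intro W1 M hW1 hM hc t' ht' ht1' hP' _ c hct v hv hcP
        have e := huniq hW1 t' ht' ht1' hP'
        have hct' : (c : G) ∈ centralizer ({t} : Set G) := by
          rw [mem_centralizer_singleton_iff, ← e]
          exact congrArg Subtype.val hct
        have h1 := hc c c.2 hct' v hv
        have hvP : v ∈ (P : Subgroup N) := hW1.S_le (hW1.A_le (hW1.V_le hv))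
        have h2 : c * v * c⁻¹ * v⁻¹ ∈ W1 := hM _ (mul_mem hcP (inv_mem hvP)) h1
        have h3 : c * v * c⁻¹ = (c * v * c⁻¹ * v⁻¹) * v := by group
        rw [h3]
        exact mul_mem h2 (hW1.A_le_W (hW1.V_le hv))
      obtain ⟨⟨W1, hW1, hw1, hM1⟩, ⟨W2, hW2, hw2, hM2⟩⟩ := hL F1 F2 L H
      rcases hex with ⟨c, hc, hc1⟩ | ⟨c, hc, hc1⟩
      · refine ⟨W2, hW2, hgen hW2 hM2 fun d hd hdt u hu => ?_, fun _ => hw2⟩
        exact inW1 H h.prime h.odd hD h.T_cent ht h.V2 (h.V_cent ht) hDT ⟨c, img_mono hTD hc, hc1⟩ hd hdt hu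
      · refine ⟨W1, hW1, hgen hW1 hM1 fun d hd hdt u hu => ?_, fun _ => hw1⟩
        exact inW2 H h.prime h.odd hD h.T_cent ht h.V2 (h.V_cent ht) hDT ⟨c, img_mono hTD hc, hc1⟩ hd hdt hu
    · push Not at hb
      refine ⟨A.subgroupOf N, hsmall hb, ?_, fun hb' => ?_⟩
      · rintro t _ _ _ ⟨x, hx, hx'⟩
        exact absurd (hb x hx) hx'
      · obtain ⟨x, hx, hx'⟩ := hb'
        exact absurd (hb x hx) hx'
  obtain ⟨W1, hC, hIn, hWr⟩ := hout
  have hf := hC.fusion P hno hIn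
  have eA' : (A.subgroupOf N) ≃* Multiplicative (ZMod (2 ^ m) × ZMod (2 ^ m)) := (subgroupOfEquivOfLe hAN).trans eA
  -- the odd core of `N` contains `D`
  have hDodd := h.odd_of_pgroup hD
  have hDN : D ≤ N := le_normalizer
  have hDnorm : (D.subgroupOf N).Normal := normal_subgroupOf_of_le_normalizer le_rfl
  have hDcore : D.subgroupOf N ≤ Cfsg.pPrimeCore 2 N := by
    refine Lib.Cores.le_pPrimeCore hDnorm (Nat.coprime_two_right.2 ?_)
    rwa [Nat.card_congr (subgroupOfEquivOfLe hDN).toEquiv]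
  have key : Y.subgroupOf N ≤ Cfsg.pPrimeCore 2 N := by
    refine Concl.concl H5 P hC hf hm eA' hWr h.prime h.odd ?_ (Y := Y.subgroupOf N)
      (hY.comap_of_injective _ (Subgroup.subtype_injective _)) ?_ ?_
    · -- H3
      rintro x hx ⟨k, hk⟩
      rw [Base.cent_subgroupOf hVN] at hx
      have h1 := h.mem_of_cent hD hTD x.2 hx (k := k) (by
        have := congrArg Subtype.val hk
        simpa using this)
      exact hDcore (mem_subgroupOf.2 (hTD h1))
    · refine Trans.le_normalizer_of fun b hb u hu => ?_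
      exact mem_subgroupOf.2 (conj_mem_of hYS (b : G) hb (u : G) hu)
    · -- H4
      rintro v hv hv1 y ⟨hyY, hyv⟩
      have hv1' : (v : G) ≠ 1 := fun e => hv1 (Subtype.ext e)
      have hyv' : (y : G) ∈ centralizer ({(v : G)} : Set G) :=
        mem_centralizer_singleton_iff.2 (congrArg Subtype.val (mem_centralizer_singleton_iff.1 hyv))
      obtain ⟨o, ho, τ, hτ, e⟩ := h.cent_le hD hTD hS hY hYD hYS (v := (v : G)) hv hv1' hyY hyv'
      have hτv : τ ∈ centralizer ({(v : G)} : Set G) :=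
        h.T_cent.trans (centralizer_le (Set.singleton_subset_iff.2 hv)) hτ
      have hτN : τ ∈ N := hDN (hTD hτ)
      have hyo : y = (⟨o, ho.2⟩ : N) * ⟨τ, hτN⟩ := Subtype.ext e
      rw [hyo]
      refine mul_mem ?_ ?_
      · rw [Concl.mem_core_iff]
        refine ⟨(Cfsg.centralizerPPrimeCore 2 (v : G)).subgroupOf N, ho.1, ?_, ?_, ?_⟩
        · intro m hm
          exact Subtype.ext (mem_centralizer_singleton_iff.1 (core_le (v : G) hm))
        · intro c hc m hm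
          have hcv : (c : G) ∈ centralizer ({(v : G)} : Set G) :=
            mem_centralizer_singleton_iff.2 (congrArg Subtype.val hc)
          exact core_norm hcv hm
        · exact (core_odd (v : G)).of_dvd_nat (Subgroup.card_comap_dvd_of_injective _ _ N.subtype_injective)
      · rw [Concl.mem_core_iff]
        refine ⟨(D ⊓ centralizer ({(v : G)} : Set G)).subgroupOf N, ⟨hTD hτ, hτv⟩, ?_, ?_, ?_⟩
        · intro m hm
          exact Subtype.ext (mem_centralizer_singleton_iff.1 hm.2)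
        · intro c hc m hm
          have hcv : (c : G) ∈ centralizer ({(v : G)} : Set G) :=
            mem_centralizer_singleton_iff.2 (congrArg Subtype.val hc)
          exact ⟨(mem_normalizer_iff.1 c.2 m).1 hm.1, Subgroup.mul_mem _ (Subgroup.mul_mem _ hcv hm.2) (Subgroup.inv_mem _ hcv)⟩
        · have h6 : Odd (Nat.card (D ⊓ centralizer ({(v : G)} : Set G) : Subgroup G)) :=
            h.odd_of_pgroup (hD.to_le inf_le_left)
          exact h6.of_dvd_nat (Subgroup.card_comap_dvd_of_injective _ _ N.subtype_injective)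
  intro y hy
  refine ⟨⟨y, hYD hy⟩, ?_, rfl⟩
  exact key (mem_subgroupOf.2 hy)

end Cfsg.Agent.GTwoOdd.Core.Push
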