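import Cfsg.Agent.GTwoOdd.Core.ConfBasic
import Cfsg.Agent.GTwoOdd.Weyl

/-!
# The 2-structure of `X = C(t)/O(C(t))`
-/

set_option autoImplicit false

namespace Cfsg.Agent.GTwoOdd.Core

open Subgroup Matrix

/-- Output of the Sylow analysis in `X`: `P` a Sylow 2-subgroup of `X` -/
structure SylX {X : Type*} [Group X] {t : X} {F1 F2 : Type*} [Field F1] [Field F2] (L : LocalSL t F1 F2)
    (P : Subgroup X) (s : X) (x1 : SL2 F1) (x2 : SL2 F2) (n1 : SL2 F1) (n2 : SL2 F2) : Prop where
  F : L.Frame s (x1 : M2 F1) (x2 : M2 F2) n1 n2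
  zero : ∀ x ∈ P, ∃ A B, L.Rep x A B
  s_mem : s ∈ P
  norm : ∀ x ∈ P, x * s * x⁻¹ = s ∨ x * s * x⁻¹ = s * t
  x1_mem : L.e1 x1 ∈ P
  x2_mem : L.e2 x2 ∈ P
  n1_mem : L.e1 n1 ∈ P
  n2_mem : L.e2 n2 ∈ P

/-- a four-group with given generators -/
def fourV {X : Type*} [Group X] (t s : X) (ht : t * t = 1) (hs : s * s = 1) (hst : s * t = t * s) : Subgroup X where
  carrier := {x | InV t s x}
  mul_mem' := by
    rintro a b (rfl | rfl | rfl | rfl) (rfl | rfl | rfl | rfl)
    · left; simp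
    · right; left; simp
    · right; right; left; simp
    · right; right; right; simp
    · right; left; simp
    · left; exact ht
    · right; right; right; exact hst.symm
    · right; right; left; rw [hst, ← mul_assoc, ht, one_mul]
    · right; right; left; simp
    · right; right; right; rfl
    · left; exact hs
    · right; left; rw [← mul_assoc, hs, one_mul]
    · right; right; right; simp
    · right; right; left; rw [mul_assoc, ht, mul_one]
    · right; left; rw [mul_assoc, ← hst, ← mul_assoc, hs, one_mul]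
    · left; rw [mul_assoc, ← mul_assoc t s t, ← hst, mul_assoc s t t, ht, mul_one, hs]
  one_mem' := Or.inl rfl
  inv_mem' := by
    have hti : t⁻¹ = t := inv_eq_of_mul_eq_one_left ht
    have hsi : s⁻¹ = s := inv_eq_of_mul_eq_one_left hs
    rintro a (rfl | rfl | rfl | rfl)
    · left; simp
    · right; left; exact hti
    · right; right; left; exact hsi
    · right; right; right; rw [_root_.mul_inv_rev, hti, hsi, hst]

theorem mem_fourV {X : Type*} [Group X] {t s : X} (ht : t * t = 1) (hs : s * s = 1) (hst : s * t = t * s) {x : X} :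
    x ∈ fourV t s ht hs hst ↔ InV t s x := Iff.rfl

theorem card_fourV {X : Type*} [Group X] {t s : X} (ht : t * t = 1) (hs : s * s = 1) (hst : s * t = t * s)
    (ht1 : t ≠ 1) (hs1 : s ≠ 1) (hne : s ≠ t) : Nat.card (fourV t s ht hs hst) = 4 := by
  classical
  have h1 : ((fourV t s ht hs hst : Subgroup X) : Set X) = {1, t, s, s * t} := by
    ext x
    simp only [SetLike.mem_coe, mem_fourV, InV, Set.mem_insert_iff, Set.mem_singleton_iff]
  have h2 : Nat.card (fourV t s ht hs hst) = ((fourV t s ht hs hst : Subgroup X) : Set X).ncard := rfl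
  have hst1 : s * t ≠ 1 := by
    intro h
    apply hne
    have := eq_inv_of_mul_eq_one_left h
    rwa [inv_eq_of_mul_eq_one_left ht] at this
  have hstt : s * t ≠ t := fun h => hs1 (by simpa using h)
  have hsts : s * t ≠ s := fun h => ht1 (by simpa using h)
  rw [h2, h1, Set.ncard_insert_of_notMem, Set.ncard_insert_of_notMem, Set.ncard_pair]
  · exact hsts.symm
  · simp only [Set.mem_insert_iff, Set.mem_singleton_iff, not_or]
    exact ⟨hne.symm, hstt.symm⟩
  · simp only [Set.mem_insert_iff, Set.mem_singleton_iff, not_or]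
    exact ⟨ht1.symm, hs1.symm, hst1.symm⟩

namespace SylX

variable {X : Type*} [Group X] {t : X} {F1 F2 : Type*} [Field F1] [Field F2] [Finite F1] [Finite F2]
  {L : LocalSL t F1 F2} {P : Subgroup X} {s : X} {x1 : SL2 F1} {x2 : SL2 F2} {n1 : SL2 F1} {n2 : SL2 F2}
  (S : SylX L P s x1 x2 n1 n2)

include S

theorem x1_sq : x1 * x1 = -1 := by
  apply Subtype.ext
  change (x1 : M2 F1) * x1 = -1
  rw [m2_sq_of_trace S.F.tr1, sl_coe_det]
  simp

theorem ex1_sq : L.e1 x1 * L.e1 x1 = t := by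
  rw [← map_mul, S.x1_sq, L.neg1]

theorem en1_sq : L.e1 n1 * L.e1 n1 = t := by
  rw [← map_mul, S.F.n1_sq, L.neg1]

theorem en2_sq : L.e2 n2 * L.e2 n2 = t := by
  rw [← map_mul, S.F.n2_sq, L.neg2]

theorem t_mem : t ∈ P := by
  rw [← S.ex1_sq]
  exact P.mul_mem S.x1_mem S.x1_mem

theorem t_comm {x : X} (hx : x ∈ P) : x * t = t * x := by
  obtain ⟨A, B, h⟩ := S.zero x hx
  exact h.comm

theorem w_mem : L.e1 n1 * L.e2 n2 ∈ P := P.mul_mem S.n1_mem S.n2_mem

theorem x1_tor : L.e1 x1 ∈ L.tor (x1 : M2 F1) (x2 : M2 F2) :=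
  LocalSL.Frame.tor1_le L _ _ ⟨x1, rfl, rfl⟩

/-- elements of `P` centralising `s` -/
theorem tor_or {x : X} (hx : x ∈ P) (hs : x * s = s * x) :
    x ∈ L.tor (x1 : M2 F1) (x2 : M2 F2) ∨ ∃ c ∈ L.tor (x1 : M2 F1) (x2 : M2 F2), x = c * (L.e1 n1 * L.e2 n2) := by
  obtain ⟨A, B, h⟩ := S.zero x hx
  rcases S.F.mem_or_of_comm_s h hs with h1 | h1
  · exact Or.inl h1
  · right
    refine ⟨_, h1, ?_⟩
    rw [mul_assoc, S.F.ww, mul_one]

/-- the subgroup `W1 = A (P ∩ L1)` -/
def W (L : LocalSL t F1 F2) (P A : Subgroup X) (hA : A ≤ P) (hn : ∀ a ∈ A, ∀ y, ∃ z, a * L.e1 y = L.e1 z * a) :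
    Subgroup X where
  carrier := {x | x ∈ P ∧ ∃ a ∈ A, x * a⁻¹ ∈ L.e1.range}
  mul_mem' := by
    rintro x y ⟨hx, a, ha, u, hu⟩ ⟨hy, b, hb, v, hv⟩
    refine ⟨P.mul_mem hx hy, a * b, A.mul_mem ha hb, ?_⟩
    obtain ⟨z, hz⟩ := hn a ha v
    refine ⟨u * z, ?_⟩
    rw [map_mul, hu]
    have h1 : L.e1 z = a * L.e1 v * a⁻¹ := by rw [hz]; group
    rw [h1, hv]
    group
  one_mem' := ⟨P.one_mem, 1, A.one_mem, 1, by simp⟩
  inv_mem' := by
    rintro x ⟨hx, a, ha, u, hu⟩
    refine ⟨P.inv_mem hx, a⁻¹, A.inv_mem ha, ?_⟩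
    obtain ⟨z, hz⟩ := hn a⁻¹ (A.inv_mem ha) u⁻¹
    refine ⟨z, ?_⟩
    have h1 : L.e1 z = a⁻¹ * L.e1 u⁻¹ * a := by rw [hz]; group
    rw [h1, map_inv, hu]
    group

omit S [Finite F1] [Finite F2] in
theorem mem_W {A : Subgroup X} {hA : A ≤ P} {hn : ∀ a ∈ A, ∀ y, ∃ z, a * L.e1 y = L.e1 z * a} {x : X} :
    x ∈ W L P A hA hn ↔ x ∈ P ∧ ∃ a ∈ A, x * a⁻¹ ∈ L.e1.range := Iff.rfl

/-- **the structure `Pre` for a Sylow 2-subgroup of `X`** -/
theorem pre : ∃ S0 A V W1 : Subgroup X, Pre P S0 A W1 V ∧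
    (∀ x, x ∈ W1 ↔ x ∈ P ∧ ∃ a ∈ A, x * a⁻¹ ∈ L.e1.range) ∧
    (∀ x, x ∈ S0 ↔ x ∈ P ∧ x * s = s * x) ∧ (∀ x, x ∈ V ↔ InV t s x) ∧
    (∀ x, x ∈ A ↔ x ∈ P ∧ x ∈ L.tor (x1 : M2 F1) (x2 : M2 F2)) := by
  have F := S.F
  set T := L.tor (x1 : M2 F1) (x2 : M2 F2) with hT
  set w := L.e1 n1 * L.e2 n2 with hw
  set A : Subgroup X := P ⊓ T with hA
  set S0 : Subgroup X := P ⊓ centralizer ({s} : Set X) with hS0
  set V : Subgroup X := fourV t s (L.t_sq) F.ss F.st with hV
  have memS0 : ∀ x, x ∈ S0 ↔ x ∈ P ∧ x * s = s * x := by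
    intro x
    rw [hS0, mem_inf, mem_centralizer_singleton_iff]
  have memA : ∀ x, x ∈ A ↔ x ∈ P ∧ x ∈ T := fun x => Iff.rfl
  have hn : ∀ a ∈ A, ∀ y, ∃ z, a * L.e1 y = L.e1 z * a :=
    fun a ha y => F.hyp.norm1 a (S.t_comm ha.1) y
  set W1 : Subgroup X := W L P A inf_le_left hn with hW1
  have memW : ∀ x, x ∈ W1 ↔ x ∈ P ∧ ∃ a ∈ A, x * a⁻¹ ∈ L.e1.range := fun x => Iff.rfl
  have hVA : V ≤ A := by
    intro x hx
    have hx' : InV t s x := hx
    have htA : t ∈ A := ⟨S.t_mem, F.t_mem⟩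
    have hsA : s ∈ A := ⟨S.s_mem, F.s_mem⟩
    rcases hx' with rfl | rfl | rfl | rfl
    · exact A.one_mem
    · exact htA
    · exact hsA
    · exact A.mul_mem hsA htA
  have hAS : A ≤ S0 := fun x hx => (memS0 x).2 ⟨hx.1, F.tor_s hx.2⟩
  have hAW : A ≤ W1 := fun x hx => ⟨hx.1, x, hx, 1, by simp⟩
  have hww : w * w = 1 := F.ww
  have hwS : w ∈ S0 := (memS0 w).2 ⟨S.w_mem, F.w_s⟩
  have hwA : w ∉ A := fun h => F.w_not_mem h.2
  have out : ∀ x ∈ S0, x ∉ A → ∃ c ∈ T, x = c * w := by
    intro x hx hxA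
    obtain ⟨h1, h2⟩ := (memS0 x).1 hx
    rcases S.tor_or h1 h2 with h3 | h3
    · exact absurd ⟨h1, h3⟩ hxA
    · exact h3
  have hinv : ∀ x ∈ S0, x ∉ A → ∀ a ∈ A, x * a * x⁻¹ = a⁻¹ := by
    intro x hx hxA a ha
    obtain ⟨c, hc, rfl⟩ := out x hx hxA
    have h1 := F.w_inv ha.2
    calc c * w * a * (c * w)⁻¹ = c * (w * a) * w⁻¹ * c⁻¹ := by group
      _ = c * (a⁻¹ * w) * w⁻¹ * c⁻¹ := by rw [h1]
      _ = (c * a⁻¹) * c⁻¹ := by group
      _ = (a⁻¹ * c) * c⁻¹ := by rw [F.tor_comm hc (T.inv_mem ha.2)]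
      _ = a⁻¹ := by group
  have hidxA : ∀ x ∈ S0, x ∉ A → ∀ y ∈ S0, y ∉ A → x * y ∈ A := by
    intro x hx hxA y hy hyA
    refine ⟨P.mul_mem hx.1 hy.1, ?_⟩
    obtain ⟨c, hc, rfl⟩ := out x hx hxA
    obtain ⟨d, hd, rfl⟩ := out y hy hyA
    have h1 := F.w_inv hd
    have h2 : c * w * (d * w) = c * d⁻¹ := by
      calc c * w * (d * w) = c * (w * d) * w := by group
        _ = c * (d⁻¹ * w) * w := by rw [h1]
        _ = c * d⁻¹ * (w * w) := by group
        _ = c * d⁻¹ := by rw [hww, mul_one]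
    rw [h2]
    exact T.mul_mem hc (T.inv_mem hd)
  have hidxS : ∀ x ∈ P, x ∉ S0 → ∀ y ∈ P, y ∉ S0 → x * y ∈ S0 := by
    intro x hx hxS y hy hyS
    have mv : ∀ z ∈ P, z ∉ S0 → z * s * z⁻¹ = s * t := by
      intro z hz hzS
      rcases S.norm z hz with h1 | h1
      · exact absurd ((memS0 z).2 ⟨hz, mul_inv_eq_iff_eq_mul.1 h1⟩) hzS
      · exact h1
    refine (memS0 _).2 ⟨P.mul_mem hx hy, ?_⟩
    apply mul_inv_eq_iff_eq_mul.1
    have h3 : x * t * x⁻¹ = t := by rw [S.t_comm hx]; group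
    calc x * y * s * (x * y)⁻¹ = x * (y * s * y⁻¹) * x⁻¹ := by group
      _ = x * (s * t) * x⁻¹ := by rw [mv y hy hyS]
      _ = (x * s * x⁻¹) * (x * t * x⁻¹) := by group
      _ = s * t * t := by rw [mv x hx hxS, h3]
      _ = s := by rw [mul_assoc, L.t_sq, mul_one]
  have hWS : W1 ⊓ S0 ≤ A := by
    rintro x ⟨⟨hxP, a, ha, z, hz⟩, hxS⟩
    refine ⟨hxP, ?_⟩
    have h1 : L.e1 z * s = s * L.e1 z := by
      rw [hz]
      have h2 := ((memS0 x).1 hxS).2
      have h3 := F.tor_s (T.inv_mem ha.2)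
      calc x * a⁻¹ * s = x * (a⁻¹ * s) := by group
        _ = x * (s * a⁻¹) := by rw [h3]
        _ = (x * s) * a⁻¹ := by group
        _ = s * (x * a⁻¹) := by rw [h2]; group
    have h2 := F.e1_comm_s h1
    have h3 : L.e1 z ∈ T := LocalSL.Frame.tor1_le L _ _ ⟨z, h2, rfl⟩
    have h4 : x = L.e1 z * a := by rw [hz]; group
    rw [h4]
    exact T.mul_mem h3 ha.2
  have hwW : w ∉ W1 := fun h => hwA (hWS ⟨h, hwS⟩)
  -- `x ∈ W1` or `x w ∈ W1`
  have hn1mv : L.e1 n1 * s * (L.e1 n1)⁻¹ = s * t := mul_inv_eq_iff_eq_mul.2 F.n1_s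
  have hn1S : L.e1 n1 ∉ S0 := by
    intro h
    have h1 := ((memS0 _).1 h).2
    have h2 : L.e1 n1 * s * (L.e1 n1)⁻¹ = s := by rw [h1]; group
    rw [h2] at hn1mv
    apply F.t_ne
    have h3 : s * 1 = s * t := by rw [mul_one]; exact hn1mv
    exact (mul_left_cancel h3).symm
  have hn1W : ∀ a ∈ A, L.e1 n1 * a ∈ W1 := by
    intro a ha
    exact ⟨P.mul_mem S.n1_mem ha.1, a, ha, n1, by group⟩
  have hor : ∀ x ∈ P, x ∈ W1 ∨ x * w ∈ W1 := by
    intro x hx
    by_cases hxS : x ∈ S0
    · by_cases hxA : x ∈ A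
      · exact Or.inl (hAW hxA)
      · exact Or.inr (hAW (hidxA x hxS hxA w hwS hwA))
    · have h1 : (L.e1 n1)⁻¹ * x ∈ S0 := by
        refine hidxS _ (P.inv_mem S.n1_mem) ?_ x hx hxS
        intro h
        exact hn1S (by simpa using S0.inv_mem h)
      by_cases hyA : (L.e1 n1)⁻¹ * x ∈ A
      · left
        have h2 := hn1W _ hyA
        simpa using h2
      · right
        have h2 := hn1W _ (hidxA _ h1 hyA w hwS hwA)
        have h3 : L.e1 n1 * ((L.e1 n1)⁻¹ * x * w) = x * w := by group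
        rwa [h3] at h2
  have hwn : ∀ b ∈ W1, w * b * w⁻¹ ∈ W1 := by
    rintro b ⟨hbP, a, ha, z, hz⟩
    refine ⟨P.mul_mem (P.mul_mem S.w_mem hbP) (P.inv_mem S.w_mem), a⁻¹, A.inv_mem ha, ?_⟩
    obtain ⟨y, hy⟩ := F.hyp.norm1 w (S.t_comm S.w_mem) z
    refine ⟨y, ?_⟩
    have h1 : L.e1 y = w * L.e1 z * w⁻¹ := by rw [hy]; group
    have h2 := hinv w hwS hwA a ha
    rw [h1, hz]
    have h3 : w * (b * a⁻¹) * w⁻¹ = (w * b * w⁻¹) * (w * a * w⁻¹)⁻¹ := by group
    rw [h3, h2]
  have hidxW : ∀ x ∈ P, x ∉ W1 → ∀ y ∈ P, y ∉ W1 → x * y ∈ W1 := by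
    intro x hx hxW y hy hyW
    have h1 : x * w ∈ W1 := (hor x hx).resolve_left hxW
    have h2 : y * w ∈ W1 := (hor y hy).resolve_left hyW
    have h3 := W1.mul_mem h1 (hwn _ h2)
    have hwi : w⁻¹ = w := inv_eq_of_mul_eq_one_left hww
    have h4 : x * w * (w * (y * w) * w⁻¹) = x * y := by
      calc x * w * (w * (y * w) * w⁻¹) = x * (w * w) * y := by group
        _ = x * y := by rw [hww, mul_one]
    rwa [h4] at h3
  refine ⟨S0, A, V, W1, ?_, memW, memS0, fun x => Iff.rfl, memA⟩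
  exact
    { V_le := hVA
      A_le := hAS
      S_le := inf_le_left
      A_le_W := hAW
      W_le := fun x hx => hx.1
      comm := fun a ha b hb => F.tor_comm ha.2 hb.2
      inv2 := by
        intro x hx hxA
        obtain ⟨c, hc, rfl⟩ := out x hx hxA
        exact F.mul_w_sq hc
      inv := hinv
      idxA := hidxA
      exw := ⟨w, hwS, hwA⟩
      memV := by
        intro a ha
        constructor
        · intro h
          have h' : InV t s a := h
          rcases h' with rfl | rfl | rfl | rfl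
          · simp
          · exact L.t_sq
          · exact F.ss
          · calc s * t * (s * t) = s * (t * s) * t := by group
              _ = s * (s * t) * t := by rw [F.st]
              _ = (s * s) * (t * t) := by group
              _ = 1 := by rw [F.ss, L.t_sq, one_mul]
        · intro h
          exact F.tor_invol ha.2 h
      cardV := card_fourV _ _ _ F.t_ne F.s_ne_one F.s_ne_t
      four := ⟨L.e1 x1, ⟨S.x1_mem, S.x1_tor⟩, by rw [S.ex1_sq]; exact F.t_ne⟩
      cent := by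
        intro x hx h
        exact (memS0 x).2 ⟨hx, h s (Or.inr (Or.inr (Or.inl rfl)))⟩
      idxS := hidxS
      idxW := hidxW
      WS := hWS
      rankW := by
        intro E hE hE2
        classical
        have hcomm : ∀ x ∈ E, ∀ y ∈ E, x * y = y * x := by
          intro x hx y hy
          have h1 := hE2 _ (E.mul_mem hx hy)
          have h2 : x⁻¹ = x := inv_eq_of_mul_eq_one_left (hE2 x hx)
          have h3 : y⁻¹ = y := inv_eq_of_mul_eq_one_left (hE2 y hy)
          have h4 : x * y = (x * y)⁻¹ := eq_inv_of_mul_eq_one_left h1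
          rw [h4, _root_.mul_inv_rev, h2, h3]
        have key : ∃ B : Set X, B.Finite ∧ B.ncard ≤ 4 ∧ (E : Set X) ⊆ B := by
          by_cases hEA : ∀ x ∈ E, x ∈ A
          · refine ⟨{1, t, s, s * t}, Set.toFinite _, ?_, ?_⟩
            · refine (Set.ncard_insert_le _ _).trans ?_
              have := Set.ncard_insert_le t {s, s * t}
              have h3 : ({s, s * t} : Set X).ncard ≤ 2 := by
                refine (Set.ncard_insert_le _ _).trans ?_
                simp
              omega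
            · intro x hx
              have h1 := F.tor_invol (hEA x hx).2 (hE2 x hx)
              simpa using h1
          · push Not at hEA
            obtain ⟨x, hx, hxA⟩ := hEA
            have hxS : x ∉ S0 := fun h => hxA (hWS ⟨hE hx, h⟩)
            have hxP : x ∈ P := (hE hx).1
            have hxs : x * s * x⁻¹ = s * t := by
              rcases S.norm x hxP with h1 | h1
              · exact absurd ((memS0 x).2 ⟨hxP, mul_inv_eq_iff_eq_mul.1 h1⟩) hxS
              · exact h1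
            -- elements of `E ∩ S0`
            have hES : ∀ y ∈ E, y ∈ S0 → y = 1 ∨ y = t := by
              intro y hy hyS
              have hyA := hWS ⟨hE hy, hyS⟩
              have hxy := hcomm x hx y hy
              have hxt : x * t * x⁻¹ = t := by rw [S.t_comm hxP]; group
              have hfix : x * y * x⁻¹ = y := by rw [hxy]; group
              rcases F.tor_invol hyA.2 (hE2 y hy) with h1 | h1 | h1 | h1
              · exact Or.inl h1
              · exact Or.inr h1
              · exfalso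
                rw [h1, hxs] at hfix
                exact F.t_ne (by simpa using hfix)
              · exfalso
                rw [h1] at hfix
                have h2 : x * (s * t) * x⁻¹ = (x * s * x⁻¹) * (x * t * x⁻¹) := by group
                rw [h2, hxs, hxt, mul_assoc s t t, L.t_sq, mul_one] at hfix
                exact F.t_ne (by simpa using hfix)
            refine ⟨{1, t, x, t * x}, Set.toFinite _, ?_, ?_⟩
            · refine (Set.ncard_insert_le _ _).trans ?_
              have := Set.ncard_insert_le t {x, t * x}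
              have h3 : ({x, t * x} : Set X).ncard ≤ 2 := by
                refine (Set.ncard_insert_le _ _).trans ?_
                simp
              omega
            · intro y hy
              simp only [Set.mem_insert_iff, Set.mem_singleton_iff]
              by_cases hyS : y ∈ S0
              · rcases hES y hy hyS with h1 | h1
                · exact Or.inl h1
                · exact Or.inr (Or.inl h1)
              · have h1 : y * x ∈ S0 := hidxS y (hE hy).1 hyS x hxP hxS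
                have hxx := hE2 x hx
                rcases hES _ (E.mul_mem hy hx) h1 with h2 | h2
                · right; right; left
                  have := eq_inv_of_mul_eq_one_left h2
                  rw [this]
                  exact inv_eq_of_mul_eq_one_left hxx
                · right; right; right
                  rw [← h2, mul_assoc, hxx, mul_one]
        obtain ⟨B, hB1, hB2, hB3⟩ := key
        have h1 : Nat.card E = (E : Set X).ncard := rfl
        rw [h1]
        exact (Set.ncard_le_ncard hB3 hB1).trans hB2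
      exW2 := by
        intro _
        refine ⟨L.e1 x1 * L.e2 n2, P.mul_mem S.x1_mem S.n2_mem, ?_, ?_, ?_⟩
        · intro h
          have h1 := ((memS0 _).1 h).2
          have h2 : L.e1 x1 * s = s * L.e1 x1 := F.tor_s S.x1_tor
          have h3 : L.e2 n2 * s = s * L.e2 n2 := by
            have h4 : (L.e1 x1)⁻¹ * (L.e1 x1 * L.e2 n2 * s) = (L.e1 x1)⁻¹ * (s * (L.e1 x1 * L.e2 n2)) := by rw [h1]
            have h5 : (L.e1 x1)⁻¹ * (L.e1 x1 * L.e2 n2 * s) = L.e2 n2 * s := by group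
            have h6 : (L.e1 x1)⁻¹ * (s * (L.e1 x1 * L.e2 n2)) = (L.e1 x1)⁻¹ * (s * L.e1 x1) * L.e2 n2 := by group
            rw [h5, h6, ← h2] at h4
            rw [h4]; group
          rw [F.n2_s] at h3
          have h7 := mul_right_cancel h3
          exact F.t_ne (by simpa using h7)
        · intro h
          apply hwW
          have h1 : (L.e1 x1 * L.e2 n2) * w ∈ W1 := by
            refine ⟨P.mul_mem (P.mul_mem S.x1_mem S.n2_mem) S.w_mem, 1, A.one_mem, ?_⟩
            refine ⟨x1 * n1 * -1, ?_⟩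
            rw [map_mul, map_mul, L.neg1, inv_one, mul_one, hw]
            have h2 := L.comm n1 n2
            calc L.e1 x1 * L.e1 n1 * t = L.e1 x1 * L.e1 n1 * (L.e2 n2 * L.e2 n2) := by rw [S.en2_sq]
              _ = L.e1 x1 * (L.e1 n1 * L.e2 n2) * L.e2 n2 := by group
              _ = L.e1 x1 * (L.e2 n2 * L.e1 n1) * L.e2 n2 := by rw [h2]
              _ = L.e1 x1 * L.e2 n2 * (L.e1 n1 * L.e2 n2) := by group
          have h2 := W1.mul_mem (W1.inv_mem h) h1
          rwa [inv_mul_cancel_left] at h2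
        · have h2 := L.comm x1 n2
          calc L.e1 x1 * L.e2 n2 * (L.e1 x1 * L.e2 n2) = L.e1 x1 * (L.e2 n2 * L.e1 x1) * L.e2 n2 := by group
            _ = L.e1 x1 * (L.e1 x1 * L.e2 n2) * L.e2 n2 := by rw [h2]
            _ = (L.e1 x1 * L.e1 x1) * (L.e2 n2 * L.e2 n2) := by group
            _ = 1 := by rw [S.ex1_sq, S.en2_sq, L.t_sq] }

end SylX

end Cfsg.Agent.GTwoOdd.Core
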