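import Cfsg.Agent.GTwoOdd.Bruhat
import Cfsg.Agent.GTwoOdd.SLMore
import Cfsg.Agent.GTwoOdd.Core.OddX
import Cfsg.Agent.GTwoOdd.Core.FrameX
import Cfsg.Agent.Involutions.NormalFour

/-!
# The Sylow 2-subgroups of `C(t) / O(C(t))`

`X` a finite group with a central involution `t`, `L : LocalSL t F1 F2`, `H : L.Hyp`.

`Hyp.exists_sylow_frame`: every Sylow 2-subgroup `P` of `X` contains `e1 x1`, `e2 x2` of order `4` which generate
subgroups normalised by `P` and `e1 n1`, `e2 n2` of order `4` which invert them; `P ≤ C0`.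
-/

set_option autoImplicit false

namespace Cfsg.Agent.GTwoOdd.Core

open Matrix Subgroup Pointwise

section abstract

variable {X : Type*} [Group X] [Finite X]

/-- the subgroup `{1, t}` -/
def two (t : X) (ht : t * t = 1) : Subgroup X where
  carrier := {c | c = 1 ∨ c = t}
  mul_mem' := by
    rintro a b (rfl | rfl) (rfl | rfl)
    · left; simp
    · right; simp
    · right; simp
    · left; exact ht
  one_mem' := Or.inl rfl
  inv_mem' := by
    rintro a (rfl | rfl)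
    · left; simp
    · right; exact inv_eq_of_mul_eq_one_left ht

omit [Finite X] in
theorem mem_two {t c : X} {ht : t * t = 1} : c ∈ two t ht ↔ c = 1 ∨ c = t := Iff.rfl

/-- a 2-group `P` normalising `K`, where `t` is the only involution of `K`, normalises a cyclic subgroup of order `4` -/
theorem exists_quarter {t : X} (hX : ∀ c : X, c * t = t * c) (ht : t * t = 1) (P K : Subgroup X)
    (hP : IsPGroup 2 P) (hK : ∀ y ∈ P, ∀ c ∈ K, y * c * y⁻¹ ∈ K)
    (huniq : ∀ c ∈ K, c * c = 1 → c = 1 ∨ c = t) (hex : ∃ c ∈ P, c ∈ K ∧ c ≠ 1 ∧ c ≠ t) :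
    ∃ c ∈ P, c ∈ K ∧ c * c = t ∧ ∀ y ∈ P, y * c * y⁻¹ = c ∨ y * c * y⁻¹ = c * t := by
  let Z : Subgroup P := (two t ht).subgroupOf P
  have hZn : Z.Normal := by
    constructor
    rintro n hn g
    rw [mem_subgroupOf, mem_two] at hn ⊢
    rcases hn with hn | hn
    · left
      rw [coe_mul, coe_mul, coe_inv, hn]; simp
    · right
      rw [coe_mul, coe_mul, coe_inv, hn, hX]; simp
  have hKn : (K.subgroupOf P).Normal := by
    constructor
    rintro n hn g
    rw [mem_subgroupOf] at hn ⊢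
    exact hK g g.2 n hn
  let N : Subgroup (P ⧸ Z) := (K.subgroupOf P).map (QuotientGroup.mk' Z)
  have hNn : N.Normal := hKn.map _ (QuotientGroup.mk'_surjective Z)
  have hN : N ≠ ⊥ := by
    obtain ⟨c, hcP, hcK, h1, h2⟩ := hex
    intro h
    have h3 : (QuotientGroup.mk' Z ⟨c, hcP⟩) ∈ N := mem_map_of_mem _ hcK
    rw [h, mem_bot, QuotientGroup.mk'_apply, QuotientGroup.eq_one_iff, mem_subgroupOf, mem_two] at h3
    rcases h3 with h3 | h3
    · exact h1 h3
    · exact h2 h3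
  obtain ⟨z, hzN, hzc, hz⟩ := Cfsg.Agent.Involutions.NormalFour.exists_mem_center_of_normal (hP.to_quotient Z) N hN
  obtain ⟨c, hcK, rfl⟩ := hzN
  refine ⟨c, c.2, hcK, ?_, ?_⟩
  · have h1 : (QuotientGroup.mk' Z) (c * c) = 1 := by
      rw [map_mul, ← pow_two, ← hz, pow_orderOf_eq_one]
    rw [QuotientGroup.mk'_apply, QuotientGroup.eq_one_iff, mem_subgroupOf, mem_two, coe_mul] at h1
    rcases h1 with h1 | h1
    · exfalso
      have h2 := huniq c hcK h1
      have h3 : (QuotientGroup.mk' Z) c = 1 := by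
        rw [QuotientGroup.mk'_apply, QuotientGroup.eq_one_iff, mem_subgroupOf, mem_two]
        exact h2
      rw [h3, orderOf_one] at hz
      norm_num at hz
    · exact h1
  · intro y hy
    have h1 := mem_center_iff.1 hzc (QuotientGroup.mk' Z ⟨y, hy⟩)
    rw [← map_mul, ← map_mul, QuotientGroup.mk'_apply, QuotientGroup.mk'_apply, eq_comm, QuotientGroup.eq,
      mem_subgroupOf, mem_two, coe_mul, coe_inv, coe_mul, coe_mul] at h1
    change ((c : X) * y)⁻¹ * (y * c) = 1 ∨ ((c : X) * y)⁻¹ * (y * c) = t at h1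
    rcases h1 with h1 | h1
    · left
      have h2 : y * c = c * y := by
        calc y * (c : X) = (c * y) * (((c : X) * y)⁻¹ * (y * c)) := by group
          _ = c * y := by rw [h1, mul_one]
      rw [h2]; group
    · right
      have h2 : y * c = c * y * t := by
        calc y * (c : X) = (c * y) * (((c : X) * y)⁻¹ * (y * c)) := by group
          _ = c * y * t := by rw [h1]
      rw [h2, mul_assoc (c : X) y t, hX y]; group

/-- a 2-element of `M ≤ K` is conjugate in `M` to an element of `P` if `K` is normal and `P ∩ K ≤ M` -/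
theorem exists_conj_mem (P : Sylow 2 X) (K M : Subgroup X) (hK : ∀ g : X, ∀ c ∈ K, g * c * g⁻¹ ∈ K) (hMK : M ≤ K)
    (hPM : (P : Subgroup X) ⊓ K ≤ M) {n : X} (hn : n ∈ M) {k : ℕ} (hk : n ^ (2 ^ k) = 1) :
    ∃ m ∈ M, m * n * m⁻¹ ∈ (P : Subgroup X) := by
  let B : Subgroup X := (P : Subgroup X) ⊓ K
  have hB2 : IsPGroup 2 (B.subgroupOf M) := (P.isPGroup'.to_le inf_le_left).comap_subtype
  obtain ⟨R, hR⟩ := hB2.exists_le_sylow
  let R' : Subgroup X := (R : Subgroup M).map M.subtype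
  have hR'2 : IsPGroup 2 R' := R.isPGroup'.map _
  have hBR : B ≤ R' := by
    intro b hb
    exact ⟨⟨b, hPM hb⟩, hR hb, rfl⟩
  have hRK : R' ≤ K := by
    rintro _ ⟨r, hr, rfl⟩
    exact hMK r.2
  obtain ⟨P2, hP2⟩ := hR'2.exists_le_sylow
  obtain ⟨g, hg⟩ := MulAction.exists_smul_eq X P2 P
  have hg' : ∀ r ∈ R', g * r * g⁻¹ ∈ B := by
    intro r hr
    refine ⟨?_, hK g r (hRK hr)⟩
    have h1 : MulAut.conj g • r ∈ (MulAut.conj g • (P2 : Subgroup X)) :=
      Subgroup.smul_mem_pointwise_smul _ _ _ (hP2 hr)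
    have h2 : (MulAut.conj g • (P2 : Subgroup X)) = (P : Subgroup X) := by
      rw [← hg]; rfl
    rw [h2] at h1
    exact h1
  have hcard : Nat.card R' ≤ Nat.card B := by
    apply Nat.card_le_card_of_injective (fun r : R' => (⟨g * r * g⁻¹, hg' r r.2⟩ : B))
    intro a b hab
    have h1 := congrArg Subtype.val hab
    apply Subtype.ext
    exact mul_left_cancel (mul_right_cancel h1)
  have hRB : B = R' := Subgroup.eq_of_le_of_card_ge hBR hcard
  have hz2 : IsPGroup 2 (zpowers (⟨n, hn⟩ : M)) := by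
    apply IsPGroup.of_card (n := (Nat.log 2 (orderOf (⟨n, hn⟩ : M))))
    have h1 : orderOf (⟨n, hn⟩ : M) ∣ 2 ^ k := by
      apply orderOf_dvd_of_pow_eq_one
      apply Subtype.ext
      exact hk
    obtain ⟨j, -, hj⟩ := (Nat.dvd_prime_pow Nat.prime_two).1 h1
    rw [Nat.card_zpowers, hj, Nat.log_pow (by norm_num)]
  obtain ⟨R2, hR2⟩ := hz2.exists_le_sylow
  obtain ⟨m, hm⟩ := MulAction.exists_smul_eq M R2 R
  refine ⟨m, m.2, ?_⟩
  have h1 : MulAut.conj m • (⟨n, hn⟩ : M) ∈ (MulAut.conj m • (R2 : Subgroup M)) :=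
    Subgroup.smul_mem_pointwise_smul _ _ _ (hR2 (mem_zpowers _))
  have h2 : (MulAut.conj m • (R2 : Subgroup M)) = (R : Subgroup M) := by
    rw [← hm]; rfl
  rw [h2] at h1
  have h3 : (m : X) * n * (m : X)⁻¹ ∈ R' := ⟨_, h1, rfl⟩
  rw [← hRB] at h3
  exact h3.1

end abstract

section sl

variable {F : Type*} [Field F]

theorem sl_sq_one (h2 : (2 : F) ≠ 0) {x : SL2 F} (h : x * x = 1) : x = 1 ∨ x = -1 := by
  have h1 := m2_sq (x : M2 F)
  rw [sl_coe_det, one_smul, ← Matrix.SpecialLinearGroup.coe_mul, h, Matrix.SpecialLinearGroup.coe_one] at h1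
  have h3 : (x : M2 F).trace • (x : M2 F) = (2 : F) • (1 : M2 F) := by
    rw [two_smul]
    nth_rw 1 [h1]
    simp
  by_cases ht : (x : M2 F).trace = 0
  · exfalso
    rw [ht, zero_smul] at h3
    have h4 := congrFun (congrFun h3 0) 0
    simp at h4
    exact h2 h4.symm
  · apply sl_scalar (a := (x : M2 F).trace⁻¹ * 2)
    have h4 := congrArg (fun Z => ((x : M2 F).trace)⁻¹ • Z) h3
    simpa [smul_smul, inv_mul_cancel₀ ht] using h4

theorem sl_trace_of_sq {x : SL2 F} (h : x * x = -1) : (x : M2 F).trace = 0 := by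
  have h1 := m2_sq (x : M2 F)
  rw [sl_coe_det, one_smul, ← Matrix.SpecialLinearGroup.coe_mul, h] at h1
  have h3 : (x : M2 F).trace • (x : M2 F) = 0 := by
    have : ((-1 : SL2 F) : M2 F) = -1 := by simp
    rw [this] at h1
    have := congrArg (fun Z => Z + 1) h1
    simpa using this.symm
  by_contra ht
  have h4 : (x : M2 F) = 0 := by
    have := congrArg (fun Z => ((x : M2 F).trace)⁻¹ • Z) h3
    simpa [smul_smul, inv_mul_cancel₀ ht] using this
  have h5 := sl_coe_det x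
  rw [h4] at h5
  simp at h5

theorem sl_sq_of_trace {x : SL2 F} (h : (x : M2 F).trace = 0) : x * x = -1 := by
  apply Subtype.ext
  change (x : M2 F) * x = -1
  rw [m2_sq_of_trace h, sl_coe_det]
  simp

/-- the elements which commute or anticommute with `x` -/
def AC (x y : SL2 F) : Prop := y * x = x * y ∨ y * x = -(x * y)

theorem AC.mul {x y z : SL2 F} (h : AC x y) (k : AC x z) : AC x (y * z) := by
  rcases h with h | h <;> rcases k with k | k
  · left; rw [mul_assoc, k, ← mul_assoc, h, mul_assoc]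
  · right; rw [mul_assoc, k, mul_neg, ← mul_assoc, h, mul_assoc]
  · right; rw [mul_assoc, k, ← mul_assoc, h, neg_mul, mul_assoc]
  · left; rw [mul_assoc, k, mul_neg, ← mul_assoc, h, neg_mul, mul_assoc, neg_neg]

theorem AC.inv {x y : SL2 F} (h : AC x y) : AC x y⁻¹ := by
  rcases h with h | h
  · left
    calc y⁻¹ * x = y⁻¹ * (x * y) * y⁻¹ := by group
      _ = x * y⁻¹ := by rw [← h]; group
  · right
    calc y⁻¹ * x = y⁻¹ * (x * y) * y⁻¹ := by group
      _ = -(y⁻¹ * (-(x * y)) * y⁻¹) := by simp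
      _ = -(x * y⁻¹) := by rw [← h]; group

/-- conjugation by elements of `AC x` preserves anticommutation with `x` -/
theorem anti_conj {x y n : SL2 F} (h : AC x y) (hn : n * x = -(x * n)) : y * n * y⁻¹ * x = -(x * (y * n * y⁻¹)) := by
  rcases h with h | h
  · have h' : y⁻¹ * x = x * y⁻¹ := by
      calc y⁻¹ * x = y⁻¹ * (x * y) * y⁻¹ := by group
        _ = x * y⁻¹ := by rw [← h]; group
    calc y * n * y⁻¹ * x = y * n * (y⁻¹ * x) := by group
      _ = y * (n * x) * y⁻¹ := by rw [h']; group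
      _ = -((y * x) * n * y⁻¹) := by rw [hn]; simp [mul_assoc]
      _ = -(x * (y * n * y⁻¹)) := by rw [h]; group
  · have h' : y⁻¹ * x = -(x * y⁻¹) := by
      calc y⁻¹ * x = y⁻¹ * (x * y) * y⁻¹ := by group
        _ = -(y⁻¹ * (-(x * y)) * y⁻¹) := by simp
        _ = -(x * y⁻¹) := by rw [← h]; group
    calc y * n * y⁻¹ * x = y * n * (y⁻¹ * x) := by group
      _ = -(y * (n * x) * y⁻¹) := by rw [h']; simp [mul_assoc]
      _ = (y * x) * n * y⁻¹ := by rw [hn]; simp [mul_assoc]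
      _ = -(x * (y * n * y⁻¹)) := by rw [h]; simp [mul_assoc]

variable {X : Type*} [Group X] [Finite X] {t : X}

/-- one factor -/
theorem exists_side [Finite F] (h2 : (2 : F) ≠ 0) (e : SL2 F →* X) (he : Function.Injective e) (hneg : e (-1) = t)
    (hX : ∀ c : X, c * t = t * c) (hn : ∀ c x, ∃ y, c * e x = e y * c) (P : Sylow 2 X) :
    ∃ x n : SL2 F, e x ∈ (P : Subgroup X) ∧ e n ∈ (P : Subgroup X) ∧ x * x = -1 ∧ n * x = -(x * n) ∧
      ∀ y ∈ (P : Subgroup X), y * e x * y⁻¹ = e x ∨ y * e x * y⁻¹ = e x * t := by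
  have htt : t * t = 1 := by rw [← hneg, ← map_mul]; simp
  have ht1 : t ≠ 1 := by
    intro h
    have h1 : e (-1) = e 1 := by rw [map_one]; exact hneg.trans h
    have h3 := congrArg (fun z : SL2 F => (z : M2 F) 0 0) (he h1)
    simp at h3
    apply h2
    linear_combination -h3
  have hK : ∀ g : X, ∀ c ∈ e.range, g * c * g⁻¹ ∈ e.range := by
    rintro g _ ⟨x, rfl⟩
    obtain ⟨y, hy⟩ := hn g x
    exact ⟨y, by rw [hy]; group⟩
  have huniq : ∀ c ∈ e.range, c * c = 1 → c = 1 ∨ c = t := by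
    rintro _ ⟨x, rfl⟩ h
    have h1 : x * x = 1 := he (by rw [map_mul, h, map_one])
    rcases sl_sq_one h2 h1 with rfl | rfl
    · left; exact map_one e
    · right; exact hneg
  have pow4 : ∀ n : SL2 F, n * n = -1 → e n ^ (2 ^ 2) = 1 := by
    intro n hn
    rw [show (2 : ℕ) ^ 2 = 2 * 2 from rfl, pow_mul, pow_two, pow_two, ← map_mul, hn, hneg, htt]
  -- an element of order `4` in `P`
  have hex : ∃ c ∈ (P : Subgroup X), c ∈ e.range ∧ c ≠ 1 ∧ c ≠ t := by
    have hd : (!![1, 0; 0, -1] : M2 F).det ≠ 0 := by simp [Matrix.det_fin_two]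
    have htr : (!![1, 0; 0, -1] : M2 F).trace = 0 := by simp [Matrix.trace_fin_two]
    obtain ⟨n, hn⟩ := exists_anti h2 hd htr
    have hnn := sl_sq_of_trace (trace_of_anti h2 hd hn)
    obtain ⟨m, ⟨y, rfl⟩, hm⟩ := exists_conj_mem P e.range e.range hK le_rfl inf_le_right ⟨n, rfl⟩ (pow4 n hnn)
    refine ⟨_, hm, ⟨y * n * y⁻¹, by simp⟩, ?_, ?_⟩
    · intro h
      have h1 : e y * e n * (e y)⁻¹ * (e y * e n * (e y)⁻¹) = t := by
        calc e y * e n * (e y)⁻¹ * (e y * e n * (e y)⁻¹) = e y * e (n * n) * (e y)⁻¹ := by rw [map_mul]; group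
          _ = t := by rw [hnn, hneg, hX]; group
      rw [h] at h1
      apply ht1
      rw [← h1]; simp
    · intro h
      have h1 : e y * e n * (e y)⁻¹ * (e y * e n * (e y)⁻¹) = t := by
        calc e y * e n * (e y)⁻¹ * (e y * e n * (e y)⁻¹) = e y * e (n * n) * (e y)⁻¹ := by rw [map_mul]; group
          _ = t := by rw [hnn, hneg, hX]; group
      rw [h, htt] at h1
      exact ht1 h1.symm
  obtain ⟨_, hcP, ⟨x, rfl⟩, hcc, hc⟩ := exists_quarter hX htt (P : Subgroup X) e.range P.isPGroup'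
    (fun y _ c hc => hK y c hc) huniq hex
  have hxx : x * x = -1 := he (by rw [map_mul, hcc, hneg])
  have hxt := sl_trace_of_sq hxx
  -- the elements of `L` which normalise `⟨x⟩`
  let M : Subgroup X :=
    { carrier := {d | ∃ y, AC x y ∧ d = e y}
      mul_mem' := by
        rintro _ _ ⟨y, h, rfl⟩ ⟨z, k, rfl⟩
        exact ⟨y * z, h.mul k, (map_mul e y z).symm⟩
      one_mem' := ⟨1, Or.inl (by simp), (map_one e).symm⟩
      inv_mem' := by
        rintro _ ⟨y, h, rfl⟩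
        exact ⟨y⁻¹, h.inv, (map_inv e y).symm⟩ }
  have hMK : M ≤ e.range := by
    rintro _ ⟨y, h, rfl⟩
    exact ⟨y, rfl⟩
  have hPM : (P : Subgroup X) ⊓ e.range ≤ M := by
    rintro _ ⟨hd, ⟨y, rfl⟩⟩
    refine ⟨y, ?_, rfl⟩
    rcases hc (e y) hd with h | h
    · left
      have h1 : y * x * y⁻¹ = x := he (by rw [map_mul, map_mul, map_inv, h])
      calc y * x = y * x * y⁻¹ * y := by group
        _ = x * y := by rw [h1]
    · right
      have h1 : y * x * y⁻¹ = -x := he (by rw [map_mul, map_mul, map_inv, h, ← hneg, ← map_mul]; simp)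
      calc y * x = y * x * y⁻¹ * y := by group
        _ = -(x * y) := by rw [h1]; simp
  obtain ⟨n, hna⟩ := exists_anti h2 (D := (x : M2 F)) (by rw [sl_coe_det]; exact one_ne_zero) hxt
  have hna' : n * x = -(x * n) := by
    apply Subtype.ext
    simpa using hna
  have hnn := sl_sq_of_trace (trace_of_anti h2 (by rw [sl_coe_det]; exact one_ne_zero) hna)
  obtain ⟨_, ⟨y, hy, rfl⟩, hm⟩ := exists_conj_mem P e.range M hK hMK hPM (n := e n) ⟨n, Or.inr hna', rfl⟩ (pow4 n hnn)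
  refine ⟨x, y * n * y⁻¹, hcP, by simpa using hm, hxx, anti_conj hy hna', hc⟩

end sl

end Cfsg.Agent.GTwoOdd.Core

namespace Cfsg.Agent.GTwoOdd.LocalSL

open Matrix Subgroup

open Cfsg.Agent.GTwoOdd.Core (exists_side sl_trace_of_sq)

variable {X : Type*} [Group X] [Finite X] {t : X} {F1 F2 : Type*} [Field F1] [Field F2] [Finite F1] [Finite F2]
  {L : LocalSL t F1 F2}

/-- every Sylow 2-subgroup `P` of `X` normalises a four-group `{1, t, s, s t}` where `s = e1 x1 * e2 x2`, and contains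
`e1 x1`, `e2 x2` and `e1 n1`, `e2 n2` where `n1`, `n2` invert `x1`, `x2` -/
theorem Hyp.exists_sylow_frame (H : L.Hyp) (hX : ∀ c : X, c * t = t * c) (P : Sylow 2 X) :
    ∃ (x1 n1 : SL2 F1) (x2 n2 : SL2 F2), L.Frame (L.e1 x1 * L.e2 x2) x1 x2 n1 n2 ∧
      L.e1 x1 ∈ (P : Subgroup X) ∧ L.e2 x2 ∈ (P : Subgroup X) ∧ L.e1 n1 ∈ (P : Subgroup X) ∧
      L.e2 n2 ∈ (P : Subgroup X) ∧ x1 * x1 = -1 ∧ x2 * x2 = -1 ∧ n1 * n1 = -1 ∧ n2 * n2 = -1 ∧
      (∀ y ∈ (P : Subgroup X), y * L.e1 x1 * y⁻¹ = L.e1 x1 ∨ y * L.e1 x1 * y⁻¹ = L.e1 x1 * t) ∧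
      (∀ y ∈ (P : Subgroup X), y * L.e2 x2 * y⁻¹ = L.e2 x2 ∨ y * L.e2 x2 * y⁻¹ = L.e2 x2 * t) ∧
      (∀ y ∈ (P : Subgroup X), y ∈ L.zero) := by
  obtain ⟨x1, n1, a1, a2, a3, a4, a5⟩ := exists_side H.two_ne1 L.e1 L.inj1 L.neg1 hX (fun c x => H.norm1 c (hX c) x) P
  obtain ⟨x2, n2, b1, b2, b3, b4, b5⟩ := exists_side H.two_ne2 L.e2 L.inj2 L.neg2 hX (fun c x => H.norm2 c (hX c) x) P
  have c1 : (n1 : M2 F1) * x1 = -(x1 * n1) := by
    rw [← Matrix.SpecialLinearGroup.coe_mul, a4]; simp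
  have c2 : (n2 : M2 F2) * x2 = -(x2 * n2) := by
    rw [← Matrix.SpecialLinearGroup.coe_mul, b4]; simp
  have F : L.Frame (L.e1 x1 * L.e2 x2) x1 x2 n1 n2 :=
    ⟨H, Rep.e12 L x1 x2, sl_trace_of_sq a3, sl_trace_of_sq b3, c1, c2⟩
  refine ⟨x1, n1, x2, n2, F, a1, b1, a2, b2, a3, b3, F.n1_sq, F.n2_sq, a5, b5, ?_⟩
  intro y hy
  obtain ⟨k, hk⟩ := P.isPGroup' ⟨y, hy⟩
  have h1 : y ^ (2 ^ k) = 1 := by
    have := congrArg Subtype.val hk
    simpa using this
  exact H.rep_of_two_pow (hX y) h1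

/-- the same with the involution `s` as a variable -/
theorem Hyp.exists_sylow_frame' (H : L.Hyp) (hX : ∀ c : X, c * t = t * c) (P : Sylow 2 X) :
    ∃ s ∈ (P : Subgroup X), s * s = 1 ∧ s ≠ 1 ∧ s ≠ t ∧
      (∀ y ∈ (P : Subgroup X), y * s * y⁻¹ = s ∨ y * s * y⁻¹ = s * t) ∧
      ∃ (x1 n1 : SL2 F1) (x2 n2 : SL2 F2), s = L.e1 x1 * L.e2 x2 ∧ L.Frame s x1 x2 n1 n2 ∧
      L.e1 x1 ∈ (P : Subgroup X) ∧ L.e2 x2 ∈ (P : Subgroup X) ∧ L.e1 n1 ∈ (P : Subgroup X) ∧
      L.e2 n2 ∈ (P : Subgroup X) ∧ x1 * x1 = -1 ∧ x2 * x2 = -1 ∧ n1 * n1 = -1 ∧ n2 * n2 = -1 ∧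
      (∀ y ∈ (P : Subgroup X), y * L.e1 x1 * y⁻¹ = L.e1 x1 ∨ y * L.e1 x1 * y⁻¹ = L.e1 x1 * t) ∧
      (∀ y ∈ (P : Subgroup X), y * L.e2 x2 * y⁻¹ = L.e2 x2 ∨ y * L.e2 x2 * y⁻¹ = L.e2 x2 * t) ∧
      (∀ y ∈ (P : Subgroup X), y ∈ L.zero) := by
  obtain ⟨x1, n1, x2, n2, F, a1, b1, a2, b2, a3, b3, a4, b4, a5, b5, a6⟩ := H.exists_sylow_frame hX P
  refine ⟨_, mul_mem a1 b1, F.ss, F.s_ne_one, F.s_ne_t, ?_, x1, n1, x2, n2, rfl, F, a1, b1, a2, b2, a3, b3, a4, b4, a5, b5, a6⟩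
  intro y hy
  have e : y * (L.e1 x1 * L.e2 x2) * y⁻¹ = (y * L.e1 x1 * y⁻¹) * (y * L.e2 x2 * y⁻¹) := by group
  rw [e]
  rcases a5 y hy with h | h <;> rcases b5 y hy with k | k <;> rw [h, k]
  · left; rfl
  · right; group
  · right
    rw [mul_assoc, ← hX (L.e2 x2), mul_assoc]
  · left
    rw [mul_assoc, ← mul_assoc t, ← hX (L.e2 x2), mul_assoc (L.e2 x2), L.t_sq, mul_one]

end Cfsg.Agent.GTwoOdd.LocalSL

namespace Cfsg.Agent.GTwoOdd.Core

/-- **[G1-X]** -/
theorem exists_sylX {X : Type*} [Group X] [Finite X] {t : X} {F1 F2 : Type*} [Field F1] [Field F2] [Finite F1]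
    [Finite F2] {L : LocalSL t F1 F2} (hX : ∀ c : X, c * t = t * c) (H : L.Hyp) (P : Sylow 2 X) :
    ∃ s x1 x2 n1 n2, SylX L (P : Subgroup X) s x1 x2 n1 n2 := by
  obtain ⟨s, hs, -, -, -, hn, x1, n1, x2, n2, -, F, a1, b1, a2, b2, -, -, -, -, -, -, hz⟩ := H.exists_sylow_frame' hX P
  exact ⟨s, x1, x2, n1, n2, F, hz, hs, hn, a1, b1, a2, b2⟩

end Cfsg.Agent.GTwoOdd.Core
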