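import Cfsg.Agent.GTwoOdd.Core.FrameConf
import Cfsg.Agent.GTwoOdd.Core.SylX
import Cfsg.Agent.GTwoOdd.Core.Homo
import Cfsg.Agent.GTwoOdd.Core.Push

/-!
# The frame: `Conf` for the subgroups containing `S0`
-/

set_option autoImplicit false

namespace Cfsg.Agent.GTwoOdd.Core.FrameG

open Subgroup Cfsg.Agent.Lib.GoldschmidtFusion
open Cfsg.Agent.GTwoOdd.Core.OddG Cfsg.Agent.GTwoOdd.Core.OddLoc

variable {G : Type*} [Group G]

/-- the output of the Sylow analysis -/
theorem hsyl [Finite G] {t : G} {F1 F2 : Type} [Field F1] [Field F2] [Finite F1] [Finite F2] {L : LocalSL (tt t) F1 F2}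
    (H : L.Hyp) : HSyl L := fun P => exists_sylX (tt_central t) H P

/-- `W` is wreathed -/
theorem wreathed [Finite G] {P S0 A W V : Subgroup G} (h : Conf P S0 A W V) {m : ℕ} (hm : 2 ≤ m)
    (e : A ≃* Multiplicative (ZMod (2 ^ m) × ZMod (2 ^ m))) {t : G} (ht : t ∈ V)
    (ht1 : t ≠ 1) (htP : ∀ x ∈ P, x * t = t * x)
    (hz : ∃ z ∈ W, z ∉ S0 ∧ z * z = 1) : Cfsg.IsWreathed W := by
  obtain ⟨z, hz, hzS, hzz⟩ := hz
  obtain ⟨s, hs, hs1, hst⟩ := h.exists_ne' t
  have hzP := h.W_le hz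
  have hidx : A.relIndex W = 2 := by
    rw [Subgroup.relIndex_eq_two_iff_exists_notMem_and]
    refine ⟨z, hz, fun h1 => hzS (h.A_le h1), fun b hb => ?_⟩
    by_cases hbS : b ∈ S0
    · exact Or.inr (h.WS ⟨hb, hbS⟩)
    · left
      exact h.WS ⟨W.mul_mem hb hz, h.idxS b (h.W_le hb) hbS z hzP hzS⟩
  refine Homo.isWreathed h.A_le_W hidx hm e hz hzz (fun a ha => h.conjA (h.P_norm hzP) ha) (h.V_le hs)
    (h.sqV hs) ?_
  rw [h.moves ht ht1 htP hzP hzS hs hs1 hst]
  intro h1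
  exact ht1 (by simpa using h1)

/-- for every Sylow subgroup containing `S0` and every `LocalSL` at its central involution -/
theorem conf_all [Finite G] {P : Sylow 2 G} {S0 A W V : Subgroup G} (h : Conf (P : Subgroup G) S0 A W V)
    (hbig : ∃ x ∈ (P : Subgroup G), x ∉ S0) {P' : Sylow 2 G} (hP' : S0 ≤ (P' : Subgroup G)) {t : G} (ht : t ∈ V)
    (ht1 : t ≠ 1) (htP : ∀ x ∈ (P' : Subgroup G), x * t = t * x) {F1 F2 : Type} [Field F1] [Field F2]
    [Finite F1] [Finite F2] {L : LocalSL (tt t) F1 F2} (H : L.Hyp) {m : ℕ} (hm : 2 ≤ m)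
    (e : A ≃* Multiplicative (ZMod (2 ^ m) × ZMod (2 ^ m))) :
    (∃ W1, Conf (P' : Subgroup G) S0 A W1 V ∧ Cfsg.IsWreathed W1 ∧ IsW t (P' : Subgroup G) A W1 L.e1.range) ∧
    (∃ W1, Conf (P' : Subgroup G) S0 A W1 V ∧ Cfsg.IsWreathed W1 ∧ IsW t (P' : Subgroup G) A W1 L.e2.range) := by
  obtain ⟨W', h'⟩ := conf_other h hbig hP'
  obtain ⟨S0'', A'', V'', W1, W2, o⟩ := exists_out P' ht1 (h'.V_le_P ht) htP L (hsyl H)
  obtain ⟨rfl, rfl, rfl⟩ := unique h' o.pre1 ht o.t_mem ht1 htP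
  have c1 : Conf (P' : Subgroup G) S0'' A'' W1 V'' := { toPre := o.pre1, root := h.root }
  have c2 : Conf (P' : Subgroup G) S0'' A'' W2 V'' := { toPre := o.pre2, root := h.root }
  exact ⟨⟨W1, c1, wreathed c1 hm e ht ht1 htP o.inv1, o.isW1⟩, ⟨W2, c2, wreathed c2 hm e ht ht1 htP o.inv2, o.isW2⟩⟩

theorem isWreathed_congr {A B : Type*} [Group A] [Group B] (e : A ≃* B) (h : Cfsg.IsWreathed A) :
    Cfsg.IsWreathed B := by
  obtain ⟨n, hn, hc, x, y, z, hx, hxy, hd, hz, hzx⟩ := h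
  refine ⟨n, hn, by rw [← Nat.card_congr e.toEquiv, hc], e x, e y, e z, ?_, ?_, ?_, ?_, ?_⟩
  · rw [← hx]; exact orderOf_injective e.toMonoidHom e.injective x
  · rw [← map_mul, hxy, map_mul]
  · rw [eq_bot_iff]
    intro u hu
    obtain ⟨⟨i, hi⟩, ⟨j, hj⟩⟩ := hu
    have h1 : x ^ i = y ^ j := by
      apply e.injective
      rw [map_zpow, map_zpow]
      exact hi.trans hj.symm
    have h2 : x ^ i ∈ zpowers x ⊓ zpowers y := ⟨⟨i, rfl⟩, ⟨j, h1.symm⟩⟩
    rw [hd, Subgroup.mem_bot] at h2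
    rw [Subgroup.mem_bot, ← hi]
    change e x ^ i = 1
    rw [← map_zpow, h2, map_one]
  · rw [← hz]; exact orderOf_injective e.toMonoidHom e.injective z
  · rw [← map_mul, ← map_inv, ← map_mul, hzx]

/-- **`ConfHyp`** -/
theorem confHyp [Finite G] {P : Sylow 2 G} {S0 A W V : Subgroup G} (h : Conf (P : Subgroup G) S0 A W V)
    (hbig : ∃ x ∈ (P : Subgroup G), x ∉ S0) {m : ℕ} (hm : 2 ≤ m)
    (e : A ≃* Multiplicative (ZMod (2 ^ m) × ZMod (2 ^ m))) : Push.ConfHyp S0 A V := by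
  have : Fact (Nat.Prime 2) := ⟨Nat.prime_two⟩
  intro N hN
  have hS2 : IsPGroup 2 S0 := P.isPGroup'.to_le h.S_le
  have hS2' : IsPGroup 2 (S0.subgroupOf N) := hS2.comap_of_injective N.subtype N.subtype_injective
  obtain ⟨Q, hQ⟩ := hS2'.exists_le_sylow
  refine ⟨Q, ?_, ?_⟩
  · intro hall
    have hQS : (Q : Subgroup N) = S0.subgroupOf N := le_antisymm hall hQ
    rw [hQS]
    exact h.small.comap N.subtype N.subtype_injective (by rwa [range_subtype])
  · intro hout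
    -- `Q` is a Sylow subgroup of `G`
    set Q1 : Subgroup G := (Q : Subgroup N).map N.subtype with hQ1
    have hQ1N : Q1 ≤ N := map_subtype_le _
    have hS0Q1 : S0 ≤ Q1 := by
      intro x hx
      exact ⟨⟨x, hN hx⟩, hQ (by simpa [mem_subgroupOf] using hx), rfl⟩
    have hQ12 : IsPGroup 2 Q1 := Q.isPGroup'.map _
    obtain ⟨P', hP'⟩ := hQ12.exists_le_sylow
    have hne : S0 ≠ Q1 := by
      intro hEq
      obtain ⟨x, hx, hxS⟩ := hout
      apply hxS
      have : (x : G) ∈ Q1 := ⟨x, hx, rfl⟩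
      rw [← hEq] at this
      exact this
    have hidx := relIndex_two h.toPre hbig
    have hcard1 := Lib.SylowNormalInf.card_mul_relIndex S0 (P : Subgroup G) h.S_le
    have hcard2 := Lib.SylowNormalInf.card_mul_relIndex S0 (P' : Subgroup G) (hS0Q1.trans hP')
    have hcardP : Nat.card (P : Subgroup G) = Nat.card (P' : Subgroup G) := by
      rw [P.card_eq_multiplicity, P'.card_eq_multiplicity]
    have hidx' : S0.relIndex (P' : Subgroup G) = 2 := by
      rw [← hcardP, ← hcard1, hidx] at hcard2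
      exact Nat.eq_of_mul_eq_mul_left Nat.card_pos hcard2
    have hmul := Subgroup.relIndex_mul_relIndex S0 Q1 (P' : Subgroup G) hS0Q1 hP'
    rw [hidx'] at hmul
    have hne1 : S0.relIndex Q1 ≠ 1 := by
      intro h1
      exact hne (le_antisymm hS0Q1 (Subgroup.relIndex_eq_one.1 h1))
    have hQP : Q1.relIndex (P' : Subgroup G) = 1 := by
      have h1 : S0.relIndex Q1 ∣ 2 := ⟨_, hmul.symm⟩
      rcases (Nat.dvd_prime Nat.prime_two).1 h1 with h2 | h2
      · exact absurd h2 hne1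
      · rw [h2] at hmul
        omega
    have hQP' : Q1 = (P' : Subgroup G) := le_antisymm hP' (Subgroup.relIndex_eq_one.1 hQP)
    have hS0P' : S0 ≤ (P' : Subgroup G) := hS0Q1.trans hP'
    have hP'N : (P' : Subgroup G) ≤ N := by rw [← hQP']; exact hQ1N
    have hcm : (P' : Subgroup G).comap N.subtype = (Q : Subgroup N) := by
      rw [← hQP', hQ1, comap_map_eq_self_of_injective N.subtype_injective]
    obtain ⟨W', h'⟩ := conf_other h hbig hS0P'
    obtain ⟨t, ht, ht1, htP⟩ := h'.exists_t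
    refine ⟨t, ht, ht1, ?_, ?_⟩
    · intro x hx
      apply htP
      rw [← hQP']
      exact ⟨x, hx, rfl⟩
    · intro F1 F2 _ _ _ _ L H
      obtain ⟨⟨W1, c1, w1, i1⟩, ⟨W2, c2, w2, i2⟩⟩ := conf_all h hbig hS0P' ht ht1 htP H hm e
      have hr : (P' : Subgroup G) ≤ N.subtype.range := by rwa [range_subtype]
      have key : ∀ {W1 : Subgroup G} {M : Subgroup (XX t)}, Conf (P' : Subgroup G) S0 A W1 V →
          Cfsg.IsWreathed W1 → IsW t (P' : Subgroup G) A W1 M →
          ∃ W1 : Subgroup N, Conf (Q : Subgroup N) (S0.subgroupOf N) (A.subgroupOf N) W1 (V.subgroupOf N) ∧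
            Cfsg.IsWreathed W1 ∧ ∀ x ∈ (Q : Subgroup N), (x : G) ∈ pre t M → x ∈ W1 := by
        intro W1 M c1 w1 i1
        refine ⟨W1.comap N.subtype, ?_, ?_, ?_⟩
        · have h1 := c1.comap N.subtype N.subtype_injective hr
          rw [hcm] at h1
          exact h1
        · exact isWreathed_congr (subgroupOfEquivOfLe (c1.W_le.trans hP'N)).symm w1
        · intro x hx hxM
          change (x : G) ∈ W1
          rw [i1]
          refine ⟨?_, 1, A.one_mem, ?_⟩
          · rw [← hQP']; exact ⟨x, hx, rfl⟩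
          · rw [inv_one, mul_one]; exact hxM
      exact ⟨key c1 w1 i1, key c2 w2 i2⟩

/-- all involutions conjugate and `LocHyp`: the frame -/
structure FrameData (P : Sylow 2 G) (S0 A W V : Subgroup G) (m : ℕ) : Prop where
  conf : Conf (P : Subgroup G) S0 A W V
  big : ∃ x ∈ (P : Subgroup G), x ∉ S0
  fused : Fused S0 V
  hm : 2 ≤ m
  eA : Nonempty (A ≃* Multiplicative (ZMod (2 ^ m) × ZMod (2 ^ m)))

theorem exists_frame [Finite G] (hcl : ∀ a b : G, orderOf a = 2 → orderOf b = 2 → ∃ g : G, g * a * g⁻¹ = b)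
    (hL : ∀ v : G, orderOf v = 2 → LocHyp v) (P : Sylow 2 G) (hP : ∃ t : G, orderOf t = 2) :
    ∃ (S0 A W V : Subgroup G) (m : ℕ), FrameData P S0 A W V m := by
  have : Fact (Nat.Prime 2) := ⟨Nat.prime_two⟩
  -- a central involution of `P`
  obtain ⟨t0, ht0⟩ := hP
  have hdvd : 2 ∣ Nat.card G := by
    rw [← ht0]; exact orderOf_dvd_natCard t0
  have hPn : Nontrivial (P : Subgroup G) := by
    rw [Subgroup.nontrivial_iff_ne_bot]
    intro hbot
    exact P.ne_bot_of_dvd_card hdvd hbot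
  have hcn : Nontrivial (center (P : Subgroup G)) := P.isPGroup'.center_nontrivial
  have hc2 : IsPGroup 2 (center (P : Subgroup G)) := P.isPGroup'.to_subgroup _
  have hcd : 2 ∣ Nat.card (center (P : Subgroup G)) := by
    rcases hc2.card_eq_or_dvd with h1 | h1
    · have := Finite.one_lt_card (α := center (P : Subgroup G))
      omega
    · exact h1
  obtain ⟨z, hz⟩ := exists_prime_orderOf_dvd_card' 2 hcd
  set t : G := ((z : (P : Subgroup G)) : G) with ht
  have hto : orderOf t = 2 := by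
    rw [ht, Subgroup.orderOf_coe, Subgroup.orderOf_coe, hz]
  have htP : ∀ x ∈ (P : Subgroup G), x * t = t * x := by
    intro x hx
    have h1 := Subgroup.mem_center_iff.1 z.2 ⟨x, hx⟩
    exact congrArg Subtype.val h1
  have ht1 : t ≠ 1 := by
    intro h1
    rw [h1, orderOf_one] at hto
    norm_num at hto
  have htm : t ∈ (P : Subgroup G) := z.1.2
  obtain ⟨F1, F2, _, _, _, _, L, H⟩ := hL t hto
  obtain ⟨S0, A, V, W1, W2, o⟩ := exists_out P ht1 htm htP L (hsyl H)
  have hf : Fused S0 V := by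
    refine fused o.pre1 o.big o.t_mem ht1 htP ?_
    intro s hs hs1
    exact hcl s t (orderOf_eq_prime (by rw [pow_two]; exact o.pre1.sqV hs) hs1) hto
  have hc := conf_of_fused o.pre1 hf o.t_mem ht1 o.root_t
  obtain ⟨x, hxo, hxS, hxV⟩ := hf
  obtain ⟨⟨m, hm, hA⟩, -⟩ := Homo.homocyclic_root (P.isPGroup'.to_le hc.A_le_P) hc.comm hc.V_le hc.memV hc.cardV
    (x := x) (fun a ha => hc.conjA hxS ha) (fun v hv hv1 => (hxV v hv hv1).2) hc.four
  exact ⟨S0, A, W1, V, m, ⟨hc, o.big, ⟨x, hxo, hxS, hxV⟩, hm, hA⟩⟩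

end Cfsg.Agent.GTwoOdd.Core.FrameG
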