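import Cfsg.Agent.GTwoOdd.Core.FrameG

/-!
# `Conf` for the Sylow 2-subgroups of `G`
-/

set_option autoImplicit false

namespace Cfsg.Agent.GTwoOdd.Core.FrameG

open Subgroup Cfsg.Agent.Lib.GoldschmidtFusion
open Cfsg.Agent.GTwoOdd.Core.OddG Cfsg.Agent.GTwoOdd.Core.OddLoc

variable {G : Type*} [Group G]

/-- index two -/
theorem relIndex_two {P S0 A W1 V : Subgroup G} (h : Pre P S0 A W1 V) (hbig : ∃ x ∈ P, x ∉ S0) :
    S0.relIndex P = 2 := by
  rw [Subgroup.relIndex_eq_two_iff_exists_notMem_and]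
  obtain ⟨x, hx, hxS⟩ := hbig
  refine ⟨x, hx, hxS, fun b hb => ?_⟩
  by_cases hbS : b ∈ S0
  · exact Or.inr hbS
  · exact Or.inl (h.idxS b hb hbS x hx hxS)

/-- a subgroup of index two is normalised -/
theorem norm_of_relIndex_two {P S : Subgroup G} (h : S.relIndex P = 2) :
    ∀ x ∈ P, ∀ y ∈ S, y ∈ P → x * y * x⁻¹ ∈ S := by
  intro x hx y hy hyP
  have hn : (S.subgroupOf P).Normal := Subgroup.normal_of_index_eq_two h
  have := hn.conj_mem ⟨y, hyP⟩ hy ⟨x, hx⟩
  exact this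

/-- the involutions in the centre of `P` -/
theorem eq_of_central {P S0 A W1 V : Subgroup G} (h : Pre P S0 A W1 V) (hbig : ∃ x ∈ P, x ∉ S0) {t : G} (ht : t ∈ V)
    (ht1 : t ≠ 1) (htP : ∀ x ∈ P, x * t = t * x) {z : G} (hz : z ∈ P) (hz1 : z ≠ 1) (hz2 : z * z = 1)
    (hzP : ∀ x ∈ P, x * z = z * x) : z = t := by
  obtain ⟨x, hx, hxS⟩ := hbig
  have hzS : z ∈ S0 := h.cent z hz (fun v hv => (hzP v (h.V_le_P hv)).symm)
  have hzA : z ∈ A := by
    by_contra hc
    obtain ⟨c, hc1, hc2⟩ := h.four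
    have h1 := h.inv z hzS hc c hc1
    apply hc2
    have h2 : z * c * z⁻¹ = c := by rw [← hzP c (h.A_le_P hc1)]; group
    rw [h2] at h1
    nth_rw 2 [h1]
    group
  rcases h.eq_of_comm ht ht1 htP hx hxS (h.mem_V_of_A hzA hz2) (hzP x hx) with h1 | h1
  · exact absurd h1 hz1
  · exact h1

/-- fusion of `V` -/
theorem fused [Finite G] {P : Sylow 2 G} {S0 A W1 V : Subgroup G} (h : Pre (P : Subgroup G) S0 A W1 V)
    (hbig : ∃ x ∈ (P : Subgroup G), x ∉ S0) {t : G} (ht : t ∈ V)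
    (ht1 : t ≠ 1) (htP : ∀ x ∈ (P : Subgroup G), x * t = t * x)
    (hcl : ∀ s ∈ V, s ≠ 1 → ∃ g : G, g * s * g⁻¹ = t) : Fused S0 V := by
  have : Fact (Nat.Prime 2) := ⟨Nat.prime_two⟩
  obtain ⟨s, hs, hs1, hst⟩ := h.exists_ne' t
  obtain ⟨g0, hg0⟩ := hcl s hs hs1
  obtain ⟨k, hk, hkS⟩ := exists_align P htP hg0 S0 (P.isPGroup'.to_le h.S_le) (fun r hr => h.S_cent hr hs)
  -- `S1 = k S0 k⁻¹` has index 2 in `P`
  have hidx := relIndex_two h hbig
  set S1 : Subgroup G := S0.map (MulAut.conj k).toMonoidHom with hS1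
  have hS1P : S1 ≤ (P : Subgroup G) := by
    rintro _ ⟨r, hr, rfl⟩
    exact hkS r hr
  have hcard1 := Lib.SylowNormalInf.card_mul_relIndex S0 (P : Subgroup G) h.S_le
  have hcard2 := Lib.SylowNormalInf.card_mul_relIndex S1 (P : Subgroup G) hS1P
  have hidx1 : S1.relIndex (P : Subgroup G) = 2 := by
    rw [hS1, card_map_conj, ← hcard1, hidx] at hcard2
    exact Nat.eq_of_mul_eq_mul_left Nat.card_pos hcard2
  have hn := norm_of_relIndex_two hidx1
  -- an element of `k⁻¹ P k` moving `t`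
  have hex : ∃ x ∈ (P : Subgroup G), (k⁻¹ * x * k) * t ≠ t * (k⁻¹ * x * k) := by
    by_contra hc
    push Not at hc
    have htS : t ∈ S0 := h.V_le_S ht
    have h1 := eq_of_central h hbig ht ht1 htP (z := k * t * k⁻¹) (hkS t htS) (by
      intro h2
      apply ht1
      have := mul_inv_eq_one.1 h2
      simpa using this) (by
      calc k * t * k⁻¹ * (k * t * k⁻¹) = k * (t * t) * k⁻¹ := by group
        _ = 1 := by rw [h.sqV ht]; group) (by
      intro x hx
      have h2 := hc x hx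
      calc x * (k * t * k⁻¹) = k * ((k⁻¹ * x * k) * t) * k⁻¹ := by group
        _ = k * (t * (k⁻¹ * x * k)) * k⁻¹ := by rw [h2]
        _ = k * t * k⁻¹ * x := by group)
    apply hst
    have h2 : k * t * k⁻¹ = k * s * k⁻¹ := by rw [h1, hk]
    exact (mul_left_cancel (mul_right_cancel h2)).symm
  obtain ⟨x, hx, hxt⟩ := hex
  set b := k⁻¹ * x * k with hb
  have hbs : b * s * b⁻¹ = s := by
    have h1 := htP x hx
    have h2 : s = k⁻¹ * t * k := by rw [← hk]; group
    calc b * s * b⁻¹ = k⁻¹ * (x * t) * x⁻¹ * k := by rw [hb, h2]; group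
      _ = k⁻¹ * (t * x) * x⁻¹ * k := by rw [h1]
      _ = k⁻¹ * t * k := by group
      _ = s := h2.symm
  have hbS : ∀ y ∈ S0, b * y * b⁻¹ ∈ S0 := by
    intro y hy
    have h1 := hn x hx (k * y * k⁻¹) (conj_mem_map_conj hy k) (hkS y hy)
    rw [hS1, mem_map_conj] at h1
    have h2 : k⁻¹ * (x * (k * y * k⁻¹) * x⁻¹) * k = b * y * b⁻¹ := by rw [hb]; group
    rwa [h2] at h1
  obtain ⟨x1, hx1, hx1S⟩ := hbig
  have hts : t ≠ s := Ne.symm hst
  have hbt' : b * t * b⁻¹ = t * s := by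
    have h3 := h.conjV hbS ht
    rcases h.V_elim ht hs ht1 hs1 hts h3 with h4 | h4 | h4 | h4
    · exfalso
      apply ht1
      have := mul_inv_eq_one.1 h4
      simpa using this
    · exact absurd (mul_inv_eq_iff_eq_mul.1 h4) hxt
    · exfalso
      have h5 : b * t * b⁻¹ = b * s * b⁻¹ := by rw [h4, hbs]
      exact hts (mul_left_cancel (mul_right_cancel h5))
    · exact h4
  have hxt' : x1 * t * x1⁻¹ = t := by rw [htP x1 hx1]; group
  have hxe : x1 * s * x1⁻¹ = s * t := h.moves ht ht1 htP hx1 hx1S hs hs1 hst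
  have hcet := h.commV hs ht
  have htt := h.sqV ht
  have hss := h.sqV hs
  refine h.fused_of_cycle (x := b * x1) (a := t) (b := t * s) ?_ ht (V.mul_mem ht hs) ht1 ?_ ?_ ?_ ?_ ?_
  · intro y hy
    have h3 : b * x1 * y * (b * x1)⁻¹ = b * (x1 * y * x1⁻¹) * b⁻¹ := by group
    rw [h3]
    exact hbS _ (h.P_norm hx1 y hy)
  · intro h3
    apply hst
    have := eq_inv_of_mul_eq_one_right h3
    rw [this, h.invV ht]
  · intro h3
    exact hs1 (by simpa using h3.symm)
  · calc b * x1 * t * (b * x1)⁻¹ = b * (x1 * t * x1⁻¹) * b⁻¹ := by group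
      _ = t * s := by rw [hxt', hbt']
  · calc b * x1 * (t * s) * (b * x1)⁻¹ = b * ((x1 * t * x1⁻¹) * (x1 * s * x1⁻¹)) * b⁻¹ := by group
      _ = b * (t * (s * t)) * b⁻¹ := by rw [hxt', hxe]
      _ = b * (t * (t * s)) * b⁻¹ := by rw [hcet]
      _ = b * s * b⁻¹ := by rw [← mul_assoc t t s, htt, one_mul]
      _ = t * (t * s) := by rw [hbs, ← mul_assoc, htt, one_mul]
  · calc b * x1 * (t * (t * s)) * (b * x1)⁻¹ = b * (x1 * ((t * t) * s) * x1⁻¹) * b⁻¹ := by group
      _ = b * (x1 * s * x1⁻¹) * b⁻¹ := by rw [htt, one_mul]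
      _ = b * (s * t) * b⁻¹ := by rw [hxe]
      _ = (b * s * b⁻¹) * (b * t * b⁻¹) := by group
      _ = s * (t * s) := by rw [hbs, hbt']
      _ = t * (s * s) := by rw [← mul_assoc, hcet, mul_assoc]
      _ = t := by rw [hss, mul_one]

/-- square roots -/
theorem conf_of_fused {P S0 A W1 V : Subgroup G} (h : Pre P S0 A W1 V) (hf : Fused S0 V) {t : G} (ht : t ∈ V)
    (ht1 : t ≠ 1) (hr : ∃ c ∈ A, c * c = t) : Conf P S0 A W1 V where
  toPre := h
  root := by
    obtain ⟨c, hc, hct⟩ := hr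
    intro v hv
    by_cases hv1 : v = 1
    · exact ⟨1, A.one_mem, by rw [hv1, mul_one]⟩
    obtain ⟨g, hg, hgS⟩ := h.conj_of_fused' hf ht hv ht1 hv1
    refine ⟨g * c * g⁻¹, h.conjA hgS hc, ?_⟩
    calc g * c * g⁻¹ * (g * c * g⁻¹) = g * (c * c) * g⁻¹ := by group
      _ = v := by rw [hct, hg]

/-- uniqueness of `V`, `S0`, `A` -/
theorem unique [Finite G] {P S0 A W V S0' A' W' V' : Subgroup G} (h : Conf P S0 A W V) (h' : Pre P S0' A' W' V')
    {t : G} (ht : t ∈ V) (ht' : t ∈ V') (ht1 : t ≠ 1) (htP : ∀ x ∈ P, x * t = t * x) :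
    V' = V ∧ S0' = S0 ∧ A' = A := by
  have hn : ∀ x ∈ P, ∀ v ∈ V', x * v * x⁻¹ ∈ V' := fun x hx v hv => h'.conjV (h'.P_norm hx) hv
  have hcardle : ∀ {U U' : Subgroup G}, Nat.card U = 4 → Nat.card U' = 4 → U ≤ U' → U = U' := by
    intro U U' h1 h2 h3
    exact Subgroup.eq_of_le_of_card_ge h3 (by rw [h1, h2])
  have hV : V' = V := by
    by_contra hne
    have hnle : ¬ V' ≤ V := fun h1 => hne (hcardle h'.cardV h.cardV h1)
    obtain ⟨s', hs', hs'V⟩ := SetLike.not_le_iff_exists.1 hnle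
    have hs'P := h'.V_le_P hs'
    have hs'2 := h'.sqV hs'
    obtain ⟨s, hs, hs1, hst⟩ := h.exists_ne' t
    obtain ⟨c, hc, hcs⟩ := h.root s hs
    have hcP := h.A_le_P hc
    by_cases hs'S : s' ∈ S0
    · by_cases hs'A : s' ∈ A
      · exact hs'V (h.mem_V_of_A hs'A hs'2)
      · have h1 := hn c hcP s' hs'
        rw [h.conj_root hc hs'S hs'A, hcs] at h1
        have hsV' : s ∈ V' := by
          have h2 := V'.mul_mem h1 (V'.inv_mem hs')
          simpa using h2
        have h3 : V ≤ V' := by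
          intro v hv
          rcases h.V_elim ht hs ht1 hs1 (Ne.symm hst) hv with rfl | rfl | rfl | rfl
          · exact V'.one_mem
          · exact ht'
          · exact hsV'
          · exact V'.mul_mem ht' hsV'
        exact hne (hcardle h.cardV h'.cardV h3).symm
    · -- `s'` outside `S0`
      have h1 : s' * (c * s'⁻¹ * c⁻¹) ∈ V' := V'.mul_mem hs' (hn c hcP _ (V'.inv_mem hs'))
      have h2 : s' * (c * s'⁻¹ * c⁻¹) = (s' * c * s'⁻¹) * c⁻¹ := by group
      have h3 : (s' * c * s'⁻¹) * c⁻¹ ∈ A := A.mul_mem (h.conjA (h.P_norm hs'P) hc) (A.inv_mem hc)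
      rw [h2] at h1
      have h4 : (s' * c * s'⁻¹) * c⁻¹ ∈ V := h.mem_V_of_A h3 (h'.sqV h1)
      have h5 := h.eq_of_comm ht ht1 htP hs'P hs'S h4 (h'.commV hs' h1)
      have hmv := h.moves ht ht1 htP hs'P hs'S hs hs1 hst
      have h6 : s' * s * s'⁻¹ = (s' * c * s'⁻¹) * (s' * c * s'⁻¹) := by rw [← hcs]; group
      apply ht1
      rcases h5 with h7 | h7
      · have h8 : s' * c * s'⁻¹ = c := mul_inv_eq_one.1 h7
        rw [h8, hcs, hmv] at h6
        simpa using h6
      · have h8 : s' * c * s'⁻¹ = t * c := mul_inv_eq_iff_eq_mul.1 h7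
        have h9 : t * c * (t * c) = c * c := by
          have h10 : c * t = t * c := htP c hcP
          calc t * c * (t * c) = t * (c * t) * c := by group
            _ = t * (t * c) * c := by rw [h10]
            _ = (t * t) * (c * c) := by group
            _ = c * c := by rw [h.sqV ht, one_mul]
        rw [h8, h9, hcs, hmv] at h6
        simpa using h6
  subst hV
  have hS : S0' = S0 := by
    ext x
    constructor
    · intro hx
      exact h.cent x (h'.S_le hx) (fun v hv => h'.S_cent hx hv)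
    · intro hx
      exact h'.cent x (h.S_le hx) (fun v hv => h.S_cent hx hv)
  subst hS
  refine ⟨rfl, rfl, ?_⟩
  ext a
  constructor
  · intro ha
    by_contra hc
    exact hc (h.V_le (h'.mem_V_of_A ha (h.inv2 a (h'.A_le ha) hc)))
  · intro ha
    by_contra hc
    exact hc (h'.V_le (h.mem_V_of_A ha (h'.inv2 a (h.A_le ha) hc)))

/-- `Conf` for the other Sylow subgroups containing `S0` -/
theorem conf_other [Finite G] {P : Sylow 2 G} {S0 A W1 V : Subgroup G} (h : Conf (P : Subgroup G) S0 A W1 V)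
    (hbig : ∃ x ∈ (P : Subgroup G), x ∉ S0) {P' : Sylow 2 G} (hP' : S0 ≤ (P' : Subgroup G)) :
    ∃ W, Conf (P' : Subgroup G) S0 A W V := by
  have : Fact (Nat.Prime 2) := ⟨Nat.prime_two⟩
  have hidx := relIndex_two h.toPre hbig
  have hcard1 := Lib.SylowNormalInf.card_mul_relIndex S0 (P : Subgroup G) h.S_le
  have hcard2 := Lib.SylowNormalInf.card_mul_relIndex S0 (P' : Subgroup G) hP'
  have hcardP : Nat.card (P : Subgroup G) = Nat.card (P' : Subgroup G) := by
    rw [P.card_eq_multiplicity, P'.card_eq_multiplicity]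
  have hidx' : S0.relIndex (P' : Subgroup G) = 2 := by
    rw [← hcardP, ← hcard1, hidx] at hcard2
    exact Nat.eq_of_mul_eq_mul_left Nat.card_pos hcard2
  have hPN : (P : Subgroup G) ≤ normalizer (S0 : Set G) :=
    OddG.le_normalizer_of (fun x hx y hy => h.P_norm hx y hy)
  have hPN' : (P' : Subgroup G) ≤ normalizer (S0 : Set G) :=
    OddG.le_normalizer_of (fun x hx y hy => norm_of_relIndex_two hidx' x hx y hy (hP' hy))
  have hi : ¬ 2 ∣ (P' : Subgroup G).relIndex (normalizer (S0 : Set G)) := by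
    intro h2
    exact P'.not_dvd_index (h2.trans (relIndex_dvd_index_of_le hPN'))
  obtain ⟨k, hk, hkP⟩ := exists_conj_le_in (p := 2) P'.isPGroup' hi hPN P.isPGroup'
  have hkP' : (P : Subgroup G).map (MulAut.conj k).toMonoidHom = (P' : Subgroup G) :=
    Subgroup.eq_of_le_of_card_ge hkP (by rw [card_map_conj, hcardP])
  have hkS : ∀ y ∈ S0, k * y * k⁻¹ ∈ S0 := fun y hy => (mem_normalizer_iff.1 hk y).1 hy
  have hinj : Function.Injective (MulAut.conj k).toMonoidHom := (MulAut.conj k).injective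
  have h1 := h.map (MulAut.conj k).toMonoidHom hinj
  have h2 : S0.map (MulAut.conj k).toMonoidHom = S0 := mem_normalizer_iff_map_conj.1 hk
  have h3 : A.map (MulAut.conj k).toMonoidHom = A := by
    apply map_conj_le_of_le_normalizer
    rintro _ ⟨a, ha, rfl⟩
    exact h.conjA hkS ha
  have h4 : V.map (MulAut.conj k).toMonoidHom = V := by
    apply map_conj_le_of_le_normalizer
    rintro _ ⟨a, ha, rfl⟩
    exact h.conjV hkS ha
  rw [hkP', h2, h3, h4] at h1
  exact ⟨_, h1⟩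

end Cfsg.Agent.GTwoOdd.Core.FrameG
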