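import Cfsg.Agent.GTwoOdd.Core.OddX

/-!
# The normaliser of an `r`-subgroup of `L2` in `C(v)/O(C(v))`

* `no_three`: if `g`, `z`, `z'` normalise an `r`-subgroup `R ≠ 1` of `L_i` (`r` odd), `z² = z'² = 1`,
  `g : z → z' → z z'`, then `z` centralises `L_i`; `Hyp.no_three2`, `Hyp.no_three1`: then `z = 1`;
* `Hyp.in_w2`, `Hyp.in_w1`: if `c` normalises `R ≤ L2` and the involution `s ≠ t` centralises `R`, then
  `c s c⁻¹ s⁻¹ ∈ L1`.
-/

set_option autoImplicit false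

namespace Cfsg.Agent.GTwoOdd

open Matrix

section one

variable {X : Type*} [Group X] {F : Type*} [Field F] {e : SL2 F →* X}

theorem Triv.of_conj {g k : X} (hg : ∀ x, ∃ y, g * e x = e y * g) (hk : Triv e (g * k * g⁻¹)) : Triv e k := by
  intro x
  obtain ⟨y, hy⟩ := hg x
  have h1 := hk y
  have h3 : g * k * e x = g * (e x * k) := by
    calc g * k * e x = g * k * g⁻¹ * (g * e x) := by group
      _ = (g * k * g⁻¹ * e y) * g := by rw [hy]; group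
      _ = (e y * g) * k := by rw [h1]; group
      _ = g * (e x * k) := by rw [← hy]; group
  rw [mul_assoc] at h3
  exact mul_left_cancel h3

/-- an `r`-subgroup `R` of the image of `e`: `k` commutes with `R` iff its matrix commutes with the axis -/
theorem comm_axis_iff (he : Function.Injective e) {R : Subgroup X} (hRe : ∀ c ∈ R, ∃ x, e x = c)
    (hnt : ∃ c ∈ R, ¬ Triv e c) {z : M2 F}
    (h1 : ∀ c ∈ R, ∀ A, Acts e c A → ∃ a b : F, A = a • (1 : M2 F) + b • z) {k : X} {K : M2 F}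
    (hk : Acts e k K) : (∀ c ∈ R, k * c = c * k) ↔ K * z = z * K := by
  constructor
  · intro h
    obtain ⟨c, hc, hct⟩ := hnt
    obtain ⟨x, rfl⟩ := hRe c hc
    obtain ⟨a, b, hab⟩ := h1 _ hc _ (Acts.self x)
    have hb : b ≠ 0 := by
      rintro rfl
      apply hct
      rw [(Acts.self (e := e) x).triv_iff he]
      exact ⟨a, by rw [hab, zero_smul, add_zero]⟩
    obtain ⟨y, hy⟩ := exists_cj hk.1 x
    have h4 := hk.2 x y hy
    rw [h _ hc] at h4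
    have h5 : x = y := he (mul_right_cancel h4)
    rw [← h5] at hy
    rw [hab, add_mul, mul_add, Matrix.smul_mul, Matrix.mul_smul, one_mul, mul_one, Matrix.smul_mul,
      Matrix.mul_smul] at hy
    exact (smul_cancel hb (add_left_cancel hy)).symm
  · intro h c hc
    obtain ⟨x, rfl⟩ := hRe c hc
    obtain ⟨a, b, hab⟩ := h1 _ hc _ (Acts.self x)
    apply hk.2
    exact comm_of_axis hab h

/-- **One factor**: `z`, `z'`, `z z'` cannot be permuted transitively by `g`, unless `z` centralises the factor -/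
theorem triv_of_three (h2 : (2 : F) ≠ 0) (he : Function.Injective e) {r : ℕ} (hr : r.Prime) (hr2 : r ≠ 2)
    {R : Subgroup X} [Finite R] (hR : IsPGroup r R) (hRe : ∀ c ∈ R, ∃ x, e x = c) (hnt : ∃ c ∈ R, ¬ Triv e c)
    {g z z' : X} {Z Z' : M2 F} (hg : ∀ x, ∃ y, g * e x = e y * g) (hgR : ∀ c ∈ R, g⁻¹ * c * g ∈ R)
    (hgR' : ∀ c ∈ R, g * c * g⁻¹ ∈ R)
    (hzR : ∀ c ∈ R, z * c * z⁻¹ ∈ R) (hzR' : ∀ c ∈ R, z' * c * z'⁻¹ ∈ R) (hZ : Acts e z Z) (hZ' : Acts e z' Z')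
    (hz : z * z = 1) (hz' : z' * z' = 1) (h1 : g * z * g⁻¹ = z') (h3 : g * z' * g⁻¹ = z * z') : Triv e z := by
  obtain ⟨z0, hz0, hz0t, k1, k3⟩ := exists_axis h2 he hr hr2 R hR
    (fun c hc => by obtain ⟨x, rfl⟩ := hRe c hc; exact ⟨x, Acts.self x⟩) hnt
  by_contra hzt
  have hz't : ¬ Triv e z' := fun h => hzt (Triv.of_conj hg (by rw [h1]; exact h))
  have hzzt : ¬ Triv e (z * z') := fun h => hz't (Triv.of_conj hg (by rw [h3]; exact h))
  have sq : ∀ {k : X} {K : M2 F}, Acts e k K → k * k = 1 → ∃ a : F, a ≠ 0 ∧ K * K = a • (1 : M2 F) := by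
    intro k K hK hk
    have h5 := hK.mul hK
    rw [hk] at h5
    exact Acts.one.proportional he h5
  obtain ⟨a, ha, haZ⟩ := sq hZ hz
  obtain ⟨a', ha', haZ'⟩ := sq hZ' hz'
  have tr : ∀ {k : X} {K : M2 F} {a : F}, Acts e k K → ¬ Triv e k → K * K = a • (1 : M2 F) → K.trace = 0 := by
    intro k K a hK hk h
    apply trace_of_sq_scalar h
    intro b hb
    exact hk ((hK.triv_iff he).2 ⟨b, hb⟩)
  have hZt := tr hZ hzt haZ
  have hZt' := tr hZ' hz't haZ'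
  obtain ⟨c, hc⟩ := k3 z Z hzR hZ
  obtain ⟨c', hc'⟩ := k3 z' Z' hzR' hZ'
  have iff1 := comm_axis_iff he hRe hnt k1 hZ
  have iff2 := comm_axis_iff he hRe hnt k1 hZ'
  have iff3 := comm_axis_iff he hRe hnt k1 (hZ.mul hZ')
  -- conjugation by `g`
  have cj : ∀ {k : X}, (∀ c ∈ R, k * c = c * k) → ∀ c ∈ R, (g * k * g⁻¹) * c = c * (g * k * g⁻¹) := by
    intro k hk c hc
    have h5 := hk _ (hgR c hc)
    calc (g * k * g⁻¹) * c = g * (k * (g⁻¹ * c * g)) * g⁻¹ := by group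
      _ = g * ((g⁻¹ * c * g) * k) * g⁻¹ := by rw [h5]
      _ = c * (g * k * g⁻¹) := by group
  have cj' : ∀ {k : X}, (∀ c ∈ R, (g * k * g⁻¹) * c = c * (g * k * g⁻¹)) → ∀ c ∈ R, k * c = c * k := by
    intro k hk c hc
    have h5 := hk _ (hgR' c hc)
    calc k * c = g⁻¹ * ((g * k * g⁻¹) * (g * c * g⁻¹)) * g := by group
      _ = g⁻¹ * ((g * c * g⁻¹) * (g * k * g⁻¹)) * g := by rw [h5]
      _ = c * k := by group
  have hcase1 : Z * z0 = z0 * Z → False := by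
    intro h
    have h5 := iff1.2 h
    have h6 := cj h5
    rw [h1] at h6
    have h7 := iff2.1 h6
    obtain ⟨b, hb⟩ := prop_of_comm h2 hz0 hz0t hZt h
    obtain ⟨b', hb'⟩ := prop_of_comm h2 hz0 hz0t hZt' h7
    apply hzzt
    rw [(hZ.mul hZ').triv_iff he]
    refine ⟨b * b' * (-z0.det), ?_⟩
    rw [hb, hb', Matrix.smul_mul, Matrix.mul_smul, m2_sq_of_trace hz0t, smul_smul, smul_smul]
  rcases sign_of_sq ha haZ hz0 hc with rfl | rfl
  · exact hcase1 (by rw [hc, one_smul])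
  · rcases sign_of_sq ha' haZ' hz0 hc' with rfl | rfl
    · have h5 := iff2.2 (by rw [hc', one_smul])
      have h6 := cj h5
      rw [h3] at h6
      apply hcase1
      apply iff1.1
      intro c hc
      have h7 : z = z * z' * z' := by rw [mul_assoc, hz', mul_one]
      rw [h7, mul_assoc (z * z'), h5 c hc, ← mul_assoc, h6 c hc, mul_assoc]
    · have h5 : Z * Z' * z0 = z0 * (Z * Z') := by
        rw [mul_assoc, hc', neg_one_smul, mul_neg, ← mul_assoc, hc, neg_one_smul, neg_mul, neg_neg, mul_assoc]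
      have h6 := iff3.2 h5
      rw [← h3] at h6
      have h7 := cj' h6
      have h8 := iff2.1 h7
      rw [hc', neg_one_smul] at h8
      have h9 : (2 : F) • (z0 * Z') = 0 := by
        rw [two_smul]
        nth_rewrite 1 [← h8]
        exact neg_add_cancel _
      rcases smul_eq_zero.1 h9 with h10 | h10
      · exact h2 h10
      · apply hz0
        have h11 : z0 * Z' = 0 * Z' := by rw [h10, zero_mul]
        exact cancel_right hZ'.1 h11

end one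

namespace LocalSL

variable {X : Type*} [Group X] {t : X} {F1 F2 : Type*} [Field F1] [Field F2] [Finite F1] [Finite F2]
  {L : LocalSL t F1 F2}

set_option linter.unusedSectionVars false

theorem Hyp.eq_one_of_triv_of_three (H : L.Hyp) (hX : ∀ c : X, c * t = t * c) {g z z' : X} (hz : z * z = 1)
    (h1 : g * z * g⁻¹ = z') (h3 : g * z' * g⁻¹ = z * z')
    (h : (∃ A B, L.Rep z A B ∧ A.trace = 0 ∧ B.trace = 0) → False) : z = 1 := by
  by_contra hz1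
  by_cases hzt : z = t
  · subst hzt
    have h4 : z' = z := by rw [← h1, hX g]; group
    rw [h4, h1, h4, hz] at h3
    exact hz1 h3
  · exact h (H.rep_of_invol (hX z) hz hz1 hzt)

/-- a nontrivial `r`-subgroup of `L2` does not centralise `L2` -/
theorem exists_not_triv2 {r : ℕ} (hr : r.Prime) (hr2 : r ≠ 2) {R : Subgroup X} (hR : IsPGroup r R)
    (hRe : ∀ c ∈ R, ∃ x, L.e2 x = c) (hne : ∃ c ∈ R, c ≠ 1) : ∃ c ∈ R, ¬ Triv L.e2 c := by
  obtain ⟨c, hc, hc1⟩ := hne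
  refine ⟨c, hc, fun h => hc1 ?_⟩
  obtain ⟨x, rfl⟩ := hRe c hc
  obtain ⟨k, hk⟩ := hR ⟨_, hc⟩
  exact eq_one_of_triv (e2_t x) (fun y => (L.comm y x).symm) h ((hr.odd_of_ne_two hr2).pow (n := k))
    (by have h9 := congrArg Subtype.val hk; simpa using h9)

/-- a nontrivial `r`-subgroup of `L1` does not centralise `L1` -/
theorem exists_not_triv1 {r : ℕ} (hr : r.Prime) (hr2 : r ≠ 2) {R : Subgroup X} (hR : IsPGroup r R)
    (hRe : ∀ c ∈ R, ∃ x, L.e1 x = c) (hne : ∃ c ∈ R, c ≠ 1) : ∃ c ∈ R, ¬ Triv L.e1 c := by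
  obtain ⟨c, hc, hc1⟩ := hne
  refine ⟨c, hc, fun h => hc1 ?_⟩
  obtain ⟨x, rfl⟩ := hRe c hc
  obtain ⟨k, hk⟩ := hR ⟨_, hc⟩
  exact eq_one_of_triv (e1_t x) h (fun y => L.comm x y) ((hr.odd_of_ne_two hr2).pow (n := k))
    (by have h9 := congrArg Subtype.val hk; simpa using h9)

/-- **NoThree at the level of `X`, `R ≤ L2`** -/
theorem Hyp.no_three2 (H : L.Hyp) (hX : ∀ c : X, c * t = t * c) {r : ℕ} (hr : r.Prime) (hr2 : r ≠ 2)
    {R : Subgroup X} [Finite R] (hR : IsPGroup r R) (hRe : ∀ c ∈ R, ∃ x, L.e2 x = c) (hne : ∃ c ∈ R, c ≠ 1)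
    {g z z' : X} (hgR : ∀ c ∈ R, g⁻¹ * c * g ∈ R) (hgR' : ∀ c ∈ R, g * c * g⁻¹ ∈ R)
    (hzR : ∀ c ∈ R, z * c * z⁻¹ ∈ R) (hzR' : ∀ c ∈ R, z' * c * z'⁻¹ ∈ R)
    (hz : z * z = 1) (hz' : z' * z' = 1) (h1 : g * z * g⁻¹ = z') (h3 : g * z' * g⁻¹ = z * z') : z = 1 := by
  obtain ⟨Z1, Z, hZ⟩ := H.rep_of_mul (hX z) hz
  obtain ⟨Z1', Z', hZ'⟩ := H.rep_of_mul (hX z') hz'
  have h4 := triv_of_three H.two_ne2 L.inj2 hr hr2 hR hRe (exists_not_triv2 hr hr2 hR hRe hne)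
    (H.norm2 g (hX g)) hgR hgR' hzR hzR' hZ.acts2 hZ'.acts2 hz hz' h1 h3
  apply H.eq_one_of_triv_of_three hX hz h1 h3
  rintro ⟨A, B, hAB, hA, hB⟩
  obtain ⟨b, hb⟩ := (hAB.acts2.triv_iff L.inj2).1 h4
  exact not_scalar H.two_ne2 hAB.det2 hB b hb

/-- **NoThree at the level of `X`, `R ≤ L1`** -/
theorem Hyp.no_three1 (H : L.Hyp) (hX : ∀ c : X, c * t = t * c) {r : ℕ} (hr : r.Prime) (hr2 : r ≠ 2)
    {R : Subgroup X} [Finite R] (hR : IsPGroup r R) (hRe : ∀ c ∈ R, ∃ x, L.e1 x = c) (hne : ∃ c ∈ R, c ≠ 1)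
    {g z z' : X} (hgR : ∀ c ∈ R, g⁻¹ * c * g ∈ R) (hgR' : ∀ c ∈ R, g * c * g⁻¹ ∈ R)
    (hzR : ∀ c ∈ R, z * c * z⁻¹ ∈ R) (hzR' : ∀ c ∈ R, z' * c * z'⁻¹ ∈ R)
    (hz : z * z = 1) (hz' : z' * z' = 1) (h1 : g * z * g⁻¹ = z') (h3 : g * z' * g⁻¹ = z * z') : z = 1 := by
  obtain ⟨Z, Z1, hZ⟩ := H.rep_of_mul (hX z) hz
  obtain ⟨Z', Z1', hZ'⟩ := H.rep_of_mul (hX z') hz'
  have h4 := triv_of_three H.two_ne1 L.inj1 hr hr2 hR hRe (exists_not_triv1 hr hr2 hR hRe hne)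
    (H.norm1 g (hX g)) hgR hgR' hzR hzR' hZ.acts1 hZ'.acts1 hz hz' h1 h3
  apply H.eq_one_of_triv_of_three hX hz h1 h3
  rintro ⟨A, B, hAB, hA, hB⟩
  obtain ⟨b, hb⟩ := (hAB.acts1.triv_iff L.inj1).1 h4
  exact not_scalar H.two_ne1 hAB.det1 hA b hb

/-- **InW at the level of `X`, `R ≤ L2`**: `c` normalises `R`, the involution `s ≠ t` centralises `R` -/
theorem Hyp.in_w2 (H : L.Hyp) (hX : ∀ c : X, c * t = t * c) {r : ℕ} (hr : r.Prime) (hr2 : r ≠ 2)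
    {R : Subgroup X} [Finite R] (hR : IsPGroup r R) (hRe : ∀ c ∈ R, ∃ x, L.e2 x = c) (hne : ∃ c ∈ R, c ≠ 1)
    {c s : X} (hcR : ∀ d ∈ R, c⁻¹ * d * c ∈ R) (hs : s * s = 1) (hsR : ∀ d ∈ R, s * d = d * s) :
    ∃ x : SL2 F1, c * s * c⁻¹ * s⁻¹ = L.e1 x := by
  by_cases hs1 : s = 1
  · exact ⟨1, by rw [hs1, map_one]; group⟩
  by_cases hst : s = t
  · refine ⟨1, ?_⟩
    rw [hst, map_one, hX c]
    group
  obtain ⟨D1, D2, hD, hD1, hD2⟩ := H.rep_of_invol (hX s) hs hs1 hst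
  have hnt := exists_not_triv2 hr hr2 hR hRe hne
  obtain ⟨z0, hz0, hz0t, k1, -⟩ := exists_axis H.two_ne2 L.inj2 hr hr2 R hR
    (fun c hc => by obtain ⟨x, rfl⟩ := hRe c hc; exact ⟨x, Acts.self x⟩) hnt
  have hs' : (c * s * c⁻¹) * (c * s * c⁻¹) = 1 := by
    calc (c * s * c⁻¹) * (c * s * c⁻¹) = c * (s * s) * c⁻¹ := by group
      _ = 1 := by rw [hs]; group
  have hs1' : c * s * c⁻¹ ≠ 1 := by
    intro h
    apply hs1
    calc s = c⁻¹ * (c * s * c⁻¹) * c := by group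
      _ = 1 := by rw [h]; group
  have hst' : c * s * c⁻¹ ≠ t := by
    intro h
    apply hst
    calc s = c⁻¹ * (c * s * c⁻¹) * c := by group
      _ = t := by rw [h, mul_assoc, ← hX c]; group
  obtain ⟨D1', D2', hD', hD1', hD2'⟩ := H.rep_of_invol (hX _) hs' hs1' hst'
  have hsR' : ∀ d ∈ R, (c * s * c⁻¹) * d = d * (c * s * c⁻¹) := by
    intro d hd
    have h5 := hsR _ (hcR d hd)
    calc (c * s * c⁻¹) * d = c * (s * (c⁻¹ * d * c)) * c⁻¹ := by group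
      _ = c * ((c⁻¹ * d * c) * s) * c⁻¹ := by rw [h5]
      _ = d * (c * s * c⁻¹) := by group
  have e1 := (comm_axis_iff L.inj2 hRe hnt k1 hD.acts2).1 hsR
  have e2 := (comm_axis_iff L.inj2 hRe hnt k1 hD'.acts2).1 hsR'
  obtain ⟨b, hb⟩ := prop_of_comm H.two_ne2 hz0 hz0t hD2 e1
  obtain ⟨b', hb'⟩ := prop_of_comm H.two_ne2 hz0 hz0t hD2' e2
  have hsinv : s⁻¹ = s := inv_eq_of_mul_eq_one_right hs
  have h5 : Triv L.e2 (c * s * c⁻¹ * s⁻¹) := by
    rw [hsinv, (hD'.mul hD).acts2.triv_iff L.inj2]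
    refine ⟨b' * b * (-z0.det), ?_⟩
    rw [hb, hb', Matrix.smul_mul, Matrix.mul_smul, m2_sq_of_trace hz0t, smul_smul, smul_smul]
  obtain ⟨x, y, hxy⟩ := H.comm_mem c s (hX c) (hX s)
  have h6 : c * s * c⁻¹ * s⁻¹ = L.e1 x * L.e2 y := by rw [hxy]; group
  rw [h6] at h5
  obtain ⟨u, hu⟩ := ((Rep.e12 L x y).acts2.triv_iff L.inj2).1 h5
  have hu1 : u * u = 1 := by
    have := congrArg Matrix.det hu
    rw [det_smul2, sl_coe_det, Matrix.det_one, mul_one] at this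
    exact this.symm
  rcases mul_self_eq_one_iff.1 hu1 with rfl | rfl
  · have hy : y = 1 := Subtype.ext (by rw [hu, one_smul]; rfl)
    exact ⟨x, by rw [h6, hy, map_one, mul_one]⟩
  · have hy : y = -1 := Subtype.ext (by
      rw [hu, neg_one_smul]
      rfl)
    refine ⟨-x, ?_⟩
    rw [h6, hy, Rep.e1_neg, L.neg2]

/-- **InW at the level of `X`, `R ≤ L1`** -/
theorem Hyp.in_w1 (H : L.Hyp) (hX : ∀ c : X, c * t = t * c) {r : ℕ} (hr : r.Prime) (hr2 : r ≠ 2)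
    {R : Subgroup X} [Finite R] (hR : IsPGroup r R) (hRe : ∀ c ∈ R, ∃ x, L.e1 x = c) (hne : ∃ c ∈ R, c ≠ 1)
    {c s : X} (hcR : ∀ d ∈ R, c⁻¹ * d * c ∈ R) (hs : s * s = 1) (hsR : ∀ d ∈ R, s * d = d * s) :
    ∃ x : SL2 F2, c * s * c⁻¹ * s⁻¹ = L.e2 x := by
  by_cases hs1 : s = 1
  · exact ⟨1, by rw [hs1, map_one]; group⟩
  by_cases hst : s = t
  · refine ⟨1, ?_⟩
    rw [hst, map_one, hX c]
    group
  obtain ⟨D1, D2, hD, hD1, hD2⟩ := H.rep_of_invol (hX s) hs hs1 hst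
  have hnt := exists_not_triv1 hr hr2 hR hRe hne
  obtain ⟨z0, hz0, hz0t, k1, -⟩ := exists_axis H.two_ne1 L.inj1 hr hr2 R hR
    (fun c hc => by obtain ⟨x, rfl⟩ := hRe c hc; exact ⟨x, Acts.self x⟩) hnt
  have hs' : (c * s * c⁻¹) * (c * s * c⁻¹) = 1 := by
    calc (c * s * c⁻¹) * (c * s * c⁻¹) = c * (s * s) * c⁻¹ := by group
      _ = 1 := by rw [hs]; group
  have hs1' : c * s * c⁻¹ ≠ 1 := by
    intro h
    apply hs1
    calc s = c⁻¹ * (c * s * c⁻¹) * c := by group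
      _ = 1 := by rw [h]; group
  have hst' : c * s * c⁻¹ ≠ t := by
    intro h
    apply hst
    calc s = c⁻¹ * (c * s * c⁻¹) * c := by group
      _ = t := by rw [h, mul_assoc, ← hX c]; group
  obtain ⟨D1', D2', hD', hD1', hD2'⟩ := H.rep_of_invol (hX _) hs' hs1' hst'
  have hsR' : ∀ d ∈ R, (c * s * c⁻¹) * d = d * (c * s * c⁻¹) := by
    intro d hd
    have h5 := hsR _ (hcR d hd)
    calc (c * s * c⁻¹) * d = c * (s * (c⁻¹ * d * c)) * c⁻¹ := by group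
      _ = c * ((c⁻¹ * d * c) * s) * c⁻¹ := by rw [h5]
      _ = d * (c * s * c⁻¹) := by group
  have e1 := (comm_axis_iff L.inj1 hRe hnt k1 hD.acts1).1 hsR
  have e2 := (comm_axis_iff L.inj1 hRe hnt k1 hD'.acts1).1 hsR'
  obtain ⟨b, hb⟩ := prop_of_comm H.two_ne1 hz0 hz0t hD1 e1
  obtain ⟨b', hb'⟩ := prop_of_comm H.two_ne1 hz0 hz0t hD1' e2
  have hsinv : s⁻¹ = s := inv_eq_of_mul_eq_one_right hs
  have h5 : Triv L.e1 (c * s * c⁻¹ * s⁻¹) := by
    rw [hsinv, (hD'.mul hD).acts1.triv_iff L.inj1]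
    refine ⟨b' * b * (-z0.det), ?_⟩
    rw [hb, hb', Matrix.smul_mul, Matrix.mul_smul, m2_sq_of_trace hz0t, smul_smul, smul_smul]
  obtain ⟨x, y, hxy⟩ := H.comm_mem c s (hX c) (hX s)
  have h6 : c * s * c⁻¹ * s⁻¹ = L.e1 x * L.e2 y := by rw [hxy]; group
  rw [h6] at h5
  obtain ⟨u, hu⟩ := ((Rep.e12 L x y).acts1.triv_iff L.inj1).1 h5
  have hu1 : u * u = 1 := by
    have := congrArg Matrix.det hu
    rw [det_smul2, sl_coe_det, Matrix.det_one, mul_one] at this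
    exact this.symm
  rcases mul_self_eq_one_iff.1 hu1 with rfl | rfl
  · have hy : x = 1 := Subtype.ext (by rw [hu, one_smul]; rfl)
    exact ⟨y, by rw [h6, hy, map_one, one_mul]⟩
  · have hy : x = -1 := Subtype.ext (by
      rw [hu, neg_one_smul]
      rfl)
    refine ⟨-y, ?_⟩
    rw [h6, hy, Rep.e2_neg, L.neg1]
    exact (e2_t y).symm

end LocalSL

end Cfsg.Agent.GTwoOdd
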