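import Cfsg.Agent.GTwoOdd.Core.OddG
import Cfsg.Agent.GTwoOdd.Core.OddThree
import Cfsg.Agent.GTwoOdd.Core.Trans
import Cfsg.Agent.GTwoOdd.Fusion

/-!
# Transfer of the facts on `N(D) ∩ C(v)` from `C(v)/O(C(v))` to `G`

`XX v = C(v)/O(C(v))`, `tt v` the image of `v`, `pre v M` the preimage of `M ≤ XX v` in `G`.

* `exists_lift`: an element of odd order of `XX v` which centralises the image of the `2`-group `V` lifts to an element
  of odd order of `C_G(V)`;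
* `exists_mem_T`: if it is an `r`-element `≠ 1` of a normal subgroup `M` then a Sylow `r`-subgroup `T` of `W_V` contains an
  element with image in `M`, not `1`;
* `exists_ri`: an element of order `r` of the torus gives one in `L1` or in `L2`;
* `noThree`, `inW`: the facts on `N(D) ∩ C(v)`.
-/

set_option autoImplicit false

namespace Cfsg.Agent.GTwoOdd.Core.OddLoc

open Subgroup
open Cfsg.Agent.GTwoOdd.Core.OddG Cfsg.Agent.GTwoOdd.Core.Trans

variable {G : Type*} [Group G]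

/-- `C(v)/O(C(v))` -/
abbrev XX (v : G) : Type _ := centralizer ({v} : Set G) ⧸ Cfsg.pPrimeCore 2 (centralizer ({v} : Set G))

/-- the image of `v` -/
abbrev tt (v : G) : XX v := bar v ⟨v, Subgroup.mem_centralizer_singleton_iff.2 rfl⟩

/-- the preimage in `G` of a subgroup of `C(v)/O(C(v))` -/
def pre (v : G) (M : Subgroup (XX v)) : Subgroup G := (M.comap (bar v)).map (centralizer ({v} : Set G)).subtype

theorem mem_pre {v g : G} {M : Subgroup (XX v)} :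
    g ∈ pre v M ↔ ∃ h : g ∈ centralizer ({v} : Set G), bar v ⟨g, h⟩ ∈ M := by
  constructor
  · rintro ⟨c, hc, rfl⟩
    exact ⟨c.2, hc⟩
  · rintro ⟨h, hc⟩
    exact ⟨⟨g, h⟩, hc, rfl⟩

theorem bar_surjective (v : G) : Function.Surjective (bar v) := QuotientGroup.mk'_surjective _

theorem tt_central (v : G) (c : XX v) : c * tt v = tt v * c := by
  obtain ⟨c, rfl⟩ := bar_surjective v c
  rw [← map_mul, ← map_mul]
  congr 1
  exact Subtype.ext (mem_centralizer_singleton_iff.1 c.2)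

theorem bar_eq_iff {v : G} {c d : centralizer ({v} : Set G)} :
    bar v c = bar v d ↔ (c : G)⁻¹ * d ∈ Cfsg.centralizerPPrimeCore 2 v := by
  rw [← inv_mul_eq_one, ← map_inv, ← map_mul, bar_eq_one_iff, mem_core_iff]
  constructor
  · intro h
    exact ⟨(c⁻¹ * d).2, h⟩
  · rintro ⟨h, h'⟩
    exact h'

/-- the preimage of a cyclic group of odd order has odd order -/
theorem odd_pre_zpowers [Finite G] {v : G} {c : XX v} (hc : Odd (orderOf c)) : Odd (Nat.card (pre v (zpowers c))) := by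
  by_contra h
  rw [Nat.not_odd_iff_even, even_iff_two_dvd] at h
  have : Fact (Nat.Prime 2) := ⟨Nat.prime_two⟩
  obtain ⟨x, hx⟩ := exists_prime_orderOf_dvd_card' 2 h
  have hx2 : (x : G) * x = 1 := by
    have h1 : x ^ 2 = 1 := by
      have h0 := pow_orderOf_eq_one x
      rwa [hx] at h0
    rw [pow_two] at h1
    exact_mod_cast congrArg Subtype.val h1
  obtain ⟨hxv, hxc⟩ := mem_pre.1 x.2
  have h1 : bar v ⟨x, hxv⟩ * bar v ⟨x, hxv⟩ = 1 := by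
    rw [← map_mul]
    have : (⟨x, hxv⟩ : centralizer ({v} : Set G)) * ⟨x, hxv⟩ = 1 := Subtype.ext hx2
    rw [this, map_one]
  have h2 : orderOf (bar v ⟨x, hxv⟩) ∣ orderOf c := by
    rw [← Nat.card_zpowers c]
    exact Subgroup.orderOf_dvd_natCard _ hxc
  have h3 : orderOf (bar v ⟨x, hxv⟩) ∣ 2 := orderOf_dvd_iff_pow_eq_one.2 (by rw [pow_two]; exact h1)
  have h4 : orderOf (bar v ⟨x, hxv⟩) = 1 := by
    rcases (Nat.dvd_prime Nat.prime_two).1 h3 with h5 | h5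
    · exact h5
    · rw [h5] at h2
      exact absurd (even_iff_two_dvd.2 h2) (Nat.not_even_iff_odd.2 hc)
  rw [orderOf_eq_one_iff, bar_eq_one_iff] at h4
  have h5 := eq_one_of_mem_core hx2 (mem_core_iff.2 ⟨hxv, h4⟩)
  have h6 : x = 1 := Subtype.ext h5
  rw [h6, orderOf_one] at hx
  exact absurd hx (by decide)

/-- **lifting** -/
theorem exists_lift [Finite G] {V : Subgroup G} (hV : IsPGroup 2 V) {v : G} (hVv : V ≤ centralizer ({v} : Set G))
    {c : XX v} (hc : Odd (orderOf c)) (hcV : ∀ u (hu : u ∈ V), c * bar v ⟨u, hVv hu⟩ = bar v ⟨u, hVv hu⟩ * c) :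
    ∃ x ∈ centralizer (V : Set G), Odd (orderOf x) ∧ ∃ h : x ∈ centralizer ({v} : Set G), bar v ⟨x, h⟩ = c := by
  have : Fact (Nat.Prime 2) := ⟨Nat.prime_two⟩
  obtain ⟨c0, rfl⟩ := bar_surjective v c
  have hKodd := odd_pre_zpowers hc
  have hcj : ∀ b (hb : b ∈ V), bar v (⟨b, hVv hb⟩ * c0 * ⟨b, hVv hb⟩⁻¹) = bar v c0 := by
    intro b hb
    rw [map_mul, map_mul, map_inv, ← hcV b hb]
    group
  have hKinv : ∀ b ∈ V, ∀ u ∈ pre v (zpowers (bar v c0)), b * u * b⁻¹ ∈ pre v (zpowers (bar v c0)) := by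
    intro b hb u hu
    obtain ⟨h1, h2⟩ := mem_pre.1 hu
    have h3 : b * u * b⁻¹ ∈ centralizer ({v} : Set G) := mul_mem (mul_mem (hVv hb) h1) (inv_mem (hVv hb))
    rw [mem_pre]
    refine ⟨h3, ?_⟩
    obtain ⟨k, hk⟩ := mem_zpowers_iff.1 h2
    have h4 : bar v ⟨b * u * b⁻¹, h3⟩ = bar v ⟨b, hVv hb⟩ * bar v ⟨u, h1⟩ * (bar v ⟨b, hVv hb⟩)⁻¹ := by
      rw [← map_mul, ← map_inv, ← map_mul]
      rfl
    rw [h4, ← hk]
    have h5 : bar v ⟨b, hVv hb⟩ * bar v c0 ^ k * (bar v ⟨b, hVv hb⟩)⁻¹ = bar v c0 ^ k := by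
      have h6 : Commute (bar v c0) (bar v ⟨b, hVv hb⟩) := hcV b hb
      rw [← (h6.zpow_left k).eq]
      group
    rw [h5]
    exact zpow_mem (mem_zpowers _) k
  obtain ⟨x, hx, hx'⟩ := Lib.PGroupCoprimeAction.exists_centralizer_mem_coset (A := V)
    (H := pre v (zpowers (bar v c0))) hV hKodd.not_two_dvd_nat hKinv (N := Cfsg.centralizerPPrimeCore 2 v)
    (fun b hb u hu => core_norm (hVv hb) hu) (h := (c0 : G)) (mem_pre.2 ⟨c0.2, mem_zpowers _⟩) (fun b hb => by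
      have h1 := (bar_eq_iff.1 (hcj b hb).symm)
      exact h1)
  obtain ⟨h1, h2⟩ := mem_pre.1 hx.1
  exact ⟨x, hx.2, hKodd.of_dvd_nat (Subgroup.orderOf_dvd_natCard _ hx.1), h1, (bar_eq_iff.2 hx').symm⟩

/-- an `r`-element of a normal subgroup `M` of `XX v` centralising `V`: a Sylow `r`-subgroup of `W_V` meets `M` -/
theorem exists_mem_T [Finite G] {r : ℕ} [Fact r.Prime] (hr2 : r ≠ 2) {V T : Subgroup G} (hV : IsPGroup 2 V) {v : G}
    (hv : v ∈ V) (hVv : V ≤ centralizer ({v} : Set G))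
    (hW : ∀ x ∈ centralizer (V : Set G), Odd (orderOf x) → x ∈ coreC V) (hT : SylIn r T (coreC V))
    (M : Subgroup (XX v)) (hM : M.Normal) {c : XX v} (hcM : c ∈ M) (hcr : c ^ r = 1) (hc1 : c ≠ 1)
    (hcV : ∀ u (hu : u ∈ V), c * bar v ⟨u, hVv hu⟩ = bar v ⟨u, hVv hu⟩ * c) :
    ∃ y ∈ T, ∃ h : y ∈ centralizer ({v} : Set G), bar v ⟨y, h⟩ ∈ M ∧ bar v ⟨y, h⟩ ≠ 1 := by
  have hrp : r.Prime := Fact.out
  have hord : orderOf c = r := orderOf_eq_prime hcr hc1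
  obtain ⟨x, hxV, hxo, hxv, hxc⟩ := exists_lift hV hVv (by rw [hord]; exact hrp.odd_of_ne_two hr2) hcV
  -- replace `x` by an `r`-element
  obtain ⟨k, m, hm, hkm⟩ : ∃ k m : ℕ, ¬ r ∣ m ∧ orderOf x = r ^ k * m :=
    Nat.exists_eq_pow_mul_and_not_dvd (orderOf_pos x).ne' r hrp.ne_one
  set y := x ^ m with hy
  have hyr : y ^ r ^ k = 1 := by
    rw [hy, ← pow_mul, mul_comm, ← hkm, pow_orderOf_eq_one]
  have hyV : y ∈ centralizer (V : Set G) := pow_mem hxV m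
  have hyv : y ∈ centralizer ({v} : Set G) := pow_mem hxv m
  have hyW : y ∈ coreC V := hW y hyV (by
    have h1 : orderOf y ∣ orderOf x := orderOf_pow_dvd m
    exact hxo.of_dvd_nat h1)
  have hybar : bar v ⟨y, hyv⟩ = c ^ m := by
    rw [← hxc, ← map_pow]
    rfl
  have hy1 : bar v ⟨y, hyv⟩ ≠ 1 := by
    rw [hybar]
    intro h
    exact hm (by rw [← hord]; exact orderOf_dvd_of_pow_eq_one h)
  have hyM : bar v ⟨y, hyv⟩ ∈ M := by rw [hybar]; exact pow_mem hcM m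
  have hyle : zpowers y ≤ coreC V := by rwa [zpowers_le]
  have hyp : IsPGroup r (zpowers y) := by
    intro z
    obtain ⟨j, hj⟩ := mem_zpowers_iff.1 z.2
    refine ⟨k, Subtype.ext ?_⟩
    rw [SubmonoidClass.coe_pow, ← hj, ← zpow_natCast, ← zpow_mul, mul_comm, zpow_mul, zpow_natCast, hyr, one_zpow]
    rfl
  have hyp' : IsPGroup r ((zpowers y).subgroupOf (coreC V)) := hyp.comap_of_injective _ (Subgroup.subtype_injective _)
  obtain ⟨P, hP⟩ := hyp'.exists_le_sylow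
  obtain ⟨w, hw, hwP⟩ := Cfsg.Agent.Blocks.SylowIn.exists_conj_of_sylow_map_eq (p := r) (K := coreC V)
    ⟨P, rfl⟩ hT
  have hyP : y ∈ (P : Subgroup (coreC V)).map (coreC V).subtype :=
    ⟨⟨y, hyW⟩, hP (mem_subgroupOf.2 (mem_zpowers y)), rfl⟩
  have hCV : coreC V ≤ centralizer (V : Set G) := map_subtype_le _
  have hwv : w ∈ centralizer ({v} : Set G) := centralizer_le (Set.singleton_subset_iff.2 hv) (hCV hw)
  refine ⟨w * y * w⁻¹, ?_, mul_mem (mul_mem hwv hyv) (inv_mem hwv), ?_⟩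
  · rw [← hwP]
    exact ⟨y, hyP, rfl⟩
  · have h1 : bar v ⟨w * y * w⁻¹, mul_mem (mul_mem hwv hyv) (inv_mem hwv)⟩ =
        bar v ⟨w, hwv⟩ * bar v ⟨y, hyv⟩ * (bar v ⟨w, hwv⟩)⁻¹ := by
      rw [← map_mul, ← map_inv, ← map_mul]
      rfl
    rw [h1]
    refine ⟨hM.conj_mem _ hyM _, fun h => hy1 ?_⟩
    rwa [conj_eq_one_iff] at h

end Cfsg.Agent.GTwoOdd.Core.OddLoc

namespace Cfsg.Agent.GTwoOdd.LocalSL

open Subgroup Matrix

variable {X : Type*} [Group X] {t : X} {F1 F2 : Type*} [Field F1] [Field F2] [Finite F1] [Finite F2]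
  {L : LocalSL t F1 F2}

theorem Hyp.range1_normal (H : L.Hyp) (hX : ∀ c : X, c * t = t * c) : L.e1.range.Normal := by
  refine ⟨fun n hn g => ?_⟩
  obtain ⟨x, rfl⟩ := hn
  obtain ⟨y, hy⟩ := H.norm1 g (hX g) x
  exact ⟨y, by rw [hy]; group⟩

theorem Hyp.range2_normal (H : L.Hyp) (hX : ∀ c : X, c * t = t * c) : L.e2.range.Normal := by
  refine ⟨fun n hn g => ?_⟩
  obtain ⟨x, rfl⟩ := hn
  obtain ⟨y, hy⟩ := H.norm2 g (hX g) x
  exact ⟨y, by rw [hy]; group⟩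

/-- an element of order `r` of the torus gives one in `T1` or in `T2` -/
theorem Frame.exists_ri {s : X} {D1 : M2 F1} {D2 : M2 F2} {n1 : SL2 F1} {n2 : SL2 F2} (F : L.Frame s D1 D2 n1 n2)
    {r : ℕ} {c : X} (hc : c ∈ L.tor D1 D2) (hcr : c ^ r = 1) (hc1 : c ≠ 1) :
    (∃ x ∈ L.tor1 D1, x ^ r = 1 ∧ x ≠ 1) ∨ (∃ x ∈ L.tor2 D2, x ^ r = 1 ∧ x ≠ 1) := by
  obtain ⟨x, hx, hcx⟩ := F.refl1 hc
  by_cases hx1 : x = 1
  · right
    refine ⟨c, ?_, hcr, hc1⟩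
    rw [← F.mem_tor2_iff hc, hcx, hx1, one_mul]
  · left
    refine ⟨x, hx, ?_, hx1⟩
    have hxT := Frame.tor1_le L D1 D2 hx
    -- `x = c (e1 n1) c⁻¹ (e1 n1)⁻¹`
    have h1 : x⁻¹ * c = L.e1 n1 * c * (L.e1 n1)⁻¹ := by
      rw [eq_mul_inv_iff_mul_eq, mul_assoc, hcx]
      group
    have h2 : (x⁻¹ * c) ^ r = 1 := by
      rw [h1, conj_pow, hcr]
      group
    have h3 : Commute x⁻¹ c := (show Commute x c from F.tor_comm hxT hc).inv_left
    rw [h3.mul_pow, hcr, mul_one, inv_pow, inv_eq_one] at h2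
    exact h2

/-- the torus centralises `s` -/
theorem Frame.tor1_s {s : X} {D1 : M2 F1} {D2 : M2 F2} {n1 : SL2 F1} {n2 : SL2 F2} (F : L.Frame s D1 D2 n1 n2)
    {c : X} (hc : c ∈ L.tor1 D1) : c * s = s * c := F.tor_s (Frame.tor1_le L D1 D2 hc)

theorem Frame.tor2_s {s : X} {D1 : M2 F1} {D2 : M2 F2} {n1 : SL2 F1} {n2 : SL2 F2} (F : L.Frame s D1 D2 n1 n2)
    {c : X} (hc : c ∈ L.tor2 D2) : c * s = s * c := F.tor_s (Frame.tor2_le L D1 D2 hc)

end Cfsg.Agent.GTwoOdd.LocalSL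

namespace Cfsg.Agent.GTwoOdd.Core.OddLoc

open Subgroup
open Cfsg.Agent.GTwoOdd.Core.OddG Cfsg.Agent.GTwoOdd.Core.Trans

variable {G : Type*} [Group G] [Finite G] {v : G} {F1 F2 : Type*} [Field F1] [Field F2] [Finite F1] [Finite F2]
  {L : LocalSL (tt v) F1 F2}

/-- the image of `D ∩ C(v)`, intersected with `M` -/
def img (v : G) (D : Subgroup G) (M : Subgroup (XX v)) : Subgroup (XX v) :=
  (D.subgroupOf (centralizer ({v} : Set G))).map (bar v) ⊓ M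

omit [Finite G] in
theorem mem_img {D : Subgroup G} {M : Subgroup (XX v)} {c : XX v} :
    c ∈ img v D M ↔ (∃ d ∈ D, ∃ h : d ∈ centralizer ({v} : Set G), bar v ⟨d, h⟩ = c) ∧ c ∈ M := by
  constructor
  · rintro ⟨⟨d, hd, rfl⟩, hM⟩
    exact ⟨⟨d, hd, d.2, rfl⟩, hM⟩
  · rintro ⟨⟨d, hd, h, rfl⟩, hM⟩
    exact ⟨⟨⟨d, h⟩, hd, rfl⟩, hM⟩

omit [Finite G] in
theorem img_isPGroup {r : ℕ} {D : Subgroup G} (hD : IsPGroup r D) (M : Subgroup (XX v)) : IsPGroup r (img v D M) :=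
  ((hD.comap_of_injective _ (Subgroup.subtype_injective _)).map _).to_le inf_le_left

omit [Finite G] in
theorem img_conj {D : Subgroup G} {M : Subgroup (XX v)} (hM : M.Normal) {g : G} (hgD : g ∈ normalizer (D : Set G))
    (hgv : g ∈ centralizer ({v} : Set G)) {c : XX v} (hc : c ∈ img v D M) :
    bar v ⟨g, hgv⟩ * c * (bar v ⟨g, hgv⟩)⁻¹ ∈ img v D M := by
  obtain ⟨⟨d, hd, h, rfl⟩, hcM⟩ := mem_img.1 hc
  refine mem_img.2 ⟨⟨g * d * g⁻¹, (mem_normalizer_iff.1 hgD d).1 hd, mul_mem (mul_mem hgv h) (inv_mem hgv), ?_⟩,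
    hM.conj_mem _ hcM _⟩
  rw [← map_mul, ← map_inv, ← map_mul]
  rfl

omit [Finite G] in
theorem img_conj' {D : Subgroup G} {M : Subgroup (XX v)} (hM : M.Normal) {g : G} (hgD : g ∈ normalizer (D : Set G))
    (hgv : g ∈ centralizer ({v} : Set G)) {c : XX v} (hc : c ∈ img v D M) :
    (bar v ⟨g, hgv⟩)⁻¹ * c * bar v ⟨g, hgv⟩ ∈ img v D M := by
  have h1 := img_conj hM (inv_mem hgD) (inv_mem hgv) hc
  have h2 : bar v ⟨g⁻¹, inv_mem hgv⟩ = (bar v ⟨g, hgv⟩)⁻¹ := by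
    rw [← map_inv]
    rfl
  rw [h2, inv_inv] at h1
  exact h1

/-- **NoThree in `N(D) ∩ C(v)`**: `D` an `r`-group such that the image of `D ∩ C(v)` meets `L1` or `L2` -/
theorem noThree (H : L.Hyp) {r : ℕ} (hr : r.Prime) (hr2 : r ≠ 2) {D : Subgroup G} (hD : IsPGroup r D)
    (hex : (∃ c ∈ img v D L.e1.range, c ≠ 1) ∨ (∃ c ∈ img v D L.e2.range, c ≠ 1)) {g z z' : G}
    (hg : g ∈ normalizer (D : Set G)) (hz : z ∈ normalizer (D : Set G)) (hz' : z' ∈ normalizer (D : Set G))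
    (hgv : g ∈ centralizer ({v} : Set G)) (hzv : z ∈ centralizer ({v} : Set G))
    (hzv' : z' ∈ centralizer ({v} : Set G)) (h1 : z * z = 1) (h2 : z' * z' = 1) (h3 : g * z * g⁻¹ = z')
    (h4 : g * z' * g⁻¹ = z * z') : z = 1 := by
  have hX := tt_central v
  have key : bar v ⟨z, hzv⟩ = 1 := by
    have e1 : bar v ⟨z, hzv⟩ * bar v ⟨z, hzv⟩ = 1 := by
      rw [← map_mul]
      have : (⟨z, hzv⟩ : centralizer ({v} : Set G)) * ⟨z, hzv⟩ = 1 := Subtype.ext h1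
      rw [this, map_one]
    have e2 : bar v ⟨z', hzv'⟩ * bar v ⟨z', hzv'⟩ = 1 := by
      rw [← map_mul]
      have : (⟨z', hzv'⟩ : centralizer ({v} : Set G)) * ⟨z', hzv'⟩ = 1 := Subtype.ext h2
      rw [this, map_one]
    have e3 : bar v ⟨g, hgv⟩ * bar v ⟨z, hzv⟩ * (bar v ⟨g, hgv⟩)⁻¹ = bar v ⟨z', hzv'⟩ := by
      rw [← map_mul, ← map_inv, ← map_mul]
      congr 1
      exact Subtype.ext h3
    have e4 : bar v ⟨g, hgv⟩ * bar v ⟨z', hzv'⟩ * (bar v ⟨g, hgv⟩)⁻¹ = bar v ⟨z, hzv⟩ * bar v ⟨z', hzv'⟩ := by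
      rw [← map_mul, ← map_inv, ← map_mul, ← map_mul]
      congr 1
      exact Subtype.ext h4
    rcases hex with hex | hex
    · exact H.no_three1 hX hr hr2 (img_isPGroup hD _) (fun c hc => (mem_img.1 hc).2) hex
        (fun c hc => img_conj' (H.range1_normal hX) hg hgv hc) (fun c hc => img_conj (H.range1_normal hX) hg hgv hc)
        (fun c hc => img_conj (H.range1_normal hX) hz hzv hc) (fun c hc => img_conj (H.range1_normal hX) hz' hzv' hc)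
        e1 e2 e3 e4
    · exact H.no_three2 hX hr hr2 (img_isPGroup hD _) (fun c hc => (mem_img.1 hc).2) hex
        (fun c hc => img_conj' (H.range2_normal hX) hg hgv hc) (fun c hc => img_conj (H.range2_normal hX) hg hgv hc)
        (fun c hc => img_conj (H.range2_normal hX) hz hzv hc) (fun c hc => img_conj (H.range2_normal hX) hz' hzv' hc)
        e1 e2 e3 e4
  rw [bar_eq_one_iff] at key
  exact eq_one_of_mem_core h1 (mem_core_iff.2 ⟨hzv, key⟩)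

omit [Finite G] in
/-- elements of `V` centralise the image of `D ∩ C(v)` if `D ∩ C(v) ≤ O_v T`, `T ≤ C(V)` -/
theorem img_comm {D T V : Subgroup G} {M : Subgroup (XX v)} (hTn : T ≤ centralizer (V : Set G)) (hv : v ∈ V)
    (hDT : D ⊓ centralizer ({v} : Set G) ≤ Cfsg.centralizerPPrimeCore 2 v ⊔ T) {u : G} (hu : u ∈ V)
    (huv : u ∈ centralizer ({v} : Set G)) {c : XX v} (hc : c ∈ img v D M) : bar v ⟨u, huv⟩ * c = c * bar v ⟨u, huv⟩ := by
  obtain ⟨⟨d, hd, h, rfl⟩, -⟩ := mem_img.1 hc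
  have hTv : T ≤ centralizer ({v} : Set G) := hTn.trans (centralizer_le (Set.singleton_subset_iff.2 hv))
  have hTO : T ≤ normalizer (Cfsg.centralizerPPrimeCore 2 v : Set G) := by
    intro x hx
    rw [mem_normalizer_iff]
    intro y
    refine ⟨fun hy => core_norm (hTv hx) hy, fun hy => ?_⟩
    have h1 := core_norm (inv_mem (hTv hx)) hy
    have h2 : x⁻¹ * (x * y * x⁻¹) * x⁻¹⁻¹ = y := by group
    rwa [h2] at h1
  obtain ⟨o, ho, w, hw, hd'⟩ := (SignalizersComponents.CoprimeBasic.mem_sup_iff hTO d).1 (hDT ⟨hd, h⟩)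
  have h1 : bar v ⟨d, h⟩ = bar v ⟨w, hTv hw⟩ := by
    symm
    rw [bar_eq_iff]
    change w⁻¹ * d ∈ _
    rw [← hd']
    have := core_norm (inv_mem (hTv hw)) ho
    have e : w⁻¹ * o * w⁻¹⁻¹ = w⁻¹ * (o * w) := by group
    rwa [e] at this
  rw [h1, ← map_mul, ← map_mul]
  congr 1
  apply Subtype.ext
  have := mem_centralizer_iff.1 (hTn hw) u hu
  exact this

/-- **InW, case `L2`**: for `c` in `N(D) ∩ C(v)` and `u ∈ V`, `c u c⁻¹ u⁻¹` lies in the preimage of `L1` -/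
theorem inW2 (H : L.Hyp) {r : ℕ} (hr : r.Prime) (hr2 : r ≠ 2) {D T V : Subgroup G} (hD : IsPGroup r D)
    (hTn : T ≤ centralizer (V : Set G)) (hv : v ∈ V) (hV2 : ∀ u ∈ V, u * u = 1)
    (hVv : V ≤ centralizer ({v} : Set G))
    (hDT : D ⊓ centralizer ({v} : Set G) ≤ Cfsg.centralizerPPrimeCore 2 v ⊔ T)
    (hex : ∃ c ∈ img v D L.e2.range, c ≠ 1) {c u : G} (hc : c ∈ normalizer (D : Set G))
    (hcv : c ∈ centralizer ({v} : Set G)) (hu : u ∈ V) : c * u * c⁻¹ * u⁻¹ ∈ pre v L.e1.range := by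
  have hX := tt_central v
  have hss : bar v ⟨u, hVv hu⟩ * bar v ⟨u, hVv hu⟩ = 1 := by
    rw [← map_mul]
    have : (⟨u, hVv hu⟩ : centralizer ({v} : Set G)) * ⟨u, hVv hu⟩ = 1 := Subtype.ext (hV2 u hu)
    rw [this, map_one]
  obtain ⟨x, hx⟩ := H.in_w2 hX hr hr2 (img_isPGroup hD _) (fun c hc => (mem_img.1 hc).2) hex
    (c := bar v ⟨c, hcv⟩) (fun d hd => img_conj' (H.range2_normal hX) hc hcv hd) hss
    (fun d hd => img_comm hTn hv hDT hu (hVv hu) hd)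
  rw [mem_pre]
  refine ⟨mul_mem (mul_mem (mul_mem hcv (hVv hu)) (inv_mem hcv)) (inv_mem (hVv hu)), x, ?_⟩
  rw [← hx, ← map_inv, ← map_inv, ← map_mul, ← map_mul, ← map_mul]
  rfl

/-- **InW, case `L1`** -/
theorem inW1 (H : L.Hyp) {r : ℕ} (hr : r.Prime) (hr2 : r ≠ 2) {D T V : Subgroup G} (hD : IsPGroup r D)
    (hTn : T ≤ centralizer (V : Set G)) (hv : v ∈ V) (hV2 : ∀ u ∈ V, u * u = 1)
    (hVv : V ≤ centralizer ({v} : Set G))
    (hDT : D ⊓ centralizer ({v} : Set G) ≤ Cfsg.centralizerPPrimeCore 2 v ⊔ T)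
    (hex : ∃ c ∈ img v D L.e1.range, c ≠ 1) {c u : G} (hc : c ∈ normalizer (D : Set G))
    (hcv : c ∈ centralizer ({v} : Set G)) (hu : u ∈ V) : c * u * c⁻¹ * u⁻¹ ∈ pre v L.e2.range := by
  have hX := tt_central v
  have hss : bar v ⟨u, hVv hu⟩ * bar v ⟨u, hVv hu⟩ = 1 := by
    rw [← map_mul]
    have : (⟨u, hVv hu⟩ : centralizer ({v} : Set G)) * ⟨u, hVv hu⟩ = 1 := Subtype.ext (hV2 u hu)
    rw [this, map_one]
  obtain ⟨x, hx⟩ := H.in_w1 hX hr hr2 (img_isPGroup hD _) (fun c hc => (mem_img.1 hc).2) hex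
    (c := bar v ⟨c, hcv⟩) (fun d hd => img_conj' (H.range1_normal hX) hc hcv hd) hss
    (fun d hd => img_comm hTn hv hDT hu (hVv hu) hd)
  rw [mem_pre]
  refine ⟨mul_mem (mul_mem (mul_mem hcv (hVv hu)) (inv_mem hcv)) (inv_mem (hVv hu)), x, ?_⟩
  rw [← hx, ← map_inv, ← map_inv, ← map_mul, ← map_mul, ← map_mul]
  rfl

/-- **the image of `T` meets `L1` or `L2`** if some `r`-element `≠ 1` of `C0` centralises `V` -/
theorem exists_img (H : L.Hyp) {r : ℕ} [Fact r.Prime] (hr2 : r ≠ 2) {V T : Subgroup G} (hV : IsPGroup 2 V)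
    (hv : v ∈ V) (hv1 : v ≠ 1) (hVv : V ≤ centralizer ({v} : Set G))
    (hV2 : ∀ u ∈ V, u * u = 1) (hcard : ∀ u ∈ V, ∀ u' ∈ V, u ≠ 1 → u ≠ v → u' = 1 ∨ u' = v ∨ u' = u ∨ u' = u * v)
    (hW : ∀ x ∈ centralizer (V : Set G), Odd (orderOf x) → x ∈ coreC V) (hT : SylIn r T (coreC V)) {u : G}
    (hu : u ∈ V) (hu1 : u ≠ 1) (huv : u ≠ v) {c : XX v} (hc : ∃ A B, L.Rep c A B) (hcr : c ^ r = 1) (hc1 : c ≠ 1)
    (hcu : c * bar v ⟨u, hVv hu⟩ = bar v ⟨u, hVv hu⟩ * c) :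
    (∃ c ∈ img v T L.e1.range, c ≠ 1) ∨ (∃ c ∈ img v T L.e2.range, c ≠ 1) := by
  have hX := tt_central v
  have hrp : r.Prime := Fact.out
  have hvv := hV2 v hv
  have huu := hV2 u hu
  have hcomm : u * v = v * u := mem_centralizer_singleton_iff.1 (hVv hu)
  -- the image of `u` is an involution `≠ tt`
  have hs : bar v ⟨u, hVv hu⟩ * bar v ⟨u, hVv hu⟩ = 1 := by
    rw [← map_mul]
    have : (⟨u, hVv hu⟩ : centralizer ({v} : Set G)) * ⟨u, hVv hu⟩ = 1 := Subtype.ext huu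
    rw [this, map_one]
  have hs1 : bar v ⟨u, hVv hu⟩ ≠ 1 := by
    intro h
    rw [bar_eq_one_iff] at h
    exact hu1 (eq_one_of_mem_core huu (mem_core_iff.2 ⟨_, h⟩))
  have hst : bar v ⟨u, hVv hu⟩ ≠ tt v := by
    intro h
    rw [bar_eq_iff] at h
    have h3 : u⁻¹ * v = 1 := eq_one_of_mem_core (v := v) (by
      have hui : u⁻¹ = u := inv_eq_of_mul_eq_one_right huu
      rw [hui]
      calc u * v * (u * v) = u * (v * u) * v := by group
        _ = (u * u) * (v * v) := by rw [← hcomm]; group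
        _ = 1 := by rw [huu, hvv, one_mul]) h
    exact huv (inv_mul_eq_one.1 h3)
  obtain ⟨D1, D2, n1, n2, F⟩ := H.exists_frame (hX _) hs hs1 hst
  -- `c` lies in the torus
  obtain ⟨A, B, hAB⟩ := hc
  have hmodd : Odd r := hrp.odd_of_ne_two hr2
  have hcT : c ∈ L.tor D1 D2 :=
    ⟨A, B, hAB, LocalSL.comm_of_comm H.two_ne1 L.inj1 hAB.acts1 F.rep.acts1 hcu hmodd hcr,
      LocalSL.comm_of_comm H.two_ne2 L.inj2 hAB.acts2 F.rep.acts2 hcu hmodd hcr⟩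
  -- everything of `V` commutes with `T1`, `T2`
  have hall : ∀ x : XX v, x * bar v ⟨u, hVv hu⟩ = bar v ⟨u, hVv hu⟩ * x → ∀ u' (hu' : u' ∈ V),
      x * bar v ⟨u', hVv hu'⟩ = bar v ⟨u', hVv hu'⟩ * x := by
    intro x hx u' hu'
    have hvm : v ∈ centralizer ({v} : Set G) := mem_centralizer_singleton_iff.2 rfl
    have hxv : x * bar v ⟨v, hvm⟩ = bar v ⟨v, hvm⟩ * x := hX x
    rcases hcard u hu u' hu' hu1 huv with rfl | rfl | rfl | rfl
    · have : bar v ⟨1, hVv hu'⟩ = 1 := by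
        have h0 : (⟨1, hVv hu'⟩ : centralizer ({v} : Set G)) = 1 := rfl
        rw [h0, map_one]
      rw [this, one_mul, mul_one]
    · exact hxv
    · exact hx
    · have h0 : (⟨u * v, hVv hu'⟩ : centralizer ({v} : Set G)) = ⟨u, hVv hu⟩ * ⟨v, hvm⟩ := rfl
      rw [h0, map_mul, ← mul_assoc, hx, mul_assoc, hxv, mul_assoc]
  rcases F.exists_ri hcT hcr hc1 with ⟨x, hx, hxr, hx1⟩ | ⟨x, hx, hxr, hx1⟩
  · left
    obtain ⟨y, hyT, hyv, hyM, hy1⟩ := exists_mem_T hr2 hV hv hVv hW hT L.e1.range (H.range1_normal hX)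
      (c := x) (by obtain ⟨z, _, rfl⟩ := hx; exact ⟨z, rfl⟩) hxr hx1 (hall x (F.tor1_s hx))
    exact ⟨_, mem_img.2 ⟨⟨y, hyT, hyv, rfl⟩, hyM⟩, hy1⟩
  · right
    obtain ⟨y, hyT, hyv, hyM, hy1⟩ := exists_mem_T hr2 hV hv hVv hW hT L.e2.range (H.range2_normal hX)
      (c := x) (by obtain ⟨z, _, rfl⟩ := hx; exact ⟨z, rfl⟩) hxr hx1 (hall x (F.tor2_s hx))
    exact ⟨_, mem_img.2 ⟨⟨y, hyT, hyv, rfl⟩, hyM⟩, hy1⟩

omit [Finite G] [Finite F1] [Finite F2] in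
theorem img_mono {D T : Subgroup G} (h : T ≤ D) {M : Subgroup (XX v)} : img v T M ≤ img v D M := by
  intro c hc
  obtain ⟨⟨d, hd, hv, rfl⟩, hM⟩ := mem_img.1 hc
  exact mem_img.2 ⟨⟨d, h hd, hv, rfl⟩, hM⟩

end Cfsg.Agent.GTwoOdd.Core.OddLoc
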