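import Cfsg.Agent.GTwoOdd.Core.ConfBasic

/-!
# Transport of `Pre`, `Conf` along injective homomorphisms
-/

set_option autoImplicit false

namespace Cfsg.Agent.GTwoOdd.Core

open Subgroup

variable {N M : Type*} [Group N] [Group M]

theorem Pre.map {P S0 A W1 V : Subgroup N} (h : Pre P S0 A W1 V) (φ : N →* M) (hφ : Function.Injective φ) :
    Pre (P.map φ) (S0.map φ) (A.map φ) (W1.map φ) (V.map φ) := by
  have mem : ∀ (H : Subgroup N) (x : N), φ x ∈ H.map φ ↔ x ∈ H := fun H x => mem_map_iff_mem hφ
  exact
    { V_le := Subgroup.map_mono h.V_le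
      A_le := Subgroup.map_mono h.A_le
      S_le := Subgroup.map_mono h.S_le
      A_le_W := Subgroup.map_mono h.A_le_W
      W_le := Subgroup.map_mono h.W_le
      comm := by
        rintro _ ⟨a, ha, rfl⟩ _ ⟨b, hb, rfl⟩
        rw [← map_mul, h.comm a ha b hb, map_mul]
      inv2 := by
        rintro _ ⟨x, hx, rfl⟩ hxA
        rw [mem] at hxA
        rw [← map_mul, h.inv2 x hx hxA, map_one]
      inv := by
        rintro _ ⟨x, hx, rfl⟩ hxA _ ⟨a, ha, rfl⟩
        rw [mem] at hxA
        rw [← map_mul, ← map_inv, ← map_mul, h.inv x hx hxA a ha, map_inv]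
      idxA := by
        rintro _ ⟨x, hx, rfl⟩ hxA _ ⟨y, hy, rfl⟩ hyA
        rw [mem] at hxA hyA
        rw [← map_mul, mem]
        exact h.idxA x hx hxA y hy hyA
      exw := by
        obtain ⟨w, hw, hwA⟩ := h.exw
        exact ⟨φ w, (mem _ _).2 hw, fun h1 => hwA ((mem _ _).1 h1)⟩
      memV := by
        rintro _ ⟨a, ha, rfl⟩
        rw [mem, h.memV a ha, ← map_mul, ← map_one φ]
        exact hφ.eq_iff.symm
      cardV := by
        rw [← h.cardV]
        exact Nat.card_congr (V.equivMapOfInjective φ hφ).symm.toEquiv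
      four := by
        obtain ⟨c, hc, hc2⟩ := h.four
        refine ⟨φ c, (mem _ _).2 hc, fun h1 => hc2 ?_⟩
        apply hφ
        rw [map_mul, h1, map_one]
      cent := by
        rintro _ ⟨x, hx, rfl⟩ hc
        rw [mem]
        apply h.cent x hx
        intro v hv
        apply hφ
        rw [map_mul, map_mul]
        exact hc (φ v) ((mem _ _).2 hv)
      idxS := by
        rintro _ ⟨x, hx, rfl⟩ hxA _ ⟨y, hy, rfl⟩ hyA
        rw [mem] at hxA hyA
        rw [← map_mul, mem]
        exact h.idxS x hx hxA y hy hyA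
      idxW := by
        rintro _ ⟨x, hx, rfl⟩ hxA _ ⟨y, hy, rfl⟩ hyA
        rw [mem] at hxA hyA
        rw [← map_mul, mem]
        exact h.idxW x hx hxA y hy hyA
      WS := by
        rintro _ ⟨⟨x, hx, rfl⟩, hxS⟩
        have h1 : x ∈ S0 := (mem _ _).1 hxS
        exact (mem _ _).2 (h.WS ⟨hx, h1⟩)
      rankW := by
        intro E hE hE2
        have h1 : E.comap φ ≤ W1 := by
          intro x hx
          exact (mem _ _).1 (hE hx)
        have h2 := h.rankW (E.comap φ) h1 (by
          intro x hx
          apply hφ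
          rw [map_mul, map_one]
          exact hE2 (φ x) hx)
        have h3 : (E.comap φ).map φ = E := by
          apply Subgroup.map_comap_eq_self
          intro y hy
          obtain ⟨x, -, rfl⟩ := hE hy
          exact ⟨x, rfl⟩
        rw [← h3]
        have h4 : Nat.card ((E.comap φ).map φ : Subgroup M) = Nat.card (E.comap φ : Subgroup N) :=
          Nat.card_congr ((E.comap φ).equivMapOfInjective φ hφ).symm.toEquiv
        rw [h4]
        exact h2
      exW2 := by
        rintro ⟨_, ⟨x, hx, rfl⟩, hxS⟩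
        rw [mem] at hxS
        obtain ⟨u, hu, huS, huW, hu2⟩ := h.exW2 ⟨x, hx, hxS⟩
        refine ⟨φ u, (mem _ _).2 hu, fun h1 => huS ((mem _ _).1 h1), fun h1 => huW ((mem _ _).1 h1), ?_⟩
        rw [← map_mul, hu2, map_one] }

theorem Pre.comap {P S0 A W1 V : Subgroup M} (h : Pre P S0 A W1 V) (φ : N →* M) (hφ : Function.Injective φ)
    (hP : P ≤ φ.range) : Pre (P.comap φ) (S0.comap φ) (A.comap φ) (W1.comap φ) (V.comap φ) := by
  have lift : ∀ {H : Subgroup M}, H ≤ P → ∀ y ∈ H, ∃ x, φ x = y := by
    intro H hH y hy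
    exact hP (hH hy)
  have hmc : ∀ {H : Subgroup M}, H ≤ P → (H.comap φ).map φ = H := by
    intro H hH
    apply Subgroup.map_comap_eq_self
    exact hH.trans hP
  exact
    { V_le := Subgroup.comap_mono h.V_le
      A_le := Subgroup.comap_mono h.A_le
      S_le := Subgroup.comap_mono h.S_le
      A_le_W := Subgroup.comap_mono h.A_le_W
      W_le := Subgroup.comap_mono h.W_le
      comm := by
        intro a ha b hb
        apply hφ
        rw [map_mul, map_mul]
        exact h.comm _ ha _ hb
      inv2 := by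
        intro x hx hxA
        apply hφ
        rw [map_mul, map_one]
        exact h.inv2 _ hx hxA
      inv := by
        intro x hx hxA a ha
        apply hφ
        rw [map_mul, map_mul, map_inv, map_inv]
        exact h.inv _ hx hxA _ ha
      idxA := by
        intro x hx hxA y hy hyA
        change φ (x * y) ∈ A
        rw [map_mul]
        exact h.idxA _ hx hxA _ hy hyA
      exw := by
        obtain ⟨w, hw, hwA⟩ := h.exw
        obtain ⟨x, rfl⟩ := lift h.S_le w hw
        exact ⟨x, hw, hwA⟩
      memV := by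
        intro a ha
        change φ a ∈ V ↔ _
        rw [h.memV _ ha, ← map_mul, ← map_one φ]
        exact hφ.eq_iff
      cardV := by
        rw [← h.cardV]
        conv_rhs => rw [← hmc (h.V_le.trans (h.A_le.trans h.S_le))]
        exact Nat.card_congr ((V.comap φ).equivMapOfInjective φ hφ).toEquiv
      four := by
        obtain ⟨c, hc, hc2⟩ := h.four
        obtain ⟨x, rfl⟩ := lift (h.A_le.trans h.S_le) c hc
        refine ⟨x, hc, fun h1 => hc2 ?_⟩
        rw [← map_mul, h1, map_one]
      cent := by
        intro x hx hc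
        apply h.cent _ hx
        intro v hv
        obtain ⟨y, rfl⟩ := lift (h.V_le.trans (h.A_le.trans h.S_le)) v hv
        rw [← map_mul, hc y hv, map_mul]
      idxS := by
        intro x hx hxA y hy hyA
        change φ (x * y) ∈ S0
        rw [map_mul]
        exact h.idxS _ hx hxA _ hy hyA
      idxW := by
        intro x hx hxA y hy hyA
        change φ (x * y) ∈ W1
        rw [map_mul]
        exact h.idxW _ hx hxA _ hy hyA
      WS := by
        intro x hx
        exact h.WS ⟨hx.1, hx.2⟩
      rankW := by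
        intro E hE hE2
        have h2 := h.rankW (E.map φ) (by
          rintro _ ⟨x, hx, rfl⟩
          exact hE hx) (by
          rintro _ ⟨x, hx, rfl⟩
          rw [← map_mul, hE2 x hx, map_one])
        have h4 : Nat.card (E.map φ : Subgroup M) = Nat.card E :=
          Nat.card_congr (E.equivMapOfInjective φ hφ).symm.toEquiv
        rwa [h4] at h2
      exW2 := by
        rintro ⟨x, hx, hxS⟩
        obtain ⟨u, hu, huS, huW, hu2⟩ := h.exW2 ⟨φ x, hx, hxS⟩
        obtain ⟨y, rfl⟩ := lift le_rfl u hu
        refine ⟨y, hu, huS, huW, ?_⟩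
        apply hφ
        rw [map_mul, hu2, map_one] }

theorem Conf.map {P S0 A W1 V : Subgroup N} (h : Conf P S0 A W1 V) (φ : N →* M) (hφ : Function.Injective φ) :
    Conf (P.map φ) (S0.map φ) (A.map φ) (W1.map φ) (V.map φ) where
  toPre := h.toPre.map φ hφ
  root := by
    rintro _ ⟨v, hv, rfl⟩
    obtain ⟨c, hc, rfl⟩ := h.root v hv
    exact ⟨φ c, Subgroup.mem_map_of_mem φ hc, by rw [map_mul]⟩

theorem Conf.comap {P S0 A W1 V : Subgroup M} (h : Conf P S0 A W1 V) (φ : N →* M) (hφ : Function.Injective φ)
    (hP : P ≤ φ.range) : Conf (P.comap φ) (S0.comap φ) (A.comap φ) (W1.comap φ) (V.comap φ) where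
  toPre := h.toPre.comap φ hφ hP
  root := by
    intro v hv
    obtain ⟨c, hc, hcv⟩ := h.root _ hv
    obtain ⟨x, rfl⟩ := hP ((h.A_le_P) hc)
    refine ⟨x, hc, ?_⟩
    apply hφ
    rw [map_mul, hcv]

/-- `Conf` for `P = S0` -/
theorem Conf.small {P S0 A W1 V : Subgroup N} (h : Conf P S0 A W1 V) : Conf S0 S0 A A V where
  V_le := h.V_le
  A_le := h.A_le
  S_le := le_rfl
  A_le_W := le_rfl
  W_le := h.A_le
  comm := h.comm
  inv2 := h.inv2
  inv := h.inv
  idxA := h.idxA
  exw := h.exw
  memV := h.memV
  cardV := h.cardV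
  four := h.four
  cent := fun x hx _ => hx
  idxS := fun x hx hxS => absurd hx hxS
  idxW := h.idxA
  WS := inf_le_left
  rankW := by
    intro E hE hE2
    rw [← h.cardV]
    haveI : Finite V := Nat.finite_of_card_ne_zero (by rw [h.cardV]; norm_num)
    exact Subgroup.card_le_of_le (fun x hx => h.mem_V_of_A (hE hx) (hE2 x hx))
  exW2 := by
    rintro ⟨x, hx, hxS⟩
    exact absurd hx hxS
  root := h.root

end Cfsg.Agent.GTwoOdd.Core
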