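import Cfsg.Agent.GTwoOdd.Core.FrameX
import Cfsg.Agent.GTwoOdd.Core.PreMap
import Cfsg.Agent.GTwoOdd.Core.OddLoc
import Cfsg.Agent.GTwoOdd.Core.Fusion
import Cfsg.Agent.GTwoOdd.SymmL

/-!
# The 2-structure of `G`
-/

set_option autoImplicit false

namespace Cfsg.Agent.GTwoOdd.Core.FrameG

open Subgroup
open Cfsg.Agent.GTwoOdd.Core.OddG Cfsg.Agent.GTwoOdd.Core.OddLoc

variable {G : Type*} [Group G]

/-- `P ≤ C(t)` -/
theorem le_cent {P : Subgroup G} {t : G} (htP : ∀ x ∈ P, x * t = t * x) : P ≤ centralizer ({t} : Set G) :=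
  fun x hx => mem_centralizer_singleton_iff.2 (htP x hx)

/-- the map `P → C(t)/O(C(t))` -/
def phi {P : Subgroup G} {t : G} (htP : ∀ x ∈ P, x * t = t * x) : P →* XX t :=
  (bar t).comp (inclusion (le_cent htP))

theorem phi_apply {P : Subgroup G} {t : G} (htP : ∀ x ∈ P, x * t = t * x) (x : P) :
    phi htP x = bar t ⟨x, le_cent htP x.2⟩ := rfl

theorem phi_injective [Finite G] {P : Subgroup G} {t : G} (hP : IsPGroup 2 P) (htP : ∀ x ∈ P, x * t = t * x) :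
    Function.Injective (phi htP) := by
  rw [injective_iff_map_eq_one]
  intro x hx
  rw [phi_apply, bar_eq_one_iff] at hx
  have h1 : (x : G) ∈ Cfsg.centralizerPPrimeCore 2 t := mem_core_iff.2 ⟨_, hx⟩
  have h2 := core_odd t
  obtain ⟨k, hk⟩ := hP x
  have h3 : orderOf (x : G) ∣ 2 ^ k := by
    apply orderOf_dvd_of_pow_eq_one
    have := congrArg Subtype.val hk
    simpa using this
  have h4 : orderOf (x : G) ∣ Nat.card (Cfsg.centralizerPPrimeCore 2 t) := by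
    have := orderOf_dvd_natCard (⟨x, h1⟩ : Cfsg.centralizerPPrimeCore 2 t)
    rwa [Subgroup.orderOf_mk] at this
  have h5 : orderOf (x : G) = 1 := by
    apply Nat.eq_one_of_dvd_coprimes (Nat.Coprime.pow_left k (Nat.coprime_two_left.2 h2)) h3 h4
  exact Subtype.ext (orderOf_eq_one_iff.1 h5)

/-- the Sylow 2-subgroup of `XX t` -/
theorem exists_sylow [Finite G] (P : Sylow 2 G) {t : G} (htP : ∀ x ∈ (P : Subgroup G), x * t = t * x) :
    ∃ Q : Sylow 2 (XX t), (Q : Subgroup (XX t)) = (phi htP).range := by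
  have : Fact (Nat.Prime 2) := ⟨Nat.prime_two⟩
  refine ⟨(P.subtype (le_cent htP)).mapSurjective (bar_surjective t), ?_⟩
  rw [Sylow.coe_mapSurjective, Sylow.coe_subtype]
  ext y
  constructor
  · rintro ⟨x, hx, rfl⟩
    exact ⟨⟨x, hx⟩, rfl⟩
  · rintro ⟨x, rfl⟩
    exact ⟨⟨x, le_cent htP x.2⟩, x.2, rfl⟩

/-- `W` is `A (P ∩ L)` -/
def IsW (t : G) (P A W : Subgroup G) (M : Subgroup (XX t)) : Prop :=
  ∀ x, x ∈ W ↔ x ∈ P ∧ ∃ a ∈ A, x * a⁻¹ ∈ pre t M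

/-- the data extracted from a Sylow 2-subgroup -/
structure Out (P : Subgroup G) (t : G) (S0 A V W1 W2 : Subgroup G) (M1 M2 : Subgroup (XX t)) : Prop where
  pre1 : Pre P S0 A W1 V
  pre2 : Pre P S0 A W2 V
  isW1 : IsW t P A W1 M1
  isW2 : IsW t P A W2 M2
  t_mem : t ∈ V
  t_ne : t ≠ 1
  t_comm : ∀ x ∈ P, x * t = t * x
  big : ∃ x ∈ P, x ∉ S0
  root_t : ∃ c ∈ A, c * c = t
  inv1 : ∃ z ∈ W1, z ∉ S0 ∧ z * z = 1
  inv2 : ∃ z ∈ W2, z ∉ S0 ∧ z * z = 1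

/-- the hypothesis delivered by the Sylow analysis in `C(t)/O(C(t))` -/
def HSyl {t : G} {F1 F2 : Type} [Field F1] [Field F2] (L : LocalSL (tt t) F1 F2) : Prop :=
  ∀ P : Sylow 2 (XX t), ∃ (s : XX t) (x1 : SL2 F1) (x2 : SL2 F2) (n1 : SL2 F1) (n2 : SL2 F2),
    SylX L (P : Subgroup (XX t)) s x1 x2 n1 n2

theorem SylX.sw {X : Type*} [Group X] {t : X} {F1 F2 : Type*} [Field F1] [Field F2] {L : LocalSL t F1 F2}
    {P : Subgroup X} {s : X} {x1 : SL2 F1} {x2 : SL2 F2} {n1 : SL2 F1} {n2 : SL2 F2}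
    (S : SylX L P s x1 x2 n1 n2) : SylX L.sw P s x2 x1 n2 n1 where
  F := S.F.sw
  zero := fun x hx => by
    obtain ⟨A, B, h⟩ := S.zero x hx
    exact ⟨B, A, h.sw⟩
  s_mem := S.s_mem
  norm := S.norm
  x1_mem := S.x2_mem
  x2_mem := S.x1_mem
  n1_mem := S.n2_mem
  n2_mem := S.n1_mem

/-- both `Pre` at the level of `X` -/
theorem pre_both {X : Type*} [Group X] {t : X} {F1 F2 : Type*} [Field F1] [Field F2] [Finite F1] [Finite F2]
    {L : LocalSL t F1 F2}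
    {P : Subgroup X} {s : X} {x1 : SL2 F1} {x2 : SL2 F2} {n1 : SL2 F1} {n2 : SL2 F2}
    (S : SylX L P s x1 x2 n1 n2) : ∃ S0 A V W1 W2 : Subgroup X, Pre P S0 A W1 V ∧ Pre P S0 A W2 V ∧
      (∀ x, x ∈ W1 ↔ x ∈ P ∧ ∃ a ∈ A, x * a⁻¹ ∈ L.e1.range) ∧
      (∀ x, x ∈ W2 ↔ x ∈ P ∧ ∃ a ∈ A, x * a⁻¹ ∈ L.e2.range) ∧ t ∈ V ∧ (∃ x ∈ P, x ∉ S0) ∧
      (∃ c ∈ A, c * c = t) ∧ (∃ z ∈ W1, z ∉ S0 ∧ z * z = 1) ∧ (∃ z ∈ W2, z ∉ S0 ∧ z * z = 1) := by
  obtain ⟨S0, A, V, W1, hp, hW, hS0, hV, hA⟩ := S.pre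
  obtain ⟨S0', A', V', W2, hp', hW', hS0', hV', hA'⟩ := (SylX.sw S).pre
  have e1 : S0' = S0 := by
    ext x; rw [hS0, hS0']
  have e2 : V' = V := by
    ext x; rw [hV, hV']
  have e3 : A' = A := by
    ext x
    rw [hA, hA']
    rw [show L.sw.tor (x2 : M2 F2) (x1 : M2 F1) = L.tor (x1 : M2 F1) (x2 : M2 F2) from LocalSL.sw_tor L _ _]
  subst e1 e2 e3
  have F := S.F
  have hx1A : L.e1 x1 ∈ A' := (hA _).2 ⟨S.x1_mem, S.x1_tor⟩
  have hx2A : L.e2 x2 ∈ A' := (hA' _).2 ⟨S.x2_mem, (SylX.sw S).x1_tor⟩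
  have ne : s * t ≠ s := fun h => F.t_ne (by simpa using h)
  have hx1s : L.e1 x1 * s = s * L.e1 x1 := ((hS0 _).1 (hp.A_le hx1A)).2
  have hx2s : L.e2 x2 * s = s * L.e2 x2 := ((hS0 _).1 (hp.A_le hx2A)).2
  have hn1 := F.n1_s
  have hn2 := F.n2_s
  have hx2sq : L.e2 x2 * L.e2 x2 = t := (SylX.sw S).ex1_sq
  -- the two involutions
  have z1 : L.e2 x2 * L.e1 n1 ∉ S0' := by
    intro h
    have h1 := ((hS0 _).1 h).2
    have h2 : L.e2 x2 * L.e1 n1 * s = L.e2 x2 * s * (t * L.e1 n1) := by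
      rw [mul_assoc, hn1]; group
    rw [h2, hx2s] at h1
    have h3 : s * L.e2 x2 * (t * L.e1 n1) = s * (L.e2 x2 * t * L.e1 n1) := by group
    have h4 := mul_left_cancel (h3.symm.trans h1)
    have h5 := mul_right_cancel h4
    exact F.t_ne (by simpa using h5)
  have z2 : L.e1 x1 * L.e2 n2 ∉ S0' := by
    intro h
    have h1 := ((hS0 _).1 h).2
    have h2 : L.e1 x1 * L.e2 n2 * s = L.e1 x1 * s * (t * L.e2 n2) := by
      rw [mul_assoc, hn2]; group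
    rw [h2, hx1s] at h1
    have h3 : s * L.e1 x1 * (t * L.e2 n2) = s * (L.e1 x1 * t * L.e2 n2) := by group
    have h4 := mul_left_cancel (h3.symm.trans h1)
    have h5 := mul_right_cancel h4
    exact F.t_ne (by simpa using h5)
  refine ⟨S0', A', V', W1, W2, hp, hp', hW, hW', (hV t).2 (Or.inr (Or.inl rfl)), ⟨_, ?_, z1⟩,
    ⟨L.e1 x1, hx1A, S.ex1_sq⟩, ⟨_, ?_, z1, ?_⟩, ⟨_, ?_, z2, ?_⟩⟩
  · exact P.mul_mem S.x2_mem S.n1_mem
  · refine (hW _).2 ⟨P.mul_mem S.x2_mem S.n1_mem, L.e2 x2, hx2A, ⟨n1, ?_⟩⟩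
    rw [← L.comm]; group
  · have h2 := L.comm n1 x2
    calc L.e2 x2 * L.e1 n1 * (L.e2 x2 * L.e1 n1) = L.e2 x2 * (L.e1 n1 * L.e2 x2) * L.e1 n1 := by group
      _ = L.e2 x2 * (L.e2 x2 * L.e1 n1) * L.e1 n1 := by rw [h2]
      _ = (L.e2 x2 * L.e2 x2) * (L.e1 n1 * L.e1 n1) := by group
      _ = 1 := by rw [hx2sq, S.en1_sq, L.t_sq]
  · refine (hW' _).2 ⟨P.mul_mem S.x1_mem S.n2_mem, L.e1 x1, hx1A, ⟨n2, ?_⟩⟩
    have h2 := L.comm x1 n2
    rw [h2, LocalSL.sw_e1]; group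
  · have h2 := L.comm x1 n2
    calc L.e1 x1 * L.e2 n2 * (L.e1 x1 * L.e2 n2) = L.e1 x1 * (L.e2 n2 * L.e1 x1) * L.e2 n2 := by group
      _ = L.e1 x1 * (L.e1 x1 * L.e2 n2) * L.e2 n2 := by rw [h2]
      _ = (L.e1 x1 * L.e1 x1) * (L.e2 n2 * L.e2 n2) := by group
      _ = 1 := by rw [S.ex1_sq, S.en2_sq, L.t_sq]

/-- pull back to `P ≤ G` -/
theorem exists_out [Finite G] (P : Sylow 2 G) {t : G} (ht1 : t ≠ 1) (htm : t ∈ (P : Subgroup G)) (htP : ∀ x ∈ (P : Subgroup G), x * t = t * x)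
    {F1 F2 : Type} [Field F1] [Field F2] [Finite F1] [Finite F2] (L : LocalSL (tt t) F1 F2)
    (hs : HSyl L) : ∃ S0 A V W1 W2 : Subgroup G,
      Out (P : Subgroup G) t S0 A V W1 W2 L.e1.range L.e2.range := by
  have : Fact (Nat.Prime 2) := ⟨Nat.prime_two⟩
  obtain ⟨Q, hQ⟩ := exists_sylow P htP
  obtain ⟨s, x1, x2, n1, n2, S⟩ := hs Q
  obtain ⟨S0, A, V, W1, W2, hp1, hp2, hW1, hW2, htV, ⟨x0, hx0, hx0S⟩, ⟨c, hc, hct⟩, ⟨z, hz, hzS, hz2⟩,
    ⟨z', hz', hzS', hz2'⟩⟩ := pre_both S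
  have hinj := phi_injective P.isPGroup' htP
  have hran : (Q : Subgroup (XX t)) ≤ (phi htP).range := hQ.le
  have lift : ∀ y ∈ (Q : Subgroup (XX t)), ∃ x, phi htP x = y := fun y hy => hran hy
  have hcm : (Q : Subgroup (XX t)).comap (phi htP) = ⊤ := by
    rw [eq_top_iff]
    intro x _
    change phi htP x ∈ (Q : Subgroup (XX t))
    rw [hQ]
    exact ⟨x, rfl⟩
  have hmt : (⊤ : Subgroup (P : Subgroup G)).map (P : Subgroup G).subtype = (P : Subgroup G) := by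
    rw [← MonoidHom.range_eq_map, range_subtype]
  have key : ∀ {W : Subgroup (XX t)}, Pre (Q : Subgroup (XX t)) S0 A W V →
      Pre (P : Subgroup G) ((S0.comap (phi htP)).map (P : Subgroup G).subtype)
        ((A.comap (phi htP)).map (P : Subgroup G).subtype) ((W.comap (phi htP)).map (P : Subgroup G).subtype)
        ((V.comap (phi htP)).map (P : Subgroup G).subtype) := by
    intro W hW
    have h1 := (hW.comap (phi htP) hinj hran).map (P : Subgroup G).subtype (P : Subgroup G).subtype_injective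
    rwa [hcm, hmt] at h1
  have mem : ∀ (H : Subgroup (XX t)) (x : G), x ∈ (H.comap (phi htP)).map (P : Subgroup G).subtype ↔
      ∃ h : x ∈ (P : Subgroup G), phi htP ⟨x, h⟩ ∈ H := by
    intro H x
    constructor
    · rintro ⟨y, hy, rfl⟩
      exact ⟨y.2, hy⟩
    · rintro ⟨h, hy⟩
      exact ⟨⟨x, h⟩, hy, rfl⟩
  have hisW : ∀ {W : Subgroup (XX t)} {M : Subgroup (XX t)},
      (∀ x, x ∈ W ↔ x ∈ (Q : Subgroup (XX t)) ∧ ∃ a ∈ A, x * a⁻¹ ∈ M) → A ≤ (Q : Subgroup (XX t)) →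
      IsW t (P : Subgroup G) ((A.comap (phi htP)).map (P : Subgroup G).subtype)
        ((W.comap (phi htP)).map (P : Subgroup G).subtype) M := by
    intro W M hW hAQ x
    rw [mem]
    constructor
    · rintro ⟨hx, hxW⟩
      obtain ⟨hxQ, a, ha, hxa⟩ := (hW _).1 hxW
      obtain ⟨b, rfl⟩ := lift a (hAQ ha)
      refine ⟨hx, b, (mem _ _).2 ⟨b.2, ha⟩, ?_⟩
      rw [mem_pre]
      have hxb : x * (b : G)⁻¹ ∈ (P : Subgroup G) := P.mul_mem hx (P.inv_mem b.2)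
      refine ⟨le_cent htP hxb, ?_⟩
      have h1 : phi htP ⟨x, hx⟩ * (phi htP b)⁻¹ = bar t ⟨x * (b : G)⁻¹, le_cent htP hxb⟩ := by
        rw [← map_inv, ← map_mul]; rfl
      rw [← h1]
      exact hxa
    · rintro ⟨hx, b, hb, hxb⟩
      obtain ⟨hbP, hbA⟩ := (mem _ _).1 hb
      refine ⟨hx, ?_⟩
      rw [hW]
      refine ⟨by rw [hQ]; exact ⟨_, rfl⟩, _, hbA, ?_⟩
      obtain ⟨h2, h3⟩ := mem_pre.1 hxb
      have h1 : phi htP ⟨x, hx⟩ * (phi htP ⟨b, hbP⟩)⁻¹ = bar t ⟨x * (b : G)⁻¹, h2⟩ := by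
        rw [← map_inv, ← map_mul]; rfl
      rw [h1]
      exact h3
  have hinvl : ∀ {W : Subgroup (XX t)}, (∃ z ∈ W, z ∉ S0 ∧ z * z = 1) → W ≤ (Q : Subgroup (XX t)) →
      ∃ z ∈ (W.comap (phi htP)).map (P : Subgroup G).subtype,
        z ∉ (S0.comap (phi htP)).map (P : Subgroup G).subtype ∧ z * z = 1 := by
    rintro W ⟨z, hz, hzS, hz2⟩ hWQ
    obtain ⟨y, rfl⟩ := lift z (hWQ hz)
    refine ⟨y, (mem _ _).2 ⟨y.2, hz⟩, ?_, ?_⟩
    · intro h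
      obtain ⟨h1, h2⟩ := (mem _ _).1 h
      exact hzS h2
    · have h1 : y * y = 1 := by
        apply hinj
        rw [map_mul, hz2, map_one]
      exact congrArg Subtype.val h1
  have hAQ : A ≤ (Q : Subgroup (XX t)) := hp1.A_le_P
  refine ⟨(S0.comap (phi htP)).map (P : Subgroup G).subtype, (A.comap (phi htP)).map (P : Subgroup G).subtype,
    (V.comap (phi htP)).map (P : Subgroup G).subtype, (W1.comap (phi htP)).map (P : Subgroup G).subtype,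
    (W2.comap (phi htP)).map (P : Subgroup G).subtype, ?_⟩
  exact
    { pre1 := key hp1
      pre2 := key hp2
      isW1 := hisW hW1 hAQ
      isW2 := hisW hW2 hAQ
      t_mem := (mem _ _).2 ⟨htm, htV⟩
      t_ne := ht1
      t_comm := htP
      big := by
        obtain ⟨y, rfl⟩ := lift x0 hx0
        refine ⟨y, y.2, fun h => ?_⟩
        obtain ⟨h1, h2⟩ := (mem _ _).1 h
        exact hx0S h2
      root_t := by
        obtain ⟨y, rfl⟩ := lift c (hAQ hc)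
        refine ⟨y, (mem _ _).2 ⟨y.2, hc⟩, ?_⟩
        have h1 : y * y = ⟨t, htm⟩ := by
          apply hinj
          rw [map_mul, hct]
          rfl
        exact congrArg Subtype.val h1
      inv1 := hinvl ⟨z, hz, hzS, hz2⟩ hp1.W_le
      inv2 := hinvl ⟨z', hz', hzS', hz2'⟩ hp2.W_le }

end Cfsg.Agent.GTwoOdd.Core.FrameG
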