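import Cfsg.Agent.GTwoOdd.Core.ConfBasic

/-!
# Fusion in a group with a Sylow 2-subgroup as in `Conf`, part A
-/

set_option autoImplicit false

namespace Cfsg.Agent.GTwoOdd.Core

open Subgroup Cfsg.Agent.Lib.GoldschmidtFusion

variable {N : Type*} [Group N]

/-- two transvections -/
theorem NoThree.tt {V : Subgroup N} (h1 : NoThree V) {v k v1 g' g'' z' z'' : N} (hv : v ∈ V) (hv1 : v ≠ 1)
    (hk : k * v * k⁻¹ = v1) (hg' : g' * v1 = v1 * g') (hg'' : g'' * v1 = v1 * g'')
    (hz' : z' * v1 = v1 * z') (hz'' : z'' * v1 = v1 * z'') (h2 : z' * z' = 1) (h2' : z'' * z'' = 1)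
    (hc : z' * z'' = z'' * z') (e1 : g' * z' * g'⁻¹ = z') (e2 : g' * z'' * g'⁻¹ = z' * z'')
    (e3 : g'' * z'' * g''⁻¹ = z'') (e4 : g'' * z' * g''⁻¹ = z' * z'') : z' = 1 := by
  have hcomm : ∀ x : N, x * v1 = v1 * x → (k⁻¹ * x * k) * v = v * (k⁻¹ * x * k) := by
    intro x hx
    have h3 : v = k⁻¹ * v1 * k := by rw [← hk]; group
    calc (k⁻¹ * x * k) * v = (k⁻¹ * x * k) * (k⁻¹ * v1 * k) := by rw [← h3]
      _ = k⁻¹ * (x * v1) * k := by group
      _ = k⁻¹ * (v1 * x) * k := by rw [hx]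
      _ = (k⁻¹ * v1 * k) * (k⁻¹ * x * k) := by group
      _ = v * (k⁻¹ * x * k) := by rw [← h3]
  have hgg : (g' * g'') * v1 = v1 * (g' * g'') := by
    rw [mul_assoc, hg'', ← mul_assoc, hg', mul_assoc]
  have h3 := h1 v hv hv1 (k⁻¹ * (g' * g'') * k) (k⁻¹ * z' * k) (k⁻¹ * z'' * k) (hcomm _ hgg) (hcomm _ hz')
    (hcomm _ hz'') (by
      calc k⁻¹ * z' * k * (k⁻¹ * z' * k) = k⁻¹ * (z' * z') * k := by group
        _ = 1 := by rw [h2]; group) (by
      calc k⁻¹ * z'' * k * (k⁻¹ * z'' * k) = k⁻¹ * (z'' * z'') * k := by group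
        _ = 1 := by rw [h2']; group) (by
      calc k⁻¹ * z' * k * (k⁻¹ * z'' * k) = k⁻¹ * (z' * z'') * k := by group
        _ = k⁻¹ * (z'' * z') * k := by rw [hc]
        _ = _ := by group) (by
      calc k⁻¹ * (g' * g'') * k * (k⁻¹ * z' * k) * (k⁻¹ * (g' * g'') * k)⁻¹
          = k⁻¹ * (g' * (g'' * z' * g''⁻¹) * g'⁻¹) * k := by group
        _ = k⁻¹ * (g' * (z' * z'') * g'⁻¹) * k := by rw [e4]
        _ = k⁻¹ * ((g' * z' * g'⁻¹) * (g' * z'' * g'⁻¹)) * k := by group
        _ = k⁻¹ * (z' * (z' * z'')) * k := by rw [e1, e2]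
        _ = k⁻¹ * ((z' * z') * z'') * k := by group
        _ = k⁻¹ * z'' * k := by rw [h2]; group) (by
      calc k⁻¹ * (g' * g'') * k * (k⁻¹ * z'' * k) * (k⁻¹ * (g' * g'') * k)⁻¹
          = k⁻¹ * (g' * (g'' * z'' * g''⁻¹) * g'⁻¹) * k := by group
        _ = k⁻¹ * (g' * z'' * g'⁻¹) * k := by rw [e3]
        _ = k⁻¹ * (z' * z'') * k := by rw [e2]
        _ = _ := by group)
  have h4 : z' = k * (k⁻¹ * z' * k) * k⁻¹ := by group
  rw [h4, h3]; group

section sylow

variable [Finite N]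

/-- alignment: a 2-group centralising `e ~ t` can be moved into `P` together with `e ↦ t` -/
theorem exists_align (P : Sylow 2 N) {t e g0 : N} (htP : ∀ x ∈ P, x * t = t * x)
    (hg0 : g0 * e * g0⁻¹ = t) (R : Subgroup N) (hR : IsPGroup 2 R) (hRe : ∀ r ∈ R, r * e = e * r) :
    ∃ g, g * e * g⁻¹ = t ∧ ∀ r ∈ R, g * r * g⁻¹ ∈ P := by
  have : Fact (Nat.Prime 2) := ⟨Nat.prime_two⟩
  have hPC : (P : Subgroup N) ≤ centralizer ({t} : Set N) := by
    intro x hx
    rw [mem_centralizer_singleton_iff]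
    exact (htP x hx)
  have hRC : R.map (MulAut.conj g0).toMonoidHom ≤ centralizer ({t} : Set N) := by
    rintro _ ⟨r, hr, rfl⟩
    rw [mem_centralizer_singleton_iff]
    have h1 := hRe r hr
    change g0 * r * g0⁻¹ * t = t * (g0 * r * g0⁻¹)
    calc g0 * r * g0⁻¹ * t = g0 * r * g0⁻¹ * (g0 * e * g0⁻¹) := by rw [hg0]
      _ = g0 * (r * e) * g0⁻¹ := by group
      _ = g0 * (e * r) * g0⁻¹ := by rw [h1]
      _ = (g0 * e * g0⁻¹) * (g0 * r * g0⁻¹) := by group
      _ = t * (g0 * r * g0⁻¹) := by rw [hg0]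
  have hPi : ¬ 2 ∣ (P : Subgroup N).relIndex (centralizer ({t} : Set N)) := by
    intro h2
    exact P.not_dvd_index (h2.trans (relIndex_dvd_index_of_le hPC))
  obtain ⟨n, hn, hn2⟩ := exists_conj_le_in (p := 2) P.isPGroup' hPi hRC (hR.map _)
  rw [mem_centralizer_singleton_iff] at hn
  refine ⟨n * g0, ?_, ?_⟩
  · calc n * g0 * e * (n * g0)⁻¹ = n * (g0 * e * g0⁻¹) * n⁻¹ := by group
      _ = n * t * n⁻¹ := by rw [hg0]
      _ = t := by rw [hn]; group
  · intro r hr
    have h1 := hn2 (conj_mem_map_conj (conj_mem_map_conj hr g0) n)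
    have h2 : n * g0 * r * (n * g0)⁻¹ = n * (g0 * r * g0⁻¹) * n⁻¹ := by group
    rw [h2]
    exact h1

/-- key lemma: either an element of `N(Y) ∩ C(e)`, `Y = C_P(e)`, moves `t`, or `e` is `C(t)`-conjugate
to an element of `P` with larger centraliser in `P` -/
theorem exists_beta (P : Sylow 2 N) {t e g0 : N} (htP : ∀ x ∈ P, x * t = t * x)
    (hg0 : g0 * e * g0⁻¹ = t) (heP : e ∈ P) (hne : ∃ x ∈ P, x * e ≠ e * x) :
    (∃ b : N, b * e = e * b ∧ b * t ≠ t * b ∧
      ∀ y, (y ∈ P ∧ y * e = e * y) → (b * y * b⁻¹ ∈ P ∧ (b * y * b⁻¹) * e = e * (b * y * b⁻¹))) ∨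
    ∃ c : N, c * t = t * c ∧ c * e * c⁻¹ ∈ P ∧
      Nat.card ((P : Subgroup N) ⊓ centralizer ({e} : Set N) : Subgroup N) <
        Nat.card ((P : Subgroup N) ⊓ centralizer ({c * e * c⁻¹} : Set N) : Subgroup N) := by
  have : Fact (Nat.Prime 2) := ⟨Nat.prime_two⟩
  set Y : Subgroup N := (P : Subgroup N) ⊓ centralizer ({e} : Set N) with hY
  have memY : ∀ y, y ∈ Y ↔ (y ∈ P ∧ y * e = e * y) := by
    intro y
    rw [hY, mem_inf, mem_centralizer_singleton_iff]
    exact Iff.rfl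
  have hY2 : IsPGroup 2 Y := P.isPGroup'.to_le inf_le_left
  obtain ⟨g, hg, hgY⟩ := exists_align P htP hg0 Y hY2 (fun r hr => ((memY r).1 hr).2)
  -- `Y < P' = g⁻¹ P g`
  set P' : Subgroup N := (P : Subgroup N).map (MulAut.conj g⁻¹).toMonoidHom with hP'
  have hP'2 : IsPGroup 2 P' := P.isPGroup'.map _
  have hYP' : Y ≤ P' := by
    intro y hy
    rw [hP', mem_map_conj]
    have := hgY y hy
    rw [inv_inv]
    exact this
  have hlt : Y < P' := by
    refine lt_of_le_of_ne hYP' ?_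
    intro hEq
    obtain ⟨x, hx, hxe⟩ := hne
    have h1 : Nat.card Y = Nat.card (P : Subgroup N) := by
      rw [hEq, hP', card_map_conj]
    have h2 : Y = (P : Subgroup N) := Subgroup.eq_of_le_of_card_ge inf_le_left h1.ge
    have h3 : x ∈ Y := by rw [h2]; exact hx
    exact hxe ((memY x).1 h3).2
  have hlt2 := lt_inf_normalizer hP'2 hlt
  set R : Subgroup N := P' ⊓ normalizer (Y : Set N) with hR
  have hR2 : IsPGroup 2 R := hP'2.to_le inf_le_left
  have hRe : ∀ r ∈ R, r * e = e * r := by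
    intro r hr
    have h1 : r ∈ P' := hr.1
    rw [hP', mem_map_conj, inv_inv] at h1
    have h2 := htP _ h1
    have h3 : e = g⁻¹ * t * g := by rw [← hg]; group
    calc r * e = g⁻¹ * ((g * r * g⁻¹) * t) * g := by rw [h3]; group
      _ = g⁻¹ * (t * (g * r * g⁻¹)) * g := by rw [h2]
      _ = e * r := by rw [h3]; group
  by_cases hall : ∀ r ∈ R, r * t = t * r
  · right
    obtain ⟨c, hc, hcR⟩ := exists_align (e := t) (g0 := 1) P htP (by group) R hR2 hall
    refine ⟨c, ?_, ?_, ?_⟩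
    · exact mul_inv_eq_iff_eq_mul.1 hc
    · apply hcR
      exact hlt2.le ((memY e).2 ⟨heP, rfl⟩)
    · have h1 : Nat.card Y < Nat.card R := by
        refine lt_of_le_of_ne (Subgroup.card_le_of_le hlt2.le) ?_
        intro hcard
        exact hlt2.ne (Subgroup.eq_of_le_of_card_ge hlt2.le hcard.ge)
      refine lt_of_lt_of_le h1 ?_
      rw [← card_map_conj R c]
      apply Subgroup.card_le_of_le
      rintro _ ⟨r, hr, rfl⟩
      rw [mem_inf, mem_centralizer_singleton_iff]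
      refine ⟨hcR r hr, ?_⟩
      change c * r * c⁻¹ * (c * e * c⁻¹) = c * e * c⁻¹ * (c * r * c⁻¹)
      have h2 := hRe r hr
      calc c * r * c⁻¹ * (c * e * c⁻¹) = c * (r * e) * c⁻¹ := by group
        _ = c * (e * r) * c⁻¹ := by rw [h2]
        _ = _ := by group
  · left
    push Not at hall
    obtain ⟨b, hb, hbt⟩ := hall
    refine ⟨b, hRe b hb, hbt, ?_⟩
    intro y hy
    have h1 : b * y * b⁻¹ ∈ Y := (mem_normalizer_iff.1 hb.2 y).1 ((memY y).2 hy)
    exact (memY _).1 h1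

end sylow

namespace Conf

variable {P S0 A W1 V : Subgroup N}

/-- Lemma M': for an involution `e` of `P` outside `S0`, the elements normalising `C_P(e)` fix `t` -/
theorem fix_of_outside (h : Conf P S0 A W1 V) (hP : IsPGroup 2 P) {t : N} (ht : t ∈ V) (ht1 : t ≠ 1)
    (htP : ∀ x ∈ P, x * t = t * x) {e : N} (he : e ∈ P) (heS : e ∉ S0) (he2 : e * e = 1) {b : N}
    (hb : ∀ y, (y ∈ P ∧ y * e = e * y) → (b * y * b⁻¹ ∈ P ∧ (b * y * b⁻¹) * e = e * (b * y * b⁻¹))) :
    b * t = t * b := by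
  have htt : t * t = 1 := h.sqV ht
  have heinv : e⁻¹ = e := inv_eq_of_mul_eq_one_left he2
  -- the involutions which are squares in `Y`
  have key0 : ∀ y ∈ A, y * e = e * y → (y * y) * (y * y) = 1 → y * y ≠ 1 → y * y = t := by
    intro y hy hye h4 h2
    have h5 : y * y ∈ V := h.mem_V_of_A (A.mul_mem hy hy) h4
    have h6 : e * (y * y) = y * y * e := by
      rw [← mul_assoc, ← hye, mul_assoc, ← hye, ← mul_assoc]
    rcases h.eq_of_comm ht ht1 htP he heS h5 h6 with h7 | h7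
    · exact absurd h7 h2
    · exact h7
  have key : ∀ y, y ∈ P → y * e = e * y → (y * y) * (y * y) = 1 → y * y ≠ 1 → y * y = t := by
    intro y hy hye h4 h2
    by_cases hyS : y ∈ S0
    · by_cases hyA : y ∈ A
      · exact key0 y hyA hye h4 h2
      · exact absurd (h.inv2 y hyS hyA) h2
    · have h3 : y * e ∈ S0 := h.idxS y hy hyS e he heS
      have h5 : (y * e) * (y * e) = y * y := by
        calc (y * e) * (y * e) = y * (e * y) * e := by group
          _ = y * (y * e) * e := by rw [hye]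
          _ = y * y * (e * e) := by group
          _ = y * y := by rw [he2, mul_one]
      by_cases hyA : y * e ∈ A
      · have h6 : y * e * e = e * (y * e) := by
          rw [hye, mul_assoc]
          rw [hye]
        have h7 := key0 (y * e) hyA h6 (by rw [h5]; exact h4) (by rw [h5]; exact h2)
        rwa [h5] at h7
      · have h6 := h.inv2 _ h3 hyA
        rw [h5] at h6
        exact absurd h6 h2
  by_cases hsq : ∃ y, y ∈ P ∧ y * e = e * y ∧ y * y = t
  · obtain ⟨y, hy, hye, hyt⟩ := hsq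
    obtain ⟨h1, h2⟩ := hb y ⟨hy, hye⟩
    have h3 : b * y * b⁻¹ * (b * y * b⁻¹) = b * t * b⁻¹ := by rw [← hyt]; group
    have h4 := key _ h1 h2 (by
      rw [h3]
      calc b * t * b⁻¹ * (b * t * b⁻¹) = b * (t * t) * b⁻¹ := by group
        _ = 1 := by rw [htt]; group) (by
      rw [h3]
      intro h5
      apply ht1
      have := mul_inv_eq_one.1 h5
      simpa using this)
    rw [h3] at h4
    exact mul_inv_eq_iff_eq_mul.1 h4
  · exfalso
    push Not at hsq
    -- `C_A(e) = {1, t}`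
    have hCA : ∀ a ∈ A, a * e = e * a → a * a = 1 := by
      intro a ha hae
      by_contra ha2
      obtain ⟨k, hk⟩ := hP ⟨a, h.A_le_P ha⟩
      have hk' : a ^ 2 ^ k = 1 := by
        have := congrArg Subtype.val hk
        simpa using this
      classical
      have hex : ∃ k, a ^ 2 ^ k = 1 := ⟨k, hk'⟩
      set m := Nat.find hex with hm
      have hm1 : a ^ 2 ^ m = 1 := Nat.find_spec hex
      have hm2 : 2 ≤ m := by
        by_contra hlt
        have h3 : m = 0 ∨ m = 1 := by omega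
        rcases h3 with h3 | h3
        · rw [h3, pow_zero, pow_one] at hm1
          apply ha2
          rw [hm1, mul_one]
        · rw [h3, pow_one, pow_two] at hm1
          exact ha2 hm1
      obtain ⟨j, hj⟩ := Nat.exists_eq_add_of_le hm2
      have hj1 : a ^ 2 ^ (j + 1) ≠ 1 := by
        intro h3
        have h4 := Nat.find_min' hex h3
        omega
      have hbA : a ^ 2 ^ j ∈ A := A.pow_mem ha _
      have hbe : a ^ 2 ^ j * e = e * a ^ 2 ^ j := ((show Commute a e from hae).pow_left _)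
      have e1 : a ^ 2 ^ j * a ^ 2 ^ j = a ^ 2 ^ (j + 1) := by
        rw [← pow_add]; congr 1; ring
      have e2 : a ^ 2 ^ (j + 1) * a ^ 2 ^ (j + 1) = a ^ 2 ^ m := by
        rw [← pow_add, hj]; congr 1; ring
      have h5 := key0 _ hbA hbe (by rw [e1, e2, hm1]) (by rw [e1]; exact hj1)
      exact hsq _ (h.A_le_P hbA) hbe h5
    obtain ⟨s, hs, hs1, hst⟩ := h.exists_ne' t
    obtain ⟨c, hc, hcs⟩ := h.root s hs
    have hce : e * c * e⁻¹ ∈ A := h.conjA (h.P_norm he) hc
    have hmv := h.moves ht ht1 htP he heS hs hs1 hst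
    have hcc := h.comm c hc _ hce
    have h1 : (c * (e * c * e⁻¹)) * e = e * (c * (e * c * e⁻¹)) := by
      have h2 : e * (c * (e * c * e⁻¹)) * e⁻¹ = c * (e * c * e⁻¹) := by
        calc e * (c * (e * c * e⁻¹)) * e⁻¹ = (e * c * e⁻¹) * ((e * e) * c * (e * e)⁻¹) := by group
          _ = (e * c * e⁻¹) * c := by rw [he2]; group
          _ = _ := hcc.symm
      exact (mul_inv_eq_iff_eq_mul.1 h2).symm
    have h3 := hCA _ (A.mul_mem hc hce) h1
    apply ht1
    have h4 : (c * (e * c * e⁻¹)) * (c * (e * c * e⁻¹)) = (c * c) * (e * (c * c) * e⁻¹) := by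
      calc (c * (e * c * e⁻¹)) * (c * (e * c * e⁻¹)) = c * ((e * c * e⁻¹) * c) * (e * c * e⁻¹) := by group
        _ = c * (c * (e * c * e⁻¹)) * (e * c * e⁻¹) := by rw [hcc]
        _ = _ := by group
    rw [h4, hcs, hmv, ← mul_assoc, h.sqV hs, one_mul] at h3
    exact h3

end Conf

end Cfsg.Agent.GTwoOdd.Core
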