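import Cfsg.Agent.GTwoOdd.Core.FusionA
import Cfsg.Agent.Transfer.Residual
import Cfsg.Agent.SylowSp4.ExtTransfer
import Cfsg.Agent.Lib.SylowNormalInf

/-!
# Fusion in a group with a Sylow 2-subgroup as in `Conf`, part B
-/

set_option autoImplicit false

namespace Cfsg.Agent.GTwoOdd.Core

open Subgroup Cfsg.Agent.Lib.GoldschmidtFusion

variable {N : Type*} [Group N] [Finite N]

namespace Conf

variable {S0 A W1 V : Subgroup N}

/-- (a): no element of `S0 - A` is conjugate to `t` -/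
theorem not_conj_t {P : Sylow 2 N} (h : Conf (P : Subgroup N) S0 A W1 V) (h1 : NoThree V) {t : N} (ht : t ∈ V)
    (ht1 : t ≠ 1) (htP : ∀ x ∈ P, x * t = t * x) {u g0 : N} (hu : u ∈ S0) (huA : u ∉ A)
    (hg0 : g0 * u * g0⁻¹ = t) : False := by
  have hV2 : IsPGroup 2 V := P.isPGroup'.to_le h.V_le_P
  obtain ⟨g, hg, hgV⟩ := exists_align P htP hg0 V hV2 (fun r hr => (h.S_cent hu hr).symm)
  have htt : t * t = 1 := h.sqV ht
  have cmul : ∀ x y : N, g * (x * y) * g⁻¹ = (g * x * g⁻¹) * (g * y * g⁻¹) := by intro x y; group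
  have cone : ∀ x : N, g * x * g⁻¹ = 1 → x = 1 := by
    intro x hx
    have := mul_inv_eq_one.1 hx
    simpa using this
  by_cases hB : ∃ v ∈ V, g * v * g⁻¹ ∉ S0
  · obtain ⟨v2, hv2, hy2⟩ := hB
    -- choice of `v1`
    have hv1 : ∃ v1 ∈ V, v1 ≠ 1 ∧ g * v1 * g⁻¹ ∈ S0 := by
      obtain ⟨a, ha, ha1, ha2⟩ := h.exists_ne' v2
      by_cases hga : g * a * g⁻¹ ∈ S0
      · exact ⟨a, ha, ha1, hga⟩
      · refine ⟨a * v2, V.mul_mem ha hv2, ?_, ?_⟩
        · intro h5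
          apply ha2
          have := eq_inv_of_mul_eq_one_left h5
          rwa [h.invV hv2] at this
        · rw [cmul]
          exact h.idxS _ (hgV a ha) hga _ (hgV v2 hv2) hy2
    obtain ⟨v1, hv1, hv11, hy1⟩ := hv1
    obtain ⟨s, hs, hs1, hst⟩ := h.exists_ne' t
    obtain ⟨c, hc, hcv⟩ := h.root v2 hv2
    have hy2P := hgV v2 hv2
    have hmv := h.moves ht ht1 htP hy2P hy2 hs hs1 hst
    set y2 := g * v2 * g⁻¹ with hy2d
    set y1 := g * v1 * g⁻¹ with hy1d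
    have hy22 : y2 * y2 = 1 := by
      rw [hy2d, ← cmul, h.sqV hv2]; group
    have hcc : ∀ v ∈ V, c * v = v * c := fun v hv => h.comm c hc v (h.V_le hv)
    have e4 : s * y2 * s⁻¹ = y2 * t := by
      have h5 : y2⁻¹ = y2 := inv_eq_of_mul_eq_one_left hy22
      rw [h5] at hmv
      calc s * y2 * s⁻¹ = (y2 * y2) * (s * y2 * s⁻¹) := by rw [hy22, one_mul]
        _ = y2 * (y2 * s * y2) * s⁻¹ := by group
        _ = y2 * (s * t) * s⁻¹ := by rw [hmv]
        _ = y2 * (t * s) * s⁻¹ := by rw [h.commV hs ht]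
        _ = y2 * t := by group
    have hfin := h1.tt (k := g) (v1 := y1) (g' := g * c * g⁻¹) (g'' := s) (z' := y2) (z'' := t) hv1 hv11 rfl
      (by rw [hy1d, ← cmul, hcc v1 hv1, cmul]) (h.S_cent hy1 hs).symm
      (by rw [hy1d, hy2d, ← cmul, h.commV hv2 hv1, cmul])
      (by rw [htP y1 (hgV v1 hv1)]) hy22 htt (by rw [htP y2 hy2P])
      (by
        rw [hy2d]
        calc g * c * g⁻¹ * (g * v2 * g⁻¹) * (g * c * g⁻¹)⁻¹ = g * (c * v2) * c⁻¹ * g⁻¹ := by group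
          _ = g * (v2 * c) * c⁻¹ * g⁻¹ := by rw [hcc v2 hv2]
          _ = _ := by group)
      (by
        have h5 := h.conj_root hc hu huA
        rw [hcv] at h5
        calc g * c * g⁻¹ * t * (g * c * g⁻¹)⁻¹ = g * c * g⁻¹ * (g * u * g⁻¹) * (g * c * g⁻¹)⁻¹ := by rw [hg]
          _ = g * (c * u * c⁻¹) * g⁻¹ := by group
          _ = g * (v2 * u) * g⁻¹ := by rw [h5]
          _ = y2 * t := by rw [cmul, hg])
      (h.S_conj (h.V_le_S hs) ht) e4
    apply hy2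
    rw [hfin]
    exact S0.one_mem
  · push Not at hB
    have hA : ∃ v ∈ V, g * v * g⁻¹ ∉ A := by
      by_contra hc
      push Not at hc
      have hV : ∀ v ∈ V, g * v * g⁻¹ ∈ V := by
        intro v hv
        apply h.mem_V_of_A (hc v hv)
        rw [← cmul, h.sqV hv]; group
      have h5 : V.map (MulAut.conj g).toMonoidHom = V := by
        apply map_conj_le_of_le_normalizer
        rintro _ ⟨v, hv, rfl⟩
        exact hV v hv
      have h6 : t ∈ V.map (MulAut.conj g).toMonoidHom := by rw [h5]; exact ht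
      rw [mem_map_conj] at h6
      apply huA
      apply h.V_le
      have h7 : g⁻¹ * t * g = u := by rw [← hg]; group
      rwa [h7] at h6
    obtain ⟨v2, hv2, hy2⟩ := hA
    have hv1 : ∃ v1 ∈ V, v1 ≠ 1 ∧ g * v1 * g⁻¹ ∈ A := by
      obtain ⟨a, ha, ha1, ha2⟩ := h.exists_ne' v2
      by_cases hga : g * a * g⁻¹ ∈ A
      · exact ⟨a, ha, ha1, hga⟩
      · refine ⟨a * v2, V.mul_mem ha hv2, ?_, ?_⟩
        · intro h5
          apply ha2
          have := eq_inv_of_mul_eq_one_left h5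
          rwa [h.invV hv2] at this
        · rw [cmul]
          exact h.idxA _ (hB a ha) hga _ (hB v2 hv2) hy2
    obtain ⟨v1, hv1, hv11, hy1⟩ := hv1
    obtain ⟨c', hc', hct⟩ := h.root t ht
    obtain ⟨c, hc, hcv⟩ := h.root v2 hv2
    have hy2P := hgV v2 hv2
    have hy2S := hB v2 hv2
    set y2 := g * v2 * g⁻¹ with hy2d
    set y1 := g * v1 * g⁻¹ with hy1d
    have hy22 : y2 * y2 = 1 := by
      rw [hy2d, ← cmul, h.sqV hv2]; group
    have hcc : ∀ v ∈ V, c * v = v * c := fun v hv => h.comm c hc v (h.V_le hv)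
    have hfin := h1.tt (k := g) (v1 := y1) (g' := g * c * g⁻¹) (g'' := c') (z' := y2) (z'' := t) hv1 hv11 rfl
      (by rw [hy1d, ← cmul, hcc v1 hv1, cmul]) (h.comm c' hc' y1 hy1)
      (by rw [hy1d, hy2d, ← cmul, h.commV hv2 hv1, cmul])
      (by rw [htP y1 (hgV v1 hv1)]) hy22 htt (by rw [htP y2 hy2P])
      (by
        rw [hy2d]
        calc g * c * g⁻¹ * (g * v2 * g⁻¹) * (g * c * g⁻¹)⁻¹ = g * (c * v2) * c⁻¹ * g⁻¹ := by group
          _ = g * (v2 * c) * c⁻¹ * g⁻¹ := by rw [hcc v2 hv2]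
          _ = _ := by group)
      (by
        have h5 := h.conj_root hc hu huA
        rw [hcv] at h5
        calc g * c * g⁻¹ * t * (g * c * g⁻¹)⁻¹ = g * c * g⁻¹ * (g * u * g⁻¹) * (g * c * g⁻¹)⁻¹ := by rw [hg]
          _ = g * (c * u * c⁻¹) * g⁻¹ := by group
          _ = g * (v2 * u) * g⁻¹ := by rw [h5]
          _ = y2 * t := by rw [cmul, hg])
      (h.S_conj (h.A_le hc') ht)
      (by rw [h.conj_root hc' hy2S hy2, hct, htP y2 hy2P])
    apply hy2
    rw [hfin]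
    exact A.one_mem

/-- an involution of `S0` conjugate to `t` lies in `V` -/
theorem mem_V_of_conj_t {P : Sylow 2 N} (h : Conf (P : Subgroup N) S0 A W1 V) (h1 : NoThree V) {t : N} (ht : t ∈ V)
    (ht1 : t ≠ 1) (htP : ∀ x ∈ P, x * t = t * x) {u g0 : N} (hu : u ∈ S0) (hg0 : g0 * u * g0⁻¹ = t) : u ∈ V := by
  by_cases huA : u ∈ A
  · apply h.mem_V_of_A huA
    have h2 : u = g0⁻¹ * t * g0 := by rw [← hg0]; group
    calc u * u = (g0⁻¹ * t * g0) * (g0⁻¹ * t * g0) := by rw [← h2]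
      _ = g0⁻¹ * (t * t) * g0 := by group
      _ = 1 := by rw [h.sqV ht]; group
  · exact (h.not_conj_t h1 ht ht1 htP hu huA hg0).elim

/-- (b): every conjugate of `t` in `P` is `C(t)`-conjugate to an element of `V` -/
theorem conj_into_V {P : Sylow 2 N} (h : Conf (P : Subgroup N) S0 A W1 V) (h1 : NoThree V) {t : N} (ht : t ∈ V)
    (ht1 : t ≠ 1) (htP : ∀ x ∈ P, x * t = t * x) :
    ∀ n : ℕ, ∀ e ∈ P, Nat.card (P : Subgroup N) -
      Nat.card ((P : Subgroup N) ⊓ centralizer ({e} : Set N) : Subgroup N) = n →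
      (∃ g0, g0 * e * g0⁻¹ = t) → ∃ c, c * t = t * c ∧ c * e * c⁻¹ ∈ V := by
  intro n
  induction n using Nat.strong_induction_on with
  | _ n ih =>
    intro e he hn hconj
    obtain ⟨g0, hg0⟩ := hconj
    by_cases heS : e ∈ S0
    · exact ⟨1, by group, by
        have := h.mem_V_of_conj_t h1 ht ht1 htP heS hg0
        simpa using this⟩
    · have he2 : e * e = 1 := by
        have h2 : e = g0⁻¹ * t * g0 := by rw [← hg0]; group
        calc e * e = (g0⁻¹ * t * g0) * (g0⁻¹ * t * g0) := by rw [← h2]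
          _ = g0⁻¹ * (t * t) * g0 := by group
          _ = 1 := by rw [h.sqV ht]; group
      obtain ⟨s, hs, hs1, hst⟩ := h.exists_ne' t
      have hne : ∃ x ∈ P, x * e ≠ e * x := by
        refine ⟨s, h.V_le_P hs, fun h3 => ?_⟩
        rcases h.eq_of_comm ht ht1 htP he heS hs h3.symm with h4 | h4
        · exact hs1 h4
        · exact hst h4
      rcases exists_beta P htP hg0 he hne with ⟨b, -, hbt, hb⟩ | ⟨c, hct, hcP, hcard⟩
      · exact (hbt (h.fix_of_outside P.isPGroup' ht ht1 htP he heS he2 hb)).elim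
      · have hle : Nat.card ((P : Subgroup N) ⊓ centralizer ({c * e * c⁻¹} : Set N) : Subgroup N) ≤
            Nat.card (P : Subgroup N) := Subgroup.card_le_of_le inf_le_left
        obtain ⟨c2, hc2, hc2V⟩ := ih _ (by omega) (c * e * c⁻¹) hcP rfl ⟨g0 * c⁻¹, by
          rw [← hg0]; group⟩
        refine ⟨c2 * c, ?_, ?_⟩
        · rw [mul_assoc, hct, ← mul_assoc, hc2, mul_assoc]
        · have h4 : c2 * c * e * (c2 * c)⁻¹ = c2 * (c * e * c⁻¹) * c2⁻¹ := by group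
          rw [h4]
          exact hc2V

/-- every conjugate of `t` in `P` lies in `W1` -/
theorem mem_W_of_conj_t {P : Sylow 2 N} (h : Conf (P : Subgroup N) S0 A W1 V) (h1 : NoThree V)
    (h2 : InW (P : Subgroup N) S0 W1 V) {t : N} (ht : t ∈ V)
    (ht1 : t ≠ 1) (htP : ∀ x ∈ P, x * t = t * x) {e g0 : N} (he : e ∈ P) (hg0 : g0 * e * g0⁻¹ = t) :
    e ∈ W1 := by
  by_cases heS : e ∈ S0
  · exact h.A_le_W (h.V_le (h.mem_V_of_conj_t h1 ht ht1 htP heS hg0))
  · obtain ⟨c, hc, hcV⟩ := h.conj_into_V h1 ht ht1 htP _ e he rfl ⟨g0, hg0⟩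
    have h3 : c⁻¹ * (c * e * c⁻¹) * c⁻¹⁻¹ = e := by group
    have h4 := h2 t ht ht1 htP ⟨e, he, heS⟩ c⁻¹ (by
      have : c⁻¹ * (c * t) * c⁻¹ = c⁻¹ * (t * c) * c⁻¹ := by rw [hc]
      have h5 : c⁻¹ * (c * t) * c⁻¹ = t * c⁻¹ := by group
      have h6 : c⁻¹ * (t * c) * c⁻¹ = c⁻¹ * t := by group
      rw [h5, h6] at this
      exact this.symm) (c * e * c⁻¹) hcV (by rw [h3]; exact he)
    rwa [h3] at h4

end Conf

/-! ### odd powers of a 3-cycle -/

omit [Finite N] in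
theorem conj_pow_three {x a b c : N} (hab : x * a * x⁻¹ = b) (hbc : x * b * x⁻¹ = c) (hca : x * c * x⁻¹ = a) (q : ℕ) :
    x ^ (3 * q) * a * (x ^ (3 * q))⁻¹ = a := by
  induction q with
  | zero => simp
  | succ q ih =>
    have h1 : x ^ (3 * (q + 1)) * a * (x ^ (3 * (q + 1)))⁻¹ =
        x * (x * (x * (x ^ (3 * q) * a * (x ^ (3 * q))⁻¹) * x⁻¹) * x⁻¹) * x⁻¹ := by
      rw [show 3 * (q + 1) = 1 + (1 + (1 + 3 * q)) by ring, pow_add, pow_add, pow_add, pow_one]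
      group
    rw [h1, ih, hab, hbc, hca]

theorem exists_odd_pow (x : N) {a b c : N} (hab : x * a * x⁻¹ = b) (hbc : x * b * x⁻¹ = c)
    (hca : x * c * x⁻¹ = a) :
    ∃ n : ℕ, Odd (orderOf (x ^ n)) ∧
      ((x ^ n * a * (x ^ n)⁻¹ = b ∧ x ^ n * b * (x ^ n)⁻¹ = c ∧ x ^ n * c * (x ^ n)⁻¹ = a) ∨
       (x ^ n * a * (x ^ n)⁻¹ = c ∧ x ^ n * b * (x ^ n)⁻¹ = a ∧ x ^ n * c * (x ^ n)⁻¹ = b)) := by
  have : Fact (Nat.Prime 2) := ⟨Nat.prime_two⟩
  obtain ⟨k, hk⟩ := Cfsg.Agent.Transfer.Residual.exists_pow_prime_pow_coprime 2 x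
  refine ⟨2 ^ k, Nat.coprime_two_right.1 hk, ?_⟩
  have hmod : 2 ^ k % 3 = 1 ∨ 2 ^ k % 3 = 2 := by
    clear hk
    induction k with
    | zero => left; rfl
    | succ k ih => rw [pow_succ]; omega
  have hdiv := Nat.div_add_mod (2 ^ k) 3
  rcases hmod with hm | hm
  · left
    rw [hm] at hdiv
    have key : ∀ p q r : N, x * p * x⁻¹ = q → x * q * x⁻¹ = r → x * r * x⁻¹ = p →
        x ^ 2 ^ k * p * (x ^ 2 ^ k)⁻¹ = q := by
      intro p q r h1 h2 h3
      rw [← hdiv, add_comm, pow_add, pow_one]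
      calc x * x ^ (3 * (2 ^ k / 3)) * p * (x * x ^ (3 * (2 ^ k / 3)))⁻¹
          = x * (x ^ (3 * (2 ^ k / 3)) * p * (x ^ (3 * (2 ^ k / 3)))⁻¹) * x⁻¹ := by group
        _ = q := by rw [conj_pow_three h1 h2 h3, h1]
    exact ⟨key a b c hab hbc hca, key b c a hbc hca hab, key c a b hca hab hbc⟩
  · right
    rw [hm] at hdiv
    have key : ∀ p q r : N, x * p * x⁻¹ = q → x * q * x⁻¹ = r → x * r * x⁻¹ = p →
        x ^ 2 ^ k * p * (x ^ 2 ^ k)⁻¹ = r := by
      intro p q r h1 h2 h3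
      rw [← hdiv, add_comm, pow_add, pow_two]
      calc x * x * x ^ (3 * (2 ^ k / 3)) * p * (x * x * x ^ (3 * (2 ^ k / 3)))⁻¹
          = x * (x * (x ^ (3 * (2 ^ k / 3)) * p * (x ^ (3 * (2 ^ k / 3)))⁻¹) * x⁻¹) * x⁻¹ := by group
        _ = r := by rw [conj_pow_three h1 h2 h3, h1, h2]
    exact ⟨key a b c hab hbc hca, key b c a hbc hca hab, key c a b hca hab hbc⟩

/-- a 3-cycle on `V#` gives `Fused` -/
theorem Pre.fused_of_cycle {P S0 A W1 V : Subgroup N} (h : Pre P S0 A W1 V) {x a b : N}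
    (hx : ∀ y ∈ S0, x * y * x⁻¹ ∈ S0) (ha : a ∈ V) (hb : b ∈ V) (ha1 : a ≠ 1) (hb1 : b ≠ 1) (hab : a ≠ b)
    (h1 : x * a * x⁻¹ = b) (h2 : x * b * x⁻¹ = a * b) (h3 : x * (a * b) * x⁻¹ = a) : Fused S0 V := by
  obtain ⟨n, hn, hcase⟩ := exists_odd_pow x h1 h2 h3
  have hab1 : a * b ≠ 1 := by
    intro h5
    apply hab
    have := eq_inv_of_mul_eq_one_left h5
    rwa [h.invV hb] at this
  have haab : a * b ≠ a := by
    intro h5; exact hb1 (by simpa using h5)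
  have hbab : a * b ≠ b := by
    intro h5; exact ha1 (by simpa using h5)
  have hxn : ∀ m : ℕ, ∀ y ∈ S0, x ^ m * y * (x ^ m)⁻¹ ∈ S0 := by
    intro m
    induction m with
    | zero => intro y hy; simpa using hy
    | succ m ih =>
      intro y hy
      have h5 : x ^ (m + 1) * y * (x ^ (m + 1))⁻¹ = x * (x ^ m * y * (x ^ m)⁻¹) * x⁻¹ := by
        rw [pow_succ']; group
      rw [h5]
      exact hx _ (ih y hy)
  refine ⟨x ^ n, hn, hxn n, ?_⟩
  intro v hv hv1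
  refine ⟨h.conjV (hxn n) hv, ?_⟩
  rcases h.V_elim ha hb ha1 hb1 hab hv with rfl | rfl | rfl | rfl
  · exact absurd rfl hv1
  · rcases hcase with ⟨h4, -, -⟩ | ⟨h4, -, -⟩
    · rw [h4]; exact hab.symm
    · rw [h4]; exact haab
  · rcases hcase with ⟨-, h4, -⟩ | ⟨-, h4, -⟩
    · rw [h4]; exact hbab
    · rw [h4]; exact hab
  · rcases hcase with ⟨-, -, h4⟩ | ⟨-, -, h4⟩
    · rw [h4]; exact haab.symm
    · rw [h4]; exact hbab.symm

omit [Finite N] in
/-- `Fused` : all involutions of `V` are conjugate under the normaliser of `S0` -/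
theorem Pre.conj_of_fused' {P S0 A W1 V : Subgroup N} (h : Pre P S0 A W1 V) (hf : Fused S0 V) {a b : N}
    (ha : a ∈ V) (hb : b ∈ V) (ha1 : a ≠ 1) (hb1 : b ≠ 1) :
    ∃ g : N, g * a * g⁻¹ = b ∧ ∀ y ∈ S0, g * y * g⁻¹ ∈ S0 := by
  obtain ⟨x, -, hxS, hx⟩ := hf
  by_cases hab : a = b
  · exact ⟨1, by rw [hab]; group, fun y hy => by simpa using hy⟩
  obtain ⟨h1, h2⟩ := hx a ha ha1
  have ne1 : ∀ v : N, v ≠ 1 → x * v * x⁻¹ ≠ 1 := by
    intro v hv h3
    apply hv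
    have := mul_inv_eq_one.1 h3
    simpa using this
  rcases h.V_elim ha hb ha1 hb1 hab h1 with h3 | h3 | h3 | h3
  · exact absurd h3 (ne1 a ha1)
  · exact absurd h3 h2
  · exact ⟨x, h3, hxS⟩
  · -- `a ↦ ab ↦ ?`
    have hab1 : a * b ≠ 1 := by
      intro h5
      apply hab
      have := eq_inv_of_mul_eq_one_left h5
      rwa [h.invV hb] at this
    have habV := V.mul_mem ha hb
    obtain ⟨h4, h5⟩ := hx (a * b) habV hab1
    rcases h.V_elim ha hb ha1 hb1 hab h4 with h6 | h6 | h6 | h6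
    · exact absurd h6 (ne1 _ hab1)
    · -- `x` swaps `a` and `ab`, fixes `b`
      exfalso
      obtain ⟨-, h8⟩ := hx b hb hb1
      apply h8
      have h9 : b = a * (a * b) := by rw [← mul_assoc, h.sqV ha, one_mul]
      have h10 : x * (a * (a * b)) * x⁻¹ = (x * a * x⁻¹) * (x * (a * b) * x⁻¹) := by group
      rw [h9, h10, h3, h6, h.commV habV ha]
    · refine ⟨x * x, ?_, ?_⟩
      · calc x * x * a * (x * x)⁻¹ = x * (x * a * x⁻¹) * x⁻¹ := by group
          _ = b := by rw [h3, h6]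
      · intro y hy
        have h7 : x * x * y * (x * x)⁻¹ = x * (x * y * x⁻¹) * x⁻¹ := by group
        rw [h7]
        exact hxS _ (hxS _ hy)
    · exact absurd h6 h5

omit [Finite N] in
/-- `Fused` : all involutions of `V` are conjugate -/
theorem Pre.conj_of_fused {P S0 A W1 V : Subgroup N} (h : Pre P S0 A W1 V) (hf : Fused S0 V) {a b : N}
    (ha : a ∈ V) (hb : b ∈ V) (ha1 : a ≠ 1) (hb1 : b ≠ 1) : ∃ g : N, g * a * g⁻¹ = b := by
  obtain ⟨g, hg, -⟩ := h.conj_of_fused' hf ha hb ha1 hb1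
  exact ⟨g, hg⟩

end Cfsg.Agent.GTwoOdd.Core
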