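import Cfsg.Agent.GTwoOdd.Core.OddX
import Cfsg.Agent.Lib.CoprimeHyperplane

/-!
# Odd order subgroups of `C(v)/O(C(v))` normalised by a homocyclic group with inverting involution

`X` a finite group, `t` a central involution, `L : LocalSL t F1 F2`, `H : L.Hyp`, `a`, `w` elements with
`s = a²` an involution `≠ t`, `w a w⁻¹ = a⁻¹`.  Every subgroup of odd order normalised by a `2`-group
containing `a` and `w` is centralised by `s`.
-/

set_option autoImplicit false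

namespace Cfsg.Agent.GTwoOdd

open Matrix

namespace LocalSL

variable {X : Type*} [Group X] {t : X} {F1 F2 : Type*} [Field F1] [Field F2] [Finite F1] [Finite F2]
  {L : LocalSL t F1 F2}

/-- the matrices of `a`, `a²`, `w` -/
structure InvData (L : LocalSL t F1 F2) (a w : X) (A : M2 F1) (B : M2 F2) (D1 : M2 F1) (D2 : M2 F2) (n1 : M2 F1)
    (n2 : M2 F2) : Prop where
  rep : L.Rep (a * a) D1 D2
  repw : L.Rep w n1 n2
  repa : L.Rep a A B
  anti1 : n1 * D1 = -(D1 * n1)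
  anti2 : n2 * D2 = -(D2 * n2)
  sq1 : ∃ k : F1, k ≠ 0 ∧ A * A = k • D1
  sq2 : ∃ k : F2, k ≠ 0 ∧ B * B = k • D2

/-- if `A A = k D` with `D` of trace `0` then no matrix commuting with `D` inverts `A` projectively -/
theorem no_inv_of_comm {F : Type*} [Field F] (h2 : (2 : F) ≠ 0) {A D n : M2 F} {k u : F} (hD : D.det ≠ 0)
    (htr : D.trace = 0) (hk : k ≠ 0) (hA : A * A = k • D) (hAd : A.det ≠ 0) (hn : n.det ≠ 0) (hnD : n * D = D * n)
    (hinv : A.adjugate * n = u • (n * A)) : False := by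
  have hAD : A * D = D * A := by
    have h1 : A * (k • D) = (k • D) * A := by rw [← hA, mul_assoc]
    rw [Matrix.mul_smul, Matrix.smul_mul] at h1
    exact smul_cancel hk h1
  have hnA : n * A = A * n := cent_comm h2 hD htr hnD hAD
  rw [hnA, ← Matrix.smul_mul] at hinv
  have h1 := cancel_right hn hinv
  have h3 : A.det • (1 : M2 F) = (u * k) • D := by
    rw [← Matrix.mul_adjugate, h1, Matrix.mul_smul, hA, smul_smul]
  have h4 : u * k ≠ 0 := by
    intro h5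
    rw [h5, zero_smul] at h3
    rcases smul_eq_zero.1 h3 with h6 | h6
    · exact hAd h6
    · exact one_ne_zero h6
  apply not_scalar h2 hD htr ((u * k)⁻¹ * A.det)
  rw [mul_smul, h3, smul_smul, inv_mul_cancel₀ h4, one_smul]

/-- the data exist -/
theorem Hyp.exists_invData (H : L.Hyp) (hX : ∀ c : X, c * t = t * c) {a w : X} {m : ℕ} (hw : w ^ (2 ^ m) = 1)
    (hs1 : a * a ≠ 1) (hst : a * a ≠ t) (hss : a * a * (a * a) = 1) (hinv : w * a * w⁻¹ = a⁻¹) :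
    ∃ A B D1 D2 n1 n2, L.InvData a w A B D1 D2 n1 n2 := by
  obtain ⟨D1, D2, m1, m2, F⟩ := H.exists_frame (hX _) hss hs1 hst
  obtain ⟨A, B, hA⟩ := H.sq_mem a (hX a) ⟨D1, D2, F.rep⟩
  obtain ⟨n1, n2, hn⟩ := H.rep_of_two_pow (hX w) hw
  obtain ⟨⟨k1, hk1, e1⟩, ⟨k2, hk2, e2⟩⟩ := F.rep.prop (hA.mul hA)
  have hwa : w * a = a⁻¹ * w := by rw [← hinv]; group
  have hws : w * (a * a) = (a * a) * w := by
    have h1 : a⁻¹ * a⁻¹ = a * a := by
      rw [← _root_.mul_inv_rev]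
      exact inv_eq_of_mul_eq_one_right hss
    calc w * (a * a) = (w * a) * a := by group
      _ = (a⁻¹ * w) * a := by rw [hwa]
      _ = a⁻¹ * (w * a) := by group
      _ = a⁻¹ * (a⁻¹ * w) := by rw [hwa]
      _ = (a⁻¹ * a⁻¹) * w := by group
      _ = (a * a) * w := by rw [h1]
  have hr1 := hn.mul hA
  have hr2 := hA.inv.mul hn
  rw [← hwa] at hr2
  obtain ⟨⟨u1, hu1, f1⟩, ⟨u2, hu2, f2⟩⟩ := hr1.prop hr2
  rcases F.of_comm_s hn hws with ⟨h1, h3⟩ | ⟨h1, h3⟩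
  · exfalso
    exact no_inv_of_comm H.two_ne1 F.det1 F.tr1 hk1 e1 hA.det1 hn.det1 h1 f1
  · exact ⟨A, B, D1, D2, n1, n2, F.rep, hn, hA, h1, h3, ⟨k1, hk1, e1⟩, ⟨k2, hk2, e2⟩⟩

/-- one coordinate -/
theorem comm_of_invData {F : Type*} [Field F] (h2 : (2 : F) ≠ 0) {e : SL2 F →* X} (he : Function.Injective e) {r : ℕ}
    (hr : r.Prime) (hr2 : r ≠ 2) {R : Subgroup X} [Finite R] (hR : IsPGroup r R)
    (hRA : ∀ c ∈ R, ∃ A, Acts e c A) {a w : X} {A D n : M2 F} {k : F}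
    (ha : ∀ c ∈ R, a * c * a⁻¹ ∈ R) (hw : ∀ c ∈ R, w * c * w⁻¹ ∈ R) (hA : Acts e a A) (hn : Acts e w n)
    (hD : D.det ≠ 0) (hnD : n * D = -(D * n)) (hk : k ≠ 0) (hAD : A * A = k • D) :
    ∀ c ∈ R, ∀ C, Acts e c C → C * D = D * C := by
  intro c hc C hC
  by_cases hnt : ∀ c ∈ R, Triv e c
  · obtain ⟨u, rfl⟩ := (hC.triv_iff he).1 (hnt c hc)
    rw [Matrix.smul_mul, Matrix.mul_smul, one_mul, mul_one]
  push Not at hnt
  obtain ⟨z, hz, hzt, h1, h3⟩ := exists_axis h2 he hr hr2 R hR hRA hnt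
  obtain ⟨b, hb⟩ := h3 w n hw hn
  obtain ⟨x, hx⟩ := h3 a A ha hA
  have h4 := comm_of_sq h2 hD hn.1 hnD hz hzt hb hAD hk hx
  obtain ⟨p, q, hpq⟩ := h1 c hc C hC
  exact comm_of_axis hpq h4

/-- **[A2] for `r`-groups** -/
theorem Hyp.comm_sq_of_pgroup (H : L.Hyp) (hX : ∀ c : X, c * t = t * c) {r : ℕ} (hr : r.Prime) (hr2 : r ≠ 2)
    {R : Subgroup X} [Finite R] (hR : IsPGroup r R) {a w : X} {m : ℕ} (hw : w ^ (2 ^ m) = 1) (hs1 : a * a ≠ 1)
    (hst : a * a ≠ t) (hss : a * a * (a * a) = 1) (hinv : w * a * w⁻¹ = a⁻¹)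
    (hRa : ∀ c ∈ R, a * c * a⁻¹ ∈ R) (hRw : ∀ c ∈ R, w * c * w⁻¹ ∈ R) : ∀ c ∈ R, c * (a * a) = a * a * c := by
  obtain ⟨A, B, D1, D2, n1, n2, D⟩ := H.exists_invData hX hw hs1 hst hss hinv
  have hfin : Finite (R ⊓ zeroG L : Subgroup X) :=
    Finite.of_injective _ (Subgroup.inclusion_injective (inf_le_left : R ⊓ zeroG L ≤ R))
  have hR' : IsPGroup r (R ⊓ zeroG L : Subgroup X) := hR.to_le inf_le_left
  have ha' : ∀ c ∈ (R ⊓ zeroG L : Subgroup X), a * c * a⁻¹ ∈ (R ⊓ zeroG L : Subgroup X) := fun c hc =>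
    ⟨hRa c hc.1, H.conj_mem_zeroG (hX a) hc.2⟩
  have hw' : ∀ c ∈ (R ⊓ zeroG L : Subgroup X), w * c * w⁻¹ ∈ (R ⊓ zeroG L : Subgroup X) := fun c hc =>
    ⟨hRw c hc.1, H.conj_mem_zeroG (hX w) hc.2⟩
  obtain ⟨k1, hk1, e1⟩ := D.sq1
  obtain ⟨k2, hk2, e2⟩ := D.sq2
  have key1 := comm_of_invData H.two_ne1 L.inj1 hr hr2 hR' (fun c hc => let ⟨A, _, h⟩ := hc.2; ⟨A, h.acts1⟩) ha' hw'
    D.repa.acts1 D.repw.acts1 D.rep.det1 D.anti1 hk1 e1
  have key2 := comm_of_invData H.two_ne2 L.inj2 hr hr2 hR' (fun c hc => let ⟨_, B, h⟩ := hc.2; ⟨B, h.acts2⟩) ha' hw'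
    D.repa.acts2 D.repw.acts2 D.rep.det2 D.anti2 hk2 e2
  have key : ∀ c ∈ R, c ∈ zeroG L → c * (a * a) = a * a * c := by
    rintro c hc ⟨C1, C2, hC⟩
    exact H.commute_of hC D.rep (key1 c ⟨hc, C1, C2, hC⟩ C1 hC.acts1) (key2 c ⟨hc, C1, C2, hC⟩ C2 hC.acts2)
  intro c hc
  set s := a * a with hs
  have hsR : s * c * s⁻¹ ∈ R := by
    have := hRa _ (hRa c hc)
    have e : a * (a * c * a⁻¹) * a⁻¹ = s * c * s⁻¹ := by rw [hs]; group
    rwa [e] at this
  -- `k = [s, c]`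
  have hkR : s * c * s⁻¹ * c⁻¹ ∈ R := R.mul_mem hsR (R.inv_mem hc)
  have hkz : s * c * s⁻¹ * c⁻¹ ∈ zeroG L := H.mem_zeroG_comm (hX s) (hX c)
  have hks := key _ hkR hkz
  set k := s * c * s⁻¹ * c⁻¹ with hk
  have hsinv : s⁻¹ = s := inv_eq_of_mul_eq_one_right hss
  have h1 : s * c * s⁻¹ = k * c := by rw [hk]; group
  have h3 : k * k = 1 := by
    have h4 : s * (s * c * s⁻¹) * s⁻¹ = k * k * c := by
      rw [h1]
      calc s * (k * c) * s⁻¹ = (s * k) * c * s⁻¹ := by group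
        _ = k * (s * c * s⁻¹) := by rw [← hks]; group
        _ = k * k * c := by rw [h1]; group
    have h5 : s * (s * c * s⁻¹) * s⁻¹ = c := by
      calc s * (s * c * s⁻¹) * s⁻¹ = (s * s) * c * (s⁻¹ * s⁻¹) := by group
        _ = c := by rw [hsinv, hss]; group
    rw [h5] at h4
    exact (mul_eq_right.1 h4.symm)
  have h6 : k = 1 := by
    obtain ⟨j, hj⟩ := hR ⟨k, hkR⟩
    have hj' : k ^ r ^ j = 1 := by have h9 := congrArg Subtype.val hj; simpa using h9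
    obtain ⟨i, hi⟩ := (hr.odd_of_ne_two hr2).pow (n := j)
    rw [hi, pow_succ, pow_mul, pow_two, h3, one_pow, one_mul] at hj'
    exact hj'
  rw [h6, one_mul] at h1
  calc c * s = (s * c * s⁻¹) * s := by rw [h1]
    _ = s * c := by group

/-- **[A2]**: a subgroup of odd order normalised by a `2`-group containing `a` and `w` is centralised by `a²` -/
theorem Hyp.comm_sq_of_odd [Finite X] (H : L.Hyp) (hX : ∀ c : X, c * t = t * c) {A₀ Y : Subgroup X} (hA₀ : IsPGroup 2 A₀)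
    (hN : A₀ ≤ Subgroup.normalizer (Y : Set X)) (hY : Odd (Nat.card Y)) {a w : X} (ha : a ∈ A₀) (hw : w ∈ A₀)
    (hs1 : a * a ≠ 1) (hst : a * a ≠ t) (hss : a * a * (a * a) = 1) (hinv : w * a * w⁻¹ = a⁻¹) :
    ∀ c ∈ Y, c * (a * a) = a * a * c := by
  have h2 : ¬ 2 ∣ Nat.card Y := hY.not_two_dvd_nat
  have : Fact (Nat.Prime 2) := ⟨Nat.prime_two⟩
  obtain ⟨m, hm⟩ := hA₀ ⟨w, hw⟩
  have hm' : w ^ 2 ^ m = 1 := by have h9 := congrArg Subtype.val hm; simpa using h9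
  let C : Subgroup X := Subgroup.centralizer {a * a}
  suffices hle : Y ≤ C by
    intro c hc
    exact Subgroup.mem_centralizer_singleton_iff.1 (hle hc)
  have key : ∀ r : ℕ, r.Prime → r ^ (Nat.card Y).factorization r ∣ Nat.card (Y ⊓ C : Subgroup X) := by
    intro r hr
    have hrf : Fact r.Prime := ⟨hr⟩
    by_cases hr2 : r = 2
    · rw [hr2, Nat.factorization_eq_zero_of_not_dvd h2, pow_zero]
      exact one_dvd _
    obtain ⟨P, hP⟩ := Lib.CoprimeHyperplane.exists_invariant_sylow hA₀ hN h2 r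
    have hPr : IsPGroup r ((P : Subgroup Y).map Y.subtype : Subgroup X) := P.2.map _
    have hcj : ∀ b ∈ A₀, ∀ c ∈ ((P : Subgroup Y).map Y.subtype : Subgroup X),
        b * c * b⁻¹ ∈ ((P : Subgroup Y).map Y.subtype : Subgroup X) := fun b hb c hc =>
      (Subgroup.mem_normalizer_iff.1 (hP hb) c).1 hc
    have h3 := H.comm_sq_of_pgroup hX hr hr2 hPr hm' hs1 hst hss hinv (hcj a ha) (hcj w hw)
    have h4 : ((P : Subgroup Y).map Y.subtype : Subgroup X) ≤ Y ⊓ C := by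
      intro c hc
      exact ⟨Subgroup.map_subtype_le _ hc, Subgroup.mem_centralizer_singleton_iff.2 (h3 c hc)⟩
    have h5 : Nat.card ((P : Subgroup Y).map Y.subtype : Subgroup X) = r ^ (Nat.card Y).factorization r := by
      rw [Subgroup.card_map_of_injective Y.subtype_injective]
      exact P.card_eq_multiplicity
    rw [← h5]
    exact Subgroup.card_dvd_of_le h4
  have hdvd : Nat.card Y ∣ Nat.card (Y ⊓ C : Subgroup X) := by
    rw [Nat.dvd_iff_prime_pow_dvd_dvd]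
    intro p k hp hk
    refine dvd_trans ?_ (key p hp)
    exact pow_dvd_pow p ((hp.pow_dvd_iff_le_factorization Nat.card_pos.ne').1 hk)
  have heq : Y ⊓ C = Y := Subgroup.eq_of_le_of_card_ge inf_le_left (Nat.le_of_dvd Nat.card_pos hdvd)
  rw [← heq]
  exact inf_le_right

end LocalSL

end Cfsg.Agent.GTwoOdd
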