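import Cfsg.Agent.GTwoOdd.Core.Defs
import Cfsg.Agent.GTwoOdd.Core.OddInv
import Cfsg.Agent.Lib.PGroupCoprimeAction
import Cfsg.Agent.Lib.Cores
import Cfsg.Agent.SignalizersComponents.CoprimeBasic

/-!
# `S0`-invariant subgroups of odd order of `C(v)`

* `comm_mem`: `LocHyp v`, `S0` a `2`-subgroup of `C(v)` containing `a`, `w` with `a²` an involution `≠ v`, `w`
  inverting `a`; every `S0`-invariant subgroup `Y` of odd order of `C(v)` satisfies `[Y, a²] ≤ O_v`;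
* `hone`: `Y ≤ O_v W_V`.
-/

set_option autoImplicit false

namespace Cfsg.Agent.GTwoOdd.Core.OddG

open Subgroup

variable {G : Type*} [Group G]

/-- `O_v` as a subgroup of the centraliser -/
theorem bar_eq_one_iff {v : G} (c : centralizer ({v} : Set G)) :
    bar v c = 1 ↔ c ∈ Cfsg.pPrimeCore 2 (centralizer ({v} : Set G)) :=
  QuotientGroup.eq_one_iff c

theorem mem_core_iff {v g : G} : g ∈ Cfsg.centralizerPPrimeCore 2 v ↔
    ∃ h : g ∈ centralizer ({v} : Set G), (⟨g, h⟩ : centralizer ({v} : Set G)) ∈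
      Cfsg.pPrimeCore 2 (centralizer ({v} : Set G)) := by
  constructor
  · rintro ⟨c, hc, rfl⟩
    exact ⟨c.2, hc⟩
  · rintro ⟨h, hc⟩
    exact ⟨⟨g, h⟩, hc, rfl⟩

/-- a `2`-element of the odd core is trivial -/
theorem eq_one_of_mem_core [Finite G] {v g : G} (hg : g * g = 1) (h : g ∈ Cfsg.centralizerPPrimeCore 2 v) : g = 1 := by
  obtain ⟨h1, h2⟩ := mem_core_iff.1 h
  have h3 := orderOf_dvd_natCard (G := Cfsg.pPrimeCore 2 (centralizer ({v} : Set G))) ⟨_, h2⟩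
  have h4 := Lib.Cores.pPrimeCore_coprime (G := centralizer ({v} : Set G)) 2
  have h5 : orderOf (⟨⟨g, h1⟩, h2⟩ : Cfsg.pPrimeCore 2 (centralizer ({v} : Set G))) = orderOf g := by
    rw [← Subgroup.orderOf_coe, ← Subgroup.orderOf_coe]
  rw [h5] at h3
  have h6 : orderOf g ∣ 2 := orderOf_dvd_iff_pow_eq_one.2 (by rw [pow_two]; exact hg)
  have h7 : orderOf g ∣ 1 := by
    rw [← h4]
    exact Nat.dvd_gcd h3 h6
  exact orderOf_eq_one_iff.1 (Nat.dvd_one.1 h7)

theorem le_normalizer_of [Finite G] {A P : Subgroup G} (h : ∀ s ∈ A, ∀ x ∈ P, s * x * s⁻¹ ∈ P) :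
    A ≤ normalizer (P : Set G) := by
  intro s hs
  rw [mem_normalizer_iff]
  intro x
  refine ⟨h s hs x, fun hx => ?_⟩
  have h1 := h s⁻¹ (A.inv_mem hs) _ hx
  have h2 : s⁻¹ * (s * x * s⁻¹) * s⁻¹⁻¹ = x := by group
  rwa [h2] at h1

theorem odd_map {A B : Type*} [Group A] [Group B] [Finite A] (f : A →* B) {Y : Subgroup A} (hY : Odd (Nat.card Y)) :
    Odd (Nat.card (Y.map f)) := hY.of_dvd_nat (Subgroup.card_map_dvd Y f)

/-- **(1), element form** -/
theorem comm_mem [Finite G] {v : G} (hv : LocHyp v) (hvv : v * v = 1) {S₀ Y : Subgroup G} (hS : IsPGroup 2 S₀)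
    (hSv : S₀ ≤ centralizer ({v} : Set G)) (hYv : Y ≤ centralizer ({v} : Set G))
    (hN : S₀ ≤ normalizer (Y : Set G)) (hY : Odd (Nat.card Y)) {a w : G} (ha : a ∈ S₀) (hw : w ∈ S₀)
    (hs1 : a * a ≠ 1) (hsv : a * a ≠ v) (hss : a * a * (a * a) = 1) (hinv : w * a * w⁻¹ = a⁻¹) :
    ∀ y ∈ Y, y⁻¹ * (a * a * y * (a * a)⁻¹) ∈ Cfsg.centralizerPPrimeCore 2 v := by
  obtain ⟨F1, F2, _, _, _, _, L, H⟩ := hv
  have hvm : v ∈ centralizer ({v} : Set G) := mem_centralizer_singleton_iff.2 rfl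
  have hX : ∀ c : centralizer ({v} : Set G) ⧸ Cfsg.pPrimeCore 2 (centralizer ({v} : Set G)),
      c * bar v ⟨v, hvm⟩ = bar v ⟨v, hvm⟩ * c := by
    intro c
    obtain ⟨c, rfl⟩ := QuotientGroup.mk'_surjective _ c
    change bar v c * bar v ⟨v, hvm⟩ = bar v ⟨v, hvm⟩ * bar v c
    rw [← map_mul, ← map_mul]
    congr 1
    exact Subtype.ext (mem_centralizer_singleton_iff.1 c.2)
  let A₀ := (S₀.subgroupOf (centralizer ({v} : Set G))).map (bar v)
  let Y' := (Y.subgroupOf (centralizer ({v} : Set G))).map (bar v)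
  have hA₀ : IsPGroup 2 A₀ := (hS.comap_of_injective _ (Subgroup.subtype_injective _)).map _
  have hYc : Odd (Nat.card (Y.subgroupOf (centralizer ({v} : Set G)))) := by
    rwa [Nat.card_congr (subgroupOfEquivOfLe hYv).toEquiv]
  have hY' : Odd (Nat.card Y') := odd_map _ hYc
  have hN' : A₀ ≤ normalizer (Y' : Set _) := by
    apply le_normalizer_of
    rintro _ ⟨s, hs, rfl⟩ _ ⟨y, hy, rfl⟩
    rw [← map_inv, ← map_mul, ← map_mul]
    refine ⟨_, ?_, rfl⟩
    change (s : G) * y * (s : G)⁻¹ ∈ Y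
    exact (mem_normalizer_iff.1 (hN hs) y).1 hy
  let a' : centralizer ({v} : Set G) := ⟨a, hSv ha⟩
  let w' : centralizer ({v} : Set G) := ⟨w, hSv hw⟩
  have ha' : bar v a' ∈ A₀ := ⟨a', ha, rfl⟩
  have hw' : bar v w' ∈ A₀ := ⟨w', hw, rfl⟩
  have key := H.comm_sq_of_odd hX hA₀ hN' hY' ha' hw' ?_ ?_ ?_ ?_
  · intro y hy
    let y' : centralizer ({v} : Set G) := ⟨y, hYv hy⟩
    have h1 := key (bar v y') ⟨y', hy, rfl⟩
    have h2 : bar v (y'⁻¹ * (a' * a' * y' * (a' * a')⁻¹)) = 1 := by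
      rw [map_mul, map_mul, map_mul, map_mul, map_inv, map_inv, map_mul, ← h1]
      group
    rw [bar_eq_one_iff] at h2
    exact ⟨_, h2, rfl⟩
  · intro h
    rw [← map_mul, bar_eq_one_iff] at h
    exact hs1 (eq_one_of_mem_core hss (mem_core_iff.2 ⟨_, h⟩))
  · intro h
    have h2 : bar v (a' * a' * ⟨v, hvm⟩⁻¹) = 1 := by
      rw [map_mul, map_mul, map_inv, h, mul_inv_cancel]
    rw [bar_eq_one_iff] at h2
    have h3 : a * a * v⁻¹ ∈ Cfsg.centralizerPPrimeCore 2 v := mem_core_iff.2 ⟨_, h2⟩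
    have hav : (a * a) * v = v * (a * a) := mem_centralizer_singleton_iff.1 (mul_mem (hSv ha) (hSv ha))
    have hvi : v⁻¹ = v := inv_eq_of_mul_eq_one_right hvv
    have h4 : (a * a * v⁻¹) * (a * a * v⁻¹) = 1 := by
      rw [hvi]
      calc (a * a * v) * (a * a * v) = (a * a) * (v * (a * a)) * v := by group
        _ = (a * a * (a * a)) * (v * v) := by rw [← hav]; group
        _ = 1 := by rw [hss, hvv, one_mul]
    exact hsv (mul_inv_eq_one.1 (eq_one_of_mem_core h4 h3))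
  · rw [← map_mul, ← map_mul]
    have : a' * a' * (a' * a') = 1 := Subtype.ext hss
    rw [this, map_one]
  · rw [← map_inv, ← map_inv, ← map_mul, ← map_mul]
    have : w' * a' * w'⁻¹ = a'⁻¹ := Subtype.ext hinv
    rw [this]

/-- the core `O_v` is normalised by `C(v)` -/
theorem core_norm {v c u : G} (hc : c ∈ centralizer ({v} : Set G)) (hu : u ∈ Cfsg.centralizerPPrimeCore 2 v) :
    c * u * c⁻¹ ∈ Cfsg.centralizerPPrimeCore 2 v := by
  obtain ⟨u, hu, rfl⟩ := hu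
  exact ⟨⟨c, hc⟩ * u * ⟨c, hc⟩⁻¹, (Lib.Cores.pPrimeCore_normal 2).conj_mem _ hu _, rfl⟩

theorem core_odd [Finite G] (v : G) : Odd (Nat.card (Cfsg.centralizerPPrimeCore 2 v)) := by
  have h := Lib.Cores.pPrimeCore_coprime (G := centralizer ({v} : Set G)) 2
  have h1 : Odd (Nat.card (Cfsg.pPrimeCore 2 (centralizer ({v} : Set G)))) := Nat.coprime_two_right.1 h
  exact odd_map _ h1

theorem core_le (v : G) : Cfsg.centralizerPPrimeCore 2 v ≤ centralizer ({v} : Set G) := map_subtype_le _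

/-- **(1)**: `S0`-invariant subgroups of odd order of `C(v)` lie in `O_v W_V` -/
theorem hone [Finite G] {V A S₀ : Subgroup G} (hS : IsPGroup 2 S₀) (hVS : V ≤ S₀) (hAS : A ≤ S₀)
    (hSV : S₀ ≤ centralizer (V : Set G)) (hV2 : ∀ v ∈ V, v * v = 1) (hroot : ∀ v ∈ V, ∃ c ∈ A, c * c = v) {w : G}
    (hw : w ∈ S₀) (hinv : ∀ a ∈ A, w * a * w⁻¹ = a⁻¹)
    (hW : ∀ x ∈ centralizer (V : Set G), Odd (orderOf x) → x ∈ coreC V)
    {v : G} (hv : v ∈ V) (hloc : LocHyp v) {Y : Subgroup G} (hY : Odd (Nat.card Y))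
    (hYv : Y ≤ centralizer ({v} : Set G)) (hN : S₀ ≤ normalizer (Y : Set G)) :
    Y ≤ Cfsg.centralizerPPrimeCore 2 v ⊔ coreC V := by
  have : Fact (Nat.Prime 2) := ⟨Nat.prime_two⟩
  have hSv : S₀ ≤ centralizer ({v} : Set G) := hSV.trans (centralizer_le (Set.singleton_subset_iff.2 hv))
  have hYO : Y ≤ normalizer (Cfsg.centralizerPPrimeCore 2 v : Set G) :=
    le_normalizer_of fun b hb u hu => core_norm (hYv hb) hu
  -- `K = O_v Y`
  set K : Subgroup G := Cfsg.centralizerPPrimeCore 2 v ⊔ Y with hK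
  have hKodd : Odd (Nat.card K) :=
    ((core_odd v).mul hY).of_dvd_nat (SignalizersComponents.CoprimeBasic.card_sup_dvd hYO)
  have hVpg : IsPGroup 2 V := hS.to_le hVS
  have hcomm : ∀ u ∈ V, ∀ y ∈ Y, y⁻¹ * (u * y * u⁻¹) ∈ Cfsg.centralizerPPrimeCore 2 v := by
    intro u hu y hy
    by_cases hu1 : u = 1
    · rw [hu1]
      have : y⁻¹ * (1 * y * (1 : G)⁻¹) = 1 := by group
      rw [this]
      exact one_mem _
    by_cases huv : u = v
    · have h1 : y * v = v * y := mem_centralizer_singleton_iff.1 (hYv hy)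
      have : y⁻¹ * (u * y * u⁻¹) = 1 := by rw [huv, ← h1]; group
      rw [this]
      exact one_mem _
    obtain ⟨a, ha, rfl⟩ := hroot u hu
    exact comm_mem hloc (hV2 v hv) hS hSv hYv hN hY (hAS ha) hw hu1 huv (hV2 _ hu) (hinv a ha) y hy
  have hKinv : ∀ b ∈ V, ∀ u ∈ K, b * u * b⁻¹ ∈ K := by
    intro b hb u hu
    rw [hK, SignalizersComponents.CoprimeBasic.mem_sup_iff hYO] at hu ⊢
    obtain ⟨x, hx, y, hy, rfl⟩ := hu
    refine ⟨b * x * b⁻¹, core_norm (hSv (hVS hb)) hx, b * y * b⁻¹, ?_, by group⟩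
    exact (mem_normalizer_iff.1 (hN (hVS hb)) y).1 hy
  intro y hy
  obtain ⟨c, hc, hc'⟩ := Lib.PGroupCoprimeAction.exists_centralizer_mem_coset (A := V) (H := K) hVpg
    hKodd.not_two_dvd_nat hKinv (N := Cfsg.centralizerPPrimeCore 2 v)
    (fun b hb u hu => core_norm (hSv (hVS hb)) hu) (h := y) (mem_sup_right hy) (fun b hb => hcomm b hb y hy)
  have hcW : c ∈ coreC V := hW c hc.2 (by
    have h1 := Subgroup.orderOf_dvd_natCard K hc.1
    exact hKodd.of_dvd_nat h1)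
  have h3 : y = c * (y⁻¹ * c)⁻¹ := by group
  rw [h3]
  exact mul_mem (mem_sup_right hcW) (inv_mem (mem_sup_left hc'))

end Cfsg.Agent.GTwoOdd.Core.OddG
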