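import Cfsg.Agent.GTwoOdd.TrZero

/-!
# Groups of odd order acting on `SL(2,F)`: the axis

`exists_axis`: a nontrivial `r`-group of conjugations of `SL(2,F)` (`r` odd) has an axis `z ≠ 0`, a
matrix of trace `0` which commutes with it, and every matrix which normalises the group
normalises the line of `z`.
-/

set_option autoImplicit false

namespace Cfsg.Agent.GTwoOdd

open Matrix

variable {F : Type*} [Field F]

section mat

variable (h2 : (2 : F) ≠ 0)
include h2

/-- the centraliser of a nonzero matrix of trace `0` -/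
theorem cent_form' {D A : M2 F} (hD : D ≠ 0) (ht : D.trace = 0) (h : A * D = D * A) :
    ∃ a b : F, A = a • (1 : M2 F) + b • D := by
  have hd := trace_zero_iff.1 ht
  rw [m2_eq_iff] at h
  simp only [m2_mul_00, m2_mul_01, m2_mul_10, m2_mul_11] at h
  obtain ⟨e1, e2, e3, e4⟩ := h
  have key : ∃ b : F, A 0 1 = b * D 0 1 ∧ A 1 0 = b * D 1 0 ∧ A 0 0 - A 1 1 = 2 * b * D 0 0 := by
    by_cases hq : D 0 1 = 0
    · by_cases hr : D 1 0 = 0
      · have hp : D 0 0 ≠ 0 := by
          intro hp
          apply hD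
          apply m2_ext
          · simpa using hp
          · simpa using hq
          · simpa using hr
          · rw [hd, hp]; simp
        refine ⟨(A 0 0 - A 1 1) / (2 * D 0 0), ?_, ?_, ?_⟩
        · rw [hq, mul_zero]
          rw [hq, hd] at e2
          have : 2 * D 0 0 * A 0 1 = 0 := by linear_combination -e2
          simpa [h2, hp] using this
        · rw [hr, mul_zero]
          rw [hr, hd] at e3
          have : 2 * D 0 0 * A 1 0 = 0 := by linear_combination e3
          simpa [h2, hp] using this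
        · field_simp
      · refine ⟨A 1 0 / D 1 0, ?_, ?_, ?_⟩
        · rw [div_mul_eq_mul_div, eq_div_iff hr]
          linear_combination e1
        · field_simp
        · rw [hd] at e3
          field_simp
          linear_combination -e3
    · refine ⟨A 0 1 / D 0 1, ?_, ?_, ?_⟩
      · field_simp
      · rw [div_mul_eq_mul_div, eq_div_iff hq]
        linear_combination -e1
      · rw [hd] at e2
        field_simp
        linear_combination e2
  obtain ⟨b, hb1, hb2, hb3⟩ := key
  refine ⟨A 0 0 - b * D 0 0, b, m2_ext ?_ ?_ ?_ ?_⟩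
  · simp
  · simp [hb1]
  · simp [hb2]
  · simp [hd]
    linear_combination -hb3

theorem cent_comm' {D A B : M2 F} (hD : D ≠ 0) (ht : D.trace = 0) (hA : A * D = D * A) (hB : B * D = D * B) :
    A * B = B * A := by
  obtain ⟨a, b, rfl⟩ := cent_form' h2 hD ht hA
  obtain ⟨c, d, rfl⟩ := cent_form' h2 hD ht hB
  simp only [add_mul, mul_add, Matrix.smul_mul, Matrix.mul_smul, one_mul, mul_one, smul_smul]
  rw [mul_comm a c, mul_comm a d, mul_comm b c, mul_comm b d]
  abel

/-- a matrix of trace `0` commuting with a nonzero matrix of trace `0` is proportional to it -/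
theorem prop_of_comm {D A : M2 F} (hD : D ≠ 0) (ht : D.trace = 0) (hA : A.trace = 0) (h : A * D = D * A) :
    ∃ b : F, A = b • D := by
  obtain ⟨a, b, rfl⟩ := cent_form' h2 hD ht h
  rw [cent_trace ht] at hA
  rcases mul_eq_zero.1 hA with h3 | h3
  · exact absurd h3 h2
  · exact ⟨b, by rw [h3, zero_smul, zero_add]⟩

/-- the matrix `A - tr A / 2` of trace `0` -/
theorem exists_trace_zero (A : M2 F) : ∃ (a : F) (z : M2 F), z.trace = 0 ∧ A = a • (1 : M2 F) + z := by
  refine ⟨A.trace / 2, A - (A.trace / 2) • (1 : M2 F), ?_, by abel⟩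
  rw [Matrix.trace_sub, Matrix.trace_smul, Matrix.trace_one, Fintype.card_fin]
  simp
  field_simp
  ring

end mat

/-- if `D² = c` and `D z = a z D` with `z ≠ 0` then `a = ± 1` -/
theorem sign_of_sq {D z : M2 F} {a c : F} (hc : c ≠ 0) (hD : D * D = c • (1 : M2 F)) (hz : z ≠ 0)
    (h : D * z = a • (z * D)) : a = 1 ∨ a = -1 := by
  have h1 : D * (D * z) = c • z := by
    rw [← mul_assoc, hD]; simp
  have h2 : D * (D * z) = (a * a * c) • z := by
    rw [h, Matrix.mul_smul, ← mul_assoc, h, Matrix.smul_mul, mul_assoc, hD]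
    simp [smul_smul, mul_assoc]
  have h3 : (c * (a * a - 1)) • z = 0 := by
    have : (a * a * c) • z - c • z = 0 := by rw [← h1, ← h2, sub_self]
    rw [← sub_smul] at this
    rw [← this]
    congr 1
    ring
  rcases smul_eq_zero.1 h3 with h4 | h4
  · rcases mul_eq_zero.1 h4 with h5 | h5
    · exact absurd h5 hc
    · exact mul_self_eq_one_iff.1 (by linear_combination h5)
  · exact absurd h4 hz

/-- a line of matrices of trace `0` normalised by two anticommuting matrices is nondegenerate -/
theorem det_ne_zero_of_anti (h2 : (2 : F) ≠ 0) {D n z : M2 F} (hD : D.det ≠ 0) (hn : n.det ≠ 0)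
    (hnD : n * D = -(D * n)) (hz : z ≠ 0) (hzt : z.trace = 0) {a b : F} (ha : D * z = a • (z * D))
    (hb : n * z = b • (z * n)) : z.det ≠ 0 := by
  have htn : n.trace = 0 := trace_of_anti h2 hD hnD
  have htD : D.trace = 0 := trace_of_anti h2 hn (by rw [hnD, neg_neg])
  have hD2 := m2_sq_of_trace htD
  have hn2 := m2_sq_of_trace htn
  have hD0 : D ≠ 0 := by rintro rfl; simp at hD
  have hn0 : n ≠ 0 := by rintro rfl; simp at hn
  have hdn : (n * D).det ≠ 0 := by rw [Matrix.det_mul]; exact mul_ne_zero hn hD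
  have key : ∀ {X : M2 F}, X.det ≠ 0 → X.trace = 0 → z * X = X * z → z.det ≠ 0 := by
    intro X hX hXt h
    have hX0 : X ≠ 0 := by rintro rfl; simp at hX
    obtain ⟨b, rfl⟩ := prop_of_comm h2 hX0 hXt hzt h
    rw [det_smul2]
    have hb : b ≠ 0 := by rintro rfl; simp at hz
    exact mul_ne_zero (mul_ne_zero hb hb) hX
  rcases sign_of_sq (neg_ne_zero.2 hD) hD2 hz ha with rfl | rfl
  · exact key hD htD (by rw [ha, one_smul])
  · rcases sign_of_sq (neg_ne_zero.2 hn) hn2 hz hb with rfl | rfl
    · exact key hn htn (by rw [hb, one_smul])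
    · refine key (X := n * D) hdn ?_ ?_
      · have := trace_of_anti h2 (N := n * D) (D := D) hD ?_
        · exact this
        · rw [hnD, neg_mul, mul_assoc D n D, hnD]
      · rw [neg_one_smul] at ha hb
        have h5 : n * D * z = z * (n * D) := by
          rw [mul_assoc, ha, mul_neg, ← mul_assoc, hb, neg_mul, neg_neg, mul_assoc]
        exact h5.symm

/-- **One coordinate, cyclic case**: `D = h²` centralises the line of `z` -/
theorem comm_of_sq (h2 : (2 : F) ≠ 0) {D n z h : M2 F} (hD : D.det ≠ 0) (hn : n.det ≠ 0)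
    (hnD : n * D = -(D * n)) (hz : z ≠ 0) (hzt : z.trace = 0) {b c k : F} (hb : n * z = b • (z * n))
    (hh : h * h = k • D) (hk : k ≠ 0) (hc : h * z = c • (z * h)) : D * z = z * D := by
  have h1 : k • (D * z) = (k * (c * c)) • (z * D) := by
    rw [← Matrix.smul_mul, ← hh, mul_assoc, hc, Matrix.mul_smul, ← mul_assoc, hc, Matrix.smul_mul, mul_assoc,
      hh, Matrix.mul_smul, smul_smul, smul_smul]
    congr 1
    ring
  have ha : D * z = (c * c) • (z * D) := by
    have := congrArg (fun X => k⁻¹ • X) h1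
    simpa [smul_smul, inv_mul_cancel₀ hk, ← mul_assoc] using this
  have hdz := det_ne_zero_of_anti h2 hD hn hnD hz hzt ha hb
  have hdh : h.det ≠ 0 := by
    intro h0
    have := congrArg Matrix.det hh
    rw [Matrix.det_mul, h0, det_smul2] at this
    have h3 : k * k * D.det ≠ 0 := mul_ne_zero (mul_ne_zero hk hk) hD
    apply h3
    rw [← this]; ring
  have h3 : c * c = 1 := by
    have := congrArg Matrix.det hc
    rw [Matrix.det_mul, det_smul2, Matrix.det_mul] at this
    have h4 : h.det * z.det * (c * c - 1) = 0 := by linear_combination -this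
    rcases mul_eq_zero.1 h4 with h5 | h5
    · exact absurd h5 (mul_ne_zero hdh hdz)
    · linear_combination h5
  rw [ha, h3, one_smul]

/-- **One coordinate, four-group case**: one of `D`, `n`, `nD` centralises the line of `z` -/
theorem comm_of_four (h2 : (2 : F) ≠ 0) {D n z : M2 F} (hD : D.det ≠ 0) (hn : n.det ≠ 0)
    (hnD : n * D = -(D * n)) (hz : z ≠ 0) {a b : F} (ha : D * z = a • (z * D))
    (hb : n * z = b • (z * n)) : D * z = z * D ∨ n * z = z * n ∨ (n * D) * z = z * (n * D) := by
  have htn : n.trace = 0 := trace_of_anti h2 hD hnD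
  have htD : D.trace = 0 := trace_of_anti h2 hn (by rw [hnD, neg_neg])
  have hD2 := m2_sq_of_trace htD
  have hn2 := m2_sq_of_trace htn
  rcases sign_of_sq (neg_ne_zero.2 hD) hD2 hz ha with rfl | rfl
  · exact Or.inl (by rw [ha, one_smul])
  · rcases sign_of_sq (neg_ne_zero.2 hn) hn2 hz hb with rfl | rfl
    · exact Or.inr (Or.inl (by rw [hb, one_smul]))
    · refine Or.inr (Or.inr ?_)
      rw [neg_one_smul] at ha hb
      rw [mul_assoc, ha, mul_neg, ← mul_assoc, hb, neg_mul, neg_neg, mul_assoc]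

section axis

variable {G : Type*} [Group G] {e : SL2 F →* G}

/-- `c` centralises the image of `e` -/
def Triv (e : SL2 F →* G) (c : G) : Prop := ∀ x, c * e x = e x * c

theorem Acts.triv_iff (he : Function.Injective e) {c : G} {A : M2 F} (h : Acts e c A) :
    Triv e c ↔ ∃ a : F, A = a • (1 : M2 F) := by
  constructor
  · intro ht
    obtain ⟨a, ha, rfl⟩ := (Acts.of_comm ht).proportional he h
    exact ⟨a, rfl⟩
  · rintro ⟨a, rfl⟩
    exact h.comm_of_one

theorem Acts.det_ne' {c : G} {A : M2 F} (h : Acts e c A) : A.det ≠ 0 := h.1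

/-- an element which acts as a matrix normalises the elements which act trivially -/
theorem Triv.conj {c k : G} {A : M2 F} (h : Acts e c A) (hk : Triv e k) : Triv e (c * k * c⁻¹) := by
  intro y
  obtain ⟨x, hx⟩ := exists_cj' h.1 y
  have h1 := h.2 x y hx
  have h3 : c⁻¹ * e y = e x * c⁻¹ := by
    calc c⁻¹ * e y = c⁻¹ * (e y * c) * c⁻¹ := by group
      _ = e x * c⁻¹ := by rw [← h1]; group
  calc c * k * c⁻¹ * e y = c * k * (c⁻¹ * e y) := by group
    _ = c * (k * e x) * c⁻¹ := by rw [h3]; group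
    _ = (c * e x) * k * c⁻¹ := by rw [hk x]; group
    _ = e y * (c * k * c⁻¹) := by rw [h1]; group

theorem Triv.mul {c d : G} (h : Triv e c) (k : Triv e d) : Triv e (c * d) := by
  intro x
  rw [mul_assoc, k x, ← mul_assoc, h x, mul_assoc]

theorem Triv.inv {c : G} (h : Triv e c) : Triv e c⁻¹ := by
  intro x
  calc c⁻¹ * e x = c⁻¹ * (e x * c) * c⁻¹ := by group
    _ = e x * c⁻¹ := by rw [← h x]; group

theorem Triv.one : Triv e (1 : G) := fun x => by rw [one_mul, mul_one]

/-- **The axis** of an `r`-group of conjugations of `SL(2,F)`, `r` odd. -/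
theorem exists_axis (h2 : (2 : F) ≠ 0) (he : Function.Injective e) {r : ℕ} (hr : r.Prime) (hr2 : r ≠ 2)
    (R : Subgroup G) [Finite R] (hR : IsPGroup r R) (hA : ∀ c ∈ R, ∃ A, Acts e c A)
    (hnt : ∃ c ∈ R, ¬ Triv e c) :
    ∃ z : M2 F, z ≠ 0 ∧ z.trace = 0 ∧ (∀ c ∈ R, ∀ A, Acts e c A → ∃ a b : F, A = a • (1 : M2 F) + b • z) ∧
      ∀ (h : G) (H : M2 F), (∀ c ∈ R, h * c * h⁻¹ ∈ R) → Acts e h H → ∃ c : F, H * z = c • (z * H) := by
  have : Fact r.Prime := ⟨hr⟩
  let K : Subgroup R :=
    { carrier := {c | Triv e (c : G)}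
      mul_mem' := fun {a b} ha hb => by
        have := Triv.mul (e := e) (show Triv e (a : G) from ha) (show Triv e (b : G) from hb)
        exact this
      one_mem' := Triv.one
      inv_mem' := fun {a} ha => Triv.inv (show Triv e (a : G) from ha) }
  have hK : K.Normal := ⟨fun k hk c => by
    obtain ⟨A, hA'⟩ := hA c c.2
    exact Triv.conj hA' (show Triv e (k : G) from hk)⟩
  have hQ : IsPGroup r (R ⧸ K) := hR.to_quotient K
  have hKtop : K ≠ ⊤ := by
    obtain ⟨c, hc, hc'⟩ := hnt
    intro h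
    apply hc'
    have : (⟨c, hc⟩ : R) ∈ K := by rw [h]; trivial
    exact this
  have hQn : Nontrivial (R ⧸ K) := by
    rw [QuotientGroup.nontrivial_iff]
    exact hKtop
  have hcn := hQ.center_nontrivial
  obtain ⟨⟨q, hq⟩, hq1⟩ := exists_ne (1 : Subgroup.center (R ⧸ K))
  obtain ⟨c0, rfl⟩ := QuotientGroup.mk_surjective q
  have hc0 : ¬ Triv e (c0 : G) := by
    intro h
    apply hq1
    apply Subtype.ext
    exact (QuotientGroup.eq_one_iff c0).2 h
  have hcomm : ∀ c : R, Triv e (((c * c0) * (c0 * c)⁻¹ : R) : G) := by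
    intro c
    have h1 := Subgroup.mem_center_iff.1 hq (c : R ⧸ K)
    have h3 : ((c * c0 : R) : R ⧸ K) = ((c0 * c : R) : R ⧸ K) := h1
    have h4 : (((c * c0) * (c0 * c)⁻¹ : R) : R ⧸ K) = 1 := by
      rw [QuotientGroup.mk_mul, h3, ← QuotientGroup.mk_mul, mul_inv_cancel, QuotientGroup.mk_one]
    exact (QuotientGroup.eq_one_iff _).1 h4
  obtain ⟨A0, hA0⟩ := hA c0 c0.2
  obtain ⟨a0, z, hz, rfl⟩ := exists_trace_zero h2 A0
  have hz0 : z ≠ 0 := by
    rintro rfl
    apply hc0
    rw [hA0.triv_iff he]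
    exact ⟨a0, by rw [add_zero]⟩
  -- `c0` is not of order `2` modulo `K`
  have hsq : ¬ Triv e ((c0 : G) * c0) := by
    intro h
    apply hc0
    obtain ⟨k, hk⟩ := hR c0
    have hodd : Odd (r ^ k) := (hr.odd_of_ne_two hr2).pow
    obtain ⟨m, hm⟩ := hodd
    have h3 : ((c0 : G) * c0) ^ m * c0 = 1 := by
      rw [← pow_two, ← pow_mul, ← pow_succ, ← hm]
      exact_mod_cast congrArg Subtype.val hk
    have h4 : ∀ m : ℕ, Triv e (((c0 : G) * c0) ^ m) := by
      intro m
      induction m with
      | zero => rw [pow_zero]; exact Triv.one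
      | succ m ih => rw [pow_succ]; exact ih.mul h
    have h5 : (c0 : G) = (((c0 : G) * c0) ^ m)⁻¹ := by
      rw [eq_inv_iff_mul_eq_one, ← h3]
      have : Commute (c0 : G) (((c0 : G) * c0) ^ m) :=
        ((Commute.refl (c0 : G)).mul_right (Commute.refl _)).pow_right m
      exact this
    rw [h5]
    exact (h4 m).inv
  have hcz : ∀ c ∈ R, ∀ A, Acts e c A → A * z = z * A := by
    intro c hc A hcA
    have h1 : Acts e (c * c0) (A * (a0 • (1 : M2 F) + z)) := hcA.mul hA0
    have h3 : Acts e ((c0 : G) * c) ((a0 • (1 : M2 F) + z) * A) := hA0.mul hcA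
    have h4 := hcomm ⟨c, hc⟩
    have h5 : Acts e (c * c0) ((1 : M2 F) * ((a0 • (1 : M2 F) + z) * A)) := by
      have h6 := (Acts.of_comm h4).mul h3
      have h7 : ((((⟨c, hc⟩ : R) * c0) * (c0 * (⟨c, hc⟩ : R))⁻¹ : R) : G) * ((c0 : G) * c) = c * c0 := by
        rw [Subgroup.coe_mul, Subgroup.coe_inv, Subgroup.coe_mul, Subgroup.coe_mul]
        group
      rw [h7] at h6
      exact h6
    rw [one_mul] at h5
    obtain ⟨u, hu, hu'⟩ := h5.proportional he h1
    have hdet : u * u = 1 := by
      have := congrArg Matrix.det hu'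
      rw [Matrix.det_mul, det_smul2, Matrix.det_mul] at this
      have h8 : A.det * (a0 • (1 : M2 F) + z).det * (u * u - 1) = 0 := by linear_combination -this
      rcases mul_eq_zero.1 h8 with h9 | h9
      · exact absurd h9 (mul_ne_zero hcA.1 hA0.1)
      · linear_combination h9
    rcases mul_self_eq_one_iff.1 hdet with rfl | rfl
    · rw [one_smul] at hu'
      rw [mul_add, add_mul, Matrix.mul_smul, Matrix.smul_mul, mul_one, one_mul] at hu'
      exact add_left_cancel hu'
    · exfalso
      apply hsq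
      rw [neg_one_smul] at hu'
      have htr := trace_of_anti h2 (N := a0 • (1 : M2 F) + z) (D := A) hcA.1 (by rw [hu', neg_neg])
      have h9 := hA0.mul hA0
      rw [m2_sq_of_trace htr] at h9
      rw [h9.triv_iff he]
      exact ⟨_, rfl⟩
  refine ⟨z, hz0, hz, fun c hc A hcA => cent_form' h2 hz0 hz (hcz c hc A hcA), ?_⟩
  intro h H hn hH
  have h1 : Acts e (h * c0 * h⁻¹) (H * (a0 • (1 : M2 F) + z) * H.adjugate) := (hH.mul hA0).mul hH.inv
  have h3 := hcz _ (hn c0 c0.2) _ h1
  have h4 : H * (a0 • (1 : M2 F) + z) * H.adjugate = (a0 * H.det) • (1 : M2 F) + H * z * H.adjugate := by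
    rw [mul_add, add_mul, Matrix.mul_smul, Matrix.smul_mul, mul_one, Matrix.mul_adjugate, smul_smul]
  have h5 : (H * z * H.adjugate) * z = z * (H * z * H.adjugate) := by
    rw [h4, add_mul, mul_add, Matrix.smul_mul, Matrix.mul_smul, one_mul, mul_one] at h3
    exact add_left_cancel h3
  have h6 : (H * z * H.adjugate).trace = 0 := by
    rw [Matrix.trace_mul_comm, ← mul_assoc, Matrix.adjugate_mul]
    simp [Matrix.trace_smul, hz]
  obtain ⟨b, hb⟩ := prop_of_comm h2 hz0 hz h6 h5
  refine ⟨b * (H.det)⁻¹, ?_⟩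
  have h7 : H.det • (H * z) = b • (z * H) := by
    calc H.det • (H * z) = H * z * (H.adjugate * H) := by
          rw [Matrix.adjugate_mul]; simp
      _ = (H * z * H.adjugate) * H := by simp only [mul_assoc]
      _ = b • (z * H) := by rw [hb, Matrix.smul_mul]
  have h8 := congrArg (fun X => (H.det)⁻¹ • X) h7
  simpa [smul_smul, inv_mul_cancel₀ hH.1, mul_comm b] using h8

/-- two elements whose matrices commute with a line commute up to `Triv` -/
theorem comm_of_axis {A D z : M2 F} {a b : F} (hz : A = a • (1 : M2 F) + b • z) (hc : D * z = z * D) : A * D = D * A := by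
  rw [hz, add_mul, mul_add, Matrix.smul_mul, Matrix.smul_mul, Matrix.mul_smul, Matrix.mul_smul, hc, one_mul,
    mul_one]

end axis

end Cfsg.Agent.GTwoOdd
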