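import Cfsg.Agent.GTwoOdd.Core.Balance
import Cfsg.Agent.GTwoOdd.Core.Defs
import Cfsg.Agent.Dichotomy.Functor

/-!
# Outer balance in `G`

`x` an involution of the finite group `G` such that `C(x)/O(C(x))` carries `LocalSL`, `a` an outer involution and `a₀`
an inner involution of `C(x)`, commuting, `W` a subgroup of odd order normalised by `a`, `a₀` and containing
`O(C(a))` and `O(C(a a₀))`.  Then `O(C(a)) ⊓ C(x) ≤ O(C(x))`.
-/

set_option autoImplicit false
set_option linter.unusedSectionVars false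

namespace Cfsg.Agent.GTwoOdd.Core.OuterGlue

open Matrix Subgroup
open Cfsg.Agent.GTwoOdd Cfsg.Agent.GTwoOdd.LocalSL

variable {G : Type*} [Group G]

/-- two involutions congruent modulo a subgroup of odd order are conjugate by an element of this subgroup -/
theorem exists_conj_of_mul_mem {K : Subgroup G} [Finite K] (hK : Odd (Nat.card K)) {a b : G} (ha : a * a = 1)
    (hb : b * b = 1) (h : a * b ∈ K) : ∃ k ∈ K, k * a * k⁻¹ = b := by
  have hodd : Odd (orderOf (⟨a * b, h⟩ : K)) := Odd.of_dvd_nat hK (orderOf_dvd_natCard _)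
  obtain ⟨m, hm⟩ := hodd
  have hpow : (a * b) ^ (2 * m + 1) = 1 := by
    have h1 := pow_orderOf_eq_one (⟨a * b, h⟩ : K)
    rw [hm] at h1
    simpa using congrArg Subtype.val h1
  have i1 : a⁻¹ = a := inv_eq_of_mul_eq_one_left ha
  have i2 : b⁻¹ = b := inv_eq_of_mul_eq_one_left hb
  have h1 : a * (a * b) * a⁻¹ = (a * b)⁻¹ := by
    rw [_root_.mul_inv_rev, i1, i2, ← mul_assoc, ha, one_mul]
  have h2 : a * (a * b) ^ m * a⁻¹ = ((a * b) ^ m)⁻¹ := by
    rw [← conj_pow, h1, inv_pow]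
  refine ⟨(a * b) ^ m, pow_mem h m, ?_⟩
  have h3 : a * ((a * b) ^ m)⁻¹ = (a * b) ^ m * a := by
    have h4 : a * (a * b) ^ m = ((a * b) ^ m)⁻¹ * a := by
      calc a * (a * b) ^ m = (a * (a * b) ^ m * a⁻¹) * a := by group
        _ = ((a * b) ^ m)⁻¹ * a := by rw [h2]
    calc a * ((a * b) ^ m)⁻¹ = (a * b) ^ m * (((a * b) ^ m)⁻¹ * a) * ((a * b) ^ m)⁻¹ := by group
      _ = (a * b) ^ m * (a * (a * b) ^ m) * ((a * b) ^ m)⁻¹ := by rw [h4]
      _ = (a * b) ^ m * a := by group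
  rw [mul_assoc, h3, ← mul_assoc, ← pow_add]
  have h5 : (a * b) ^ (m + m) = (a * b)⁻¹ := by
    rw [eq_inv_iff_mul_eq_one, ← pow_succ, ← two_mul]
    exact hpow
  rw [h5, _root_.mul_inv_rev, i1, i2, mul_assoc, ha, mul_one]

section

variable [Finite G] {x : G}

theorem odd_core (x : G) : Odd (Nat.card (Cfsg.centralizerPPrimeCore 2 x)) := by
  rw [← Nat.not_even_iff_odd, even_iff_two_dvd]
  exact Cfsg.Agent.Dichotomy.Functor.th_odd x

/-- kernel of `bar` -/
theorem bar_eq_one {c : centralizer ({x} : Set G)} : bar x c = 1 ↔ (c : G) ∈ Cfsg.centralizerPPrimeCore 2 x := by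
  rw [bar, QuotientGroup.mk'_apply, QuotientGroup.eq_one_iff]
  constructor
  · intro h
    exact ⟨c, h, rfl⟩
  · rintro ⟨d, hd, hdc⟩
    have : d = c := Subtype.ext hdc
    rw [← this]
    exact hd

theorem bar_eq {c d : centralizer ({x} : Set G)} : bar x c = bar x d ↔ (c * d⁻¹ : G) ∈ Cfsg.centralizerPPrimeCore 2 x := by
  rw [← mul_inv_eq_one, ← map_inv, ← map_mul, bar_eq_one]
  rfl

theorem bar_surjective (x : G) : Function.Surjective (bar x) := QuotientGroup.mk'_surjective _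

/-- an element of `X` commuting with the image of an involution is the image of an element commuting with it;
more generally -/
theorem exists_lift {a b : centralizer ({x} : Set G)} (ha : a * a = 1) (hb : b * b = 1) {g : _ } (hg : g * bar x a * g⁻¹ = bar x b) :
    ∃ c : centralizer ({x} : Set G), bar x c = g ∧ c * a * c⁻¹ = b := by
  obtain ⟨c, rfl⟩ := bar_surjective x g
  -- `c a c⁻¹` and `b` are congruent
  have h1 : bar x (c * a * c⁻¹) = bar x b := by
    rw [map_mul, map_mul, map_inv, hg]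
  have hb' : b⁻¹ = b := inv_eq_of_mul_eq_one_left hb
  have h2 : ((c * a * c⁻¹ : centralizer ({x} : Set G)) : G) * (b : G) ∈ Cfsg.centralizerPPrimeCore 2 x := by
    have h3 := bar_eq.1 h1
    rwa [hb'] at h3
  have hcac : ((c * a * c⁻¹ : centralizer ({x} : Set G)) : G) * ((c * a * c⁻¹ : centralizer ({x} : Set G)) : G) = 1 := by
    have h5 : (c * a * c⁻¹) * (c * a * c⁻¹) = 1 := by
      calc (c * a * c⁻¹) * (c * a * c⁻¹) = c * (a * a) * c⁻¹ := by group
        _ = 1 := by rw [ha]; group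
    exact congrArg Subtype.val h5
  obtain ⟨k, hk, hk'⟩ := exists_conj_of_mul_mem (odd_core x) hcac (congrArg Subtype.val hb) h2
  have hkx : k ∈ centralizer ({x} : Set G) := Cfsg.Agent.Dichotomy.Functor.th_le x hk
  refine ⟨⟨k, hkx⟩ * c, ?_, ?_⟩
  · rw [map_mul, bar_eq_one.2 hk, one_mul]
  · apply Subtype.ext
    rw [← hk']
    simp only [Subgroup.coe_mul, Subgroup.coe_inv]
    group

/-- image in `C(x)/O(C(x))` of a subgroup of `G` intersected with `C(x)` -/
def im (x : G) (W : Subgroup G) :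
    Subgroup (centralizer ({x} : Set G) ⧸ Cfsg.pPrimeCore 2 (centralizer ({x} : Set G))) :=
  (W.subgroupOf (centralizer ({x} : Set G))).map (bar x)

theorem mem_im {W : Subgroup G} {y : _} : y ∈ im x W ↔ ∃ c : centralizer ({x} : Set G), (c : G) ∈ W ∧ bar x c = y := Iff.rfl

theorem odd_im {W : Subgroup G} (hW : Odd (Nat.card W)) : Odd (Nat.card (im x W)) := by
  have h1 : Nat.card (im x W) ∣ Nat.card (W.subgroupOf (centralizer ({x} : Set G))) := card_map_dvd _ _
  have h2 : Nat.card (W.subgroupOf (centralizer ({x} : Set G))) ∣ Nat.card W := by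
    rw [← card_map_of_injective (subtype_injective _), subgroupOf_map_subtype]
    exact card_dvd_of_le inf_le_left
  exact Odd.of_dvd_nat hW (h1.trans h2)

/-- **outer balance** (one pair) -/
theorem outer_balance {F1 F2 : Type*} [Field F1] [Field F2] [Finite F1] [Finite F2]
    {L : LocalSL (bar x ⟨x, mem_centralizer_singleton_iff.2 rfl⟩) F1 F2} (H : L.Hyp) {a a₀ : G} (haa : a * a = 1)
    (ha₀a₀ : a₀ * a₀ = 1) (hax : a * x = x * a) (ha₀x : a₀ * x = x * a₀) (comm : a * a₀ = a₀ * a)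
    {A A₀ : M2 F1} {B B₀ : M2 F2} (ha : L.Rep (bar x ⟨a, mem_centralizer_singleton_iff.2 hax⟩) A B)
    (ha₀ : L.Rep (bar x ⟨a₀, mem_centralizer_singleton_iff.2 ha₀x⟩) A₀ B₀) (hA : A.trace = 0) (hB : B.trace = 0)
    (hA₀ : A₀.trace = 0) (hB₀ : B₀.trace = 0) (ho : ¬ IsSquare A.det) (hi : IsSquare A₀.det) {W : Subgroup G}
    (hW : Odd (Nat.card W)) (na : ∀ w ∈ W, a * w * a⁻¹ ∈ W) (na₀ : ∀ w ∈ W, a₀ * w * a₀⁻¹ ∈ W)
    (h1 : Cfsg.centralizerPPrimeCore 2 a ≤ W) (h2 : Cfsg.centralizerPPrimeCore 2 (a * a₀) ≤ W) :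
    Cfsg.centralizerPPrimeCore 2 a ⊓ centralizer ({x} : Set G) ≤ Cfsg.centralizerPPrimeCore 2 x := by
  set a' : centralizer ({x} : Set G) := ⟨a, mem_centralizer_singleton_iff.2 hax⟩ with ha'
  set b' : centralizer ({x} : Set G) := ⟨a₀, mem_centralizer_singleton_iff.2 ha₀x⟩ with hb'
  have htc : ∀ c, c * bar x ⟨x, mem_centralizer_singleton_iff.2 rfl⟩ = bar x ⟨x, mem_centralizer_singleton_iff.2 rfl⟩ * c := by
    intro c
    obtain ⟨d, rfl⟩ := bar_surjective x c
    rw [← map_mul, ← map_mul]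
    congr 1
    apply Subtype.ext
    exact mem_centralizer_singleton_iff.1 d.2
  have e1 : a' * a' = 1 := Subtype.ext haa
  have e2 : b' * b' = 1 := Subtype.ext ha₀a₀
  have e3 : a' * b' = b' * a' := Subtype.ext comm
  have e4 : (a' * b') * (a' * b') = 1 := by
    calc (a' * b') * (a' * b') = (a' * a') * (b' * b') := by
          rw [mul_assoc, ← mul_assoc b', ← e3]; group
      _ = 1 := by rw [e1, e2, one_mul]
  have f1 : bar x a' * bar x a' = 1 := by rw [← map_mul, e1, map_one]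
  have f2 : bar x b' * bar x b' = 1 := by rw [← map_mul, e2, map_one]
  have f3 : bar x a' * bar x b' = bar x b' * bar x a' := by rw [← map_mul, e3, map_mul]
  obtain ⟨g, _, hg⟩ := H.exists_conj_outer ha ha₀ hA hB hA₀ hB₀ ho hi f3
  rw [← map_mul] at hg
  obtain ⟨c, rfl, hc⟩ := exists_lift e1 e4 hg
  have hcG : (c : G) * a * (c : G)⁻¹ = a * a₀ := congrArg Subtype.val hc
  -- conjugation of the cores
  have hcore : ∀ (d : G), ∀ u ∈ Cfsg.centralizerPPrimeCore 2 a, d * u * d⁻¹ ∈ Cfsg.centralizerPPrimeCore 2 (d * a * d⁻¹) := by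
    intro d u hu
    rw [Cfsg.Agent.Dichotomy.Functor.th_conj]
    exact ⟨u, hu, rfl⟩
  have hbot := H.outer_balance (W := im x W) (I := im x (Cfsg.centralizerPPrimeCore 2 a)) (g := bar x c) htc ha ha₀ f1 f2 hA hB
    hA₀ hB₀ ho hi f3 (odd_im hW)
    (by
      rintro _ ⟨w, hw, rfl⟩
      exact ⟨a' * w * a'⁻¹, na w hw, by rw [map_mul, map_mul, map_inv]⟩)
    (by
      rintro _ ⟨w, hw, rfl⟩
      exact ⟨b' * w * b'⁻¹, na₀ w hw, by rw [map_mul, map_mul, map_inv]⟩)
    (by
      rintro _ ⟨w, hw, rfl⟩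
      exact ⟨w, h1 hw, rfl⟩)
    (by
      rintro _ ⟨w, hw, rfl⟩
      refine ⟨c * w * c⁻¹, h2 ?_, by rw [map_mul, map_mul, map_inv]⟩
      have h3 := hcore c w hw
      rwa [hcG] at h3)
    (by
      rintro _ ⟨w, hw, rfl⟩
      rw [← map_mul, ← map_mul]
      congr 1
      apply Subtype.ext
      exact (mem_centralizer_singleton_iff.1 (Cfsg.Agent.Dichotomy.Functor.th_le a hw)).symm)
    (by
      rintro d hd _ ⟨w, hw, rfl⟩
      obtain ⟨d', rfl, hd'⟩ := exists_lift e1 e1 (g := d) (by rw [hd]; group)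
      refine ⟨d' * w * d'⁻¹, ?_, by rw [map_mul, map_mul, map_inv]⟩
      have h3 := hcore d' w hw
      have h4 : (d' : G) * a * (d' : G)⁻¹ = a := congrArg Subtype.val hd'
      rwa [h4] at h3)
    (by rw [hg, map_mul])
  intro u hu
  obtain ⟨hu1, hu2⟩ := mem_inf.1 hu
  have h3 : bar x ⟨u, hu2⟩ ∈ im x (Cfsg.centralizerPPrimeCore 2 a) := ⟨⟨u, hu2⟩, hu1, rfl⟩
  rw [hbot, mem_bot] at h3
  exact bar_eq_one.1 h3

end

end Cfsg.Agent.GTwoOdd.Core.OuterGlue
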