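import Cfsg.Agent.GTwoOdd.Core.Trans
import Cfsg.Agent.GTwoOdd.Core.Concl

/-!
# The hypotheses `H3` and `H4` of the pushing-up step in `N(D)`

`V ≤ S₀ ≤ C(V)`, `W ≤ C(V)` contains the `r`-subgroups of `C(V)`, `T` is a Sylow `r`-subgroup of `W` and `D` an
`S₀`-invariant `r`-subgroup containing `T`.  If the `S₀`-invariant `r`-subgroups of `C(v)` lie in `O_v W` then

* `core_cent`: the `r`-elements of `N(D) ∩ C(V)` lie in `D`, so in the odd core of `N(D)`;
* `core_sing`: for an `S₀`-invariant `r`-subgroup `Y` of `N(D)`, `Y ∩ C(v)` lies in the odd core of `N(D) ∩ C(v)`.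
-/

set_option autoImplicit false
set_option linter.style.haveILetI false
set_option linter.unusedSectionVars false

namespace Cfsg.Agent.GTwoOdd.Core.PushH

open Subgroup Cfsg
open Cfsg.Agent.GTwoOdd.Core.Trans

variable {G : Type*} [Group G] [Finite G] {V S₀ W T D Y : Subgroup G} {r : ℕ} [Fact r.Prime]

/-- the join of an invariant `r`-subgroup of `N(D)` with `D` -/
theorem qq_sup (hD : QQ S₀ T r D) (hY : IsPGroup r Y) (hYD : Y ≤ normalizer (D : Set G))
    (hYn : S₀ ≤ normalizer (Y : Set G)) : QQ S₀ T r (Y ⊔ D) where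
  pgroup := hY.to_sup_of_normal_right' hD.pgroup hYD
  le := hD.le.trans le_sup_right
  norm := by
    refine Trans.le_normalizer_of fun b hb u hu => ?_
    have h1 : (Y ⊔ D : Subgroup G) ≤ (Y ⊔ D : Subgroup G).comap (MulAut.conj b).toMonoidHom :=
      sup_le (fun u hu => mem_sup_left (conj_mem_of hYn b hb u hu))
        (fun u hu => mem_sup_right (conj_mem_of hD.norm b hb u hu))
    exact h1 hu

theorem inf_cent (hWV : W ≤ centralizer (V : Set G))
    (le_W : ∀ E : Subgroup G, IsPGroup r E → E ≤ centralizer (V : Set G) → E ≤ W) (hT : SylIn r T W)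
    (hD : QQ S₀ T r D) : D ⊓ centralizer (V : Set G) = T :=
  (sylIn_iff.1 hT).2.2 _ (le_W _ (hD.pgroup.to_le inf_le_left) inf_le_right) (hD.pgroup.to_le inf_le_left)
    (le_inf hD.le (hT.le.trans hWV))

theorem core_le_cent (v : G) : centralizerPPrimeCore 2 v ≤ centralizer ({v} : Set G) := map_subtype_le _

theorem core_conj {v c u : G} (hc : c ∈ centralizer ({v} : Set G)) (hu : u ∈ centralizerPPrimeCore 2 v) :
    c * u * c⁻¹ ∈ centralizerPPrimeCore 2 v := by
  obtain ⟨u, hu, rfl⟩ := hu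
  haveI := Lib.Cores.pPrimeCore_normal (G := centralizer ({v} : Set G)) 2
  exact ⟨⟨c, hc⟩ * u * ⟨c, hc⟩⁻¹, Normal.conj_mem inferInstance u hu _, rfl⟩

theorem core_odd (v : G) : Odd (Nat.card (centralizerPPrimeCore 2 v)) := by
  unfold centralizerPPrimeCore
  rw [card_map_of_injective (subtype_injective _)]
  exact Nat.coprime_two_right.1 (Lib.Cores.pPrimeCore_coprime 2)

theorem inf_sing_le (hSV : S₀ ≤ centralizer (V : Set G)) (hWV : W ≤ centralizer (V : Set G)) (hT : SylIn r T W)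
    {v : G} (hv : v ∈ V) (hone : ∀ E : Subgroup G, IsPGroup r E → E ≤ centralizer ({v} : Set G) →
      S₀ ≤ normalizer (E : Set G) → E ≤ centralizerPPrimeCore 2 v ⊔ W) (hD : QQ S₀ T r D) :
    D ⊓ centralizer ({v} : Set G) ≤ centralizerPPrimeCore 2 v ⊔ T := by
  have hCC : centralizer (V : Set G) ≤ centralizer ({v} : Set G) := centralizer_le (Set.singleton_subset_iff.2 hv)
  have hS₀v : S₀ ≤ centralizer ({v} : Set G) := hSV.trans hCC
  have h1 : D ⊓ centralizer ({v} : Set G) ≤ centralizerPPrimeCore 2 v ⊔ W := by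
    refine hone _ (hD.pgroup.to_le inf_le_left) inf_le_right (Trans.le_normalizer_of fun b hb u hu => ?_)
    exact mem_inf.2 ⟨conj_mem_of hD.norm b hb u (mem_inf.1 hu).1,
      mul_mem (mul_mem (hS₀v hb) (mem_inf.1 hu).2) (inv_mem (hS₀v hb))⟩
  set Z : Subgroup G := D ⊓ centralizer ({v} : Set G) with hZ
  have hTZ : T ≤ Z := le_inf hD.le (hT.le.trans (hWV.trans hCC))
  have hZn : Z ≤ normalizer (centralizerPPrimeCore 2 v : Set G) :=
    Trans.le_normalizer_of fun b hb u hu => core_conj (mem_inf.1 hb).2 hu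
  have hWn : W ≤ normalizer (centralizerPPrimeCore 2 v : Set G) :=
    Trans.le_normalizer_of fun b hb u hu => core_conj (hCC (hWV hb)) hu
  have hZr : IsPGroup r Z := hD.pgroup.to_le inf_le_left
  have hX : SylIn r T ((centralizerPPrimeCore 2 v ⊔ Z) ⊓ W) :=
    hT.of_le (le_inf (hTZ.trans le_sup_right) hT.le) inf_le_right
  have h2 : (centralizerPPrimeCore 2 v ⊔ Z) ⊓ W ≤ centralizerPPrimeCore 2 v ⊔ T :=
    le_sup_of_sylow hX (inf_le_right.trans hWn) fun x hx => pow_mem_of_mem_sup hZn hZr (mem_inf.1 hx).1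
  intro y hy
  obtain ⟨o, ho, w, hw, e⟩ := exists_mul_of_mem_sup hWn (h1 hy)
  have hw' : w = o⁻¹ * y := by rw [e, inv_mul_cancel_left]
  have h3 : w ∈ centralizerPPrimeCore 2 v ⊔ T := h2 (mem_inf.2 ⟨by
    rw [hw']
    exact mul_mem (mem_sup_left (inv_mem ho)) (mem_sup_right hy), hw⟩)
  rw [e]
  exact mul_mem (mem_sup_left ho) h3

/-- the `r`-elements of `N(D) ∩ C(V)` lie in `D` -/
theorem mem_of_cent (hWV : W ≤ centralizer (V : Set G))
    (le_W : ∀ E : Subgroup G, IsPGroup r E → E ≤ centralizer (V : Set G) → E ≤ W) (hT : SylIn r T W)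
    (hD : QQ S₀ T r D) {x : G} (hxD : x ∈ normalizer (D : Set G)) (hxV : x ∈ centralizer (V : Set G))
    (hx : ∃ k, x ^ r ^ k = 1) : x ∈ T := by
  obtain ⟨k, hk⟩ := hx
  have h0 := inf_cent hWV le_W hT hD
  have hxT : zpowers x ≤ normalizer (T : Set G) := by
    refine Trans.le_normalizer_of fun b hb u hu => ?_
    rw [← h0] at hu ⊢
    have hbN : b ∈ normalizer (D : Set G) := (zpowers_le.2 hxD) hb
    have hbC : b ∈ centralizer (V : Set G) := (zpowers_le.2 hxV) hb
    exact mem_inf.2 ⟨(mem_normalizer_iff.1 hbN u).1 (mem_inf.1 hu).1,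
      mul_mem (mul_mem hbC (mem_inf.1 hu).2) (inv_mem hbC)⟩
  have hxp : IsPGroup r (zpowers x) := by
    rintro ⟨y, hy⟩
    obtain ⟨j, rfl⟩ := mem_zpowers_iff.1 hy
    refine ⟨k, Subtype.ext ?_⟩
    rw [SubmonoidClass.coe_pow, ← zpow_natCast, ← zpow_mul, mul_comm, zpow_mul, zpow_natCast, hk, one_zpow]
    rfl
  have h1 : IsPGroup r (zpowers x ⊔ T : Subgroup G) := hxp.to_sup_of_normal_right' hT.isPGroup hxT
  have h2 : (zpowers x ⊔ T : Subgroup G) ≤ W :=
    le_W _ h1 (sup_le (zpowers_le.2 hxV) (hT.le.trans hWV))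
  have h3 : (zpowers x ⊔ T : Subgroup G) = T := (sylIn_iff.1 hT).2.2 _ h2 h1 le_sup_right
  rw [← h3]
  exact mem_sup_left (mem_zpowers x)

/-- **(H3)** -/
theorem core_cent (hr2 : r ≠ 2) (hVS : V ≤ S₀)
    (hWV : W ≤ centralizer (V : Set G))
    (le_W : ∀ E : Subgroup G, IsPGroup r E → E ≤ centralizer (V : Set G) → E ≤ W) (hT : SylIn r T W)
    (hD : QQ S₀ T r D) :
    ∀ x ∈ centralizer ((V.subgroupOf (normalizer (D : Set G)) : Subgroup (normalizer (D : Set G))) :
        Set (normalizer (D : Set G))),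
      (∃ k, x ^ r ^ k = 1) → x ∈ pPrimeCore 2 (normalizer (D : Set G)) := by
  intro x hx hk
  have hVN : V ≤ normalizer (D : Set G) := hVS.trans hD.norm
  have hxV : (x : G) ∈ centralizer (V : Set G) := by
    rw [mem_centralizer_iff] at hx ⊢
    intro v hv
    exact congrArg Subtype.val (hx ⟨v, hVN hv⟩ (mem_subgroupOf.2 hv))
  obtain ⟨k, hk⟩ := hk
  have h1 : (x : G) ∈ T := mem_of_cent hWV le_W hT hD x.2 hxV ⟨k, by simpa using congrArg Subtype.val hk⟩
  have h2 : (D.subgroupOf (normalizer (D : Set G))).Normal := Subgroup.normal_in_normalizer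
  have h3 : D.subgroupOf (normalizer (D : Set G)) ≤ pPrimeCore 2 (normalizer (D : Set G)) := by
    refine Lib.Cores.le_pPrimeCore h2 (Nat.coprime_two_right.2 ?_)
    rw [Nat.card_congr (subgroupOfEquivOfLe le_normalizer).toEquiv]
    obtain ⟨n, hn⟩ := IsPGroup.iff_card.1 hD.pgroup
    rw [hn]
    exact ((Fact.out : r.Prime).odd_of_ne_two hr2).pow
  exact h3 (mem_subgroupOf.2 (hD.le h1))

/-- **(H4)** -/
theorem core_sing (hr2 : r ≠ 2) (hSV : S₀ ≤ centralizer (V : Set G)) (hWV : W ≤ centralizer (V : Set G))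
    (hT : SylIn r T W) (hD : QQ S₀ T r D) (hY : IsPGroup r Y) (hYD : Y ≤ normalizer (D : Set G))
    (hYn : S₀ ≤ normalizer (Y : Set G))
    (hone : ∀ v ∈ V, v ≠ 1 → ∀ E : Subgroup G, IsPGroup r E → E ≤ centralizer ({v} : Set G) →
      S₀ ≤ normalizer (E : Set G) → E ≤ centralizerPPrimeCore 2 v ⊔ W) :
    ∀ v ∈ V.subgroupOf (normalizer (D : Set G)), v ≠ 1 →
      Y.subgroupOf (normalizer (D : Set G)) ⊓ centralizer ({v} : Set (normalizer (D : Set G))) ≤
        centralizerPPrimeCore 2 v := by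
  set N : Subgroup G := normalizer (D : Set G) with hN
  intro v hv hv1 y hy
  have hvV : (v : G) ∈ V := mem_subgroupOf.1 hv
  have hv1' : (v : G) ≠ 1 := fun e => hv1 (Subtype.ext e)
  have hyY : (y : G) ∈ Y := mem_subgroupOf.1 (mem_inf.1 hy).1
  have hyv : (y : G) ∈ centralizer ({(v : G)} : Set G) := by
    rw [mem_centralizer_singleton_iff]
    exact congrArg Subtype.val (mem_centralizer_singleton_iff.1 (mem_inf.1 hy).2)
  have hTv : T ≤ centralizer ({(v : G)} : Set G) :=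
    (hT.le.trans hWV).trans (centralizer_le (Set.singleton_subset_iff.2 hvV))
  have hTn : T ≤ normalizer (centralizerPPrimeCore 2 (v : G) : Set G) :=
    Trans.le_normalizer_of fun b hb u hu => core_conj (hTv hb) hu
  have h1 := inf_sing_le hSV hWV hT hvV (hone v hvV hv1') (qq_sup hD hY hYD hYn)
    (mem_inf.2 ⟨mem_sup_left hyY, hyv⟩)
  obtain ⟨o, ho, w, hw, e⟩ := exists_mul_of_mem_sup hTn h1
  -- the normal subgroup of odd order
  set A : Subgroup G := centralizerPPrimeCore 2 (v : G) ⊓ N with hA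
  set B : Subgroup G := D ⊓ centralizer ({(v : G)} : Set G) with hB
  have hBA : B ≤ normalizer (A : Set G) := by
    refine Trans.le_normalizer_of fun b hb u hu => mem_inf.2 ⟨core_conj (mem_inf.1 hb).2 (mem_inf.1 hu).1, ?_⟩
    have hbN : b ∈ N := le_normalizer (mem_inf.1 hb).1
    exact mul_mem (mul_mem hbN (mem_inf.1 hu).2) (inv_mem hbN)
  have hodd : Odd (Nat.card (A ⊔ B : Subgroup G)) := by
    have h2 : Odd (Nat.card A) := (core_odd (v : G)).of_dvd_nat (card_dvd_of_le inf_le_left)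
    have h3 : Odd (Nat.card B) := by
      obtain ⟨n, hn⟩ := IsPGroup.iff_card.1 (hD.pgroup.to_le (inf_le_left : B ≤ D))
      rw [hn]
      exact ((Fact.out : r.Prime).odd_of_ne_two hr2).pow
    exact (h2.mul h3).of_dvd_nat (Cfsg.Agent.SignalizersComponents.CoprimeBasic.card_sup_dvd hBA)
  have hAN : A ⊔ B ≤ N := sup_le inf_le_right (inf_le_left.trans le_normalizer)
  rw [Concl.mem_core_iff]
  refine ⟨(A ⊔ B).subgroupOf N, mem_subgroupOf.2 ?_, ?_, ?_, ?_⟩
  · have hwB : w ∈ B := mem_inf.2 ⟨hD.le hw, hTv hw⟩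
    have hwN : w ∈ N := le_normalizer (hD.le hw)
    rw [e]
    refine mul_mem (mem_sup_left (mem_inf.2 ⟨ho, ?_⟩)) (mem_sup_right hwB)
    have h4 : o = (y : G) * w⁻¹ := by rw [e, mul_inv_cancel_right]
    rw [h4]
    exact mul_mem y.2 (inv_mem hwN)
  · intro m hm
    have h4 : (A ⊔ B : Subgroup G) ≤ centralizer ({(v : G)} : Set G) :=
      sup_le (inf_le_left.trans (core_le_cent _)) inf_le_right
    exact Subtype.ext (mem_centralizer_singleton_iff.1 (h4 (mem_subgroupOf.1 hm)))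
  · intro c hc m hm
    have hcv : (c : G) ∈ centralizer ({(v : G)} : Set G) := by
      rw [mem_centralizer_singleton_iff]
      exact congrArg Subtype.val hc
    have h4 : (A ⊔ B : Subgroup G) ≤ (A ⊔ B : Subgroup G).comap (MulAut.conj (c : G)).toMonoidHom := by
      refine sup_le (fun u hu => mem_sup_left ?_) (fun u hu => mem_sup_right ?_)
      · exact mem_inf.2 ⟨core_conj hcv (mem_inf.1 hu).1, mul_mem (mul_mem c.2 (mem_inf.1 hu).2) (inv_mem c.2)⟩
      · exact mem_inf.2 ⟨(mem_normalizer_iff.1 c.2 u).1 (mem_inf.1 hu).1,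
          mul_mem (mul_mem hcv (mem_inf.1 hu).2) (inv_mem hcv)⟩
    exact mem_subgroupOf.2 (h4 (mem_subgroupOf.1 hm))
  · rw [Nat.card_congr (subgroupOfEquivOfLe hAN).toEquiv]
    exact hodd

end Cfsg.Agent.GTwoOdd.Core.PushH
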