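import Cfsg.Agent.GTwoOdd.TrZero

/-!
# The commuting graph of the involutions of `C(t)`

A nonempty set of involutions `≠ t` of `C(t)` which is closed under commuting contains all the
involutions `≠ t` of `C(t)`.
-/

set_option autoImplicit false

namespace Cfsg.Agent.GTwoOdd.Core.TrConn

open Matrix

section matrices

variable {F : Type*} [Field F]

/-- nonsingular of trace `0` -/
def TZ (A : M2 F) : Prop := A.trace = 0 ∧ A.det ≠ 0

theorem TZ.smul {A : M2 F} (h : TZ A) {c : F} (hc : c ≠ 0) : TZ (c • A) :=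
  ⟨by rw [Matrix.trace_smul, h.1, smul_zero],
    by rw [det_smul2]; exact mul_ne_zero (mul_ne_zero hc hc) h.2⟩

/-- an anticommuting matrix of given determinant -/
theorem exists_anti_det [Finite F] (h2 : (2 : F) ≠ 0) {A : M2 F} (hA : TZ A) {d : F}
    (hd : d ≠ 0) : ∃ A' : M2 F, TZ A' ∧ A' * A = -(A * A') ∧ A'.det = d := by
  obtain ⟨n, hn⟩ := exists_anti h2 hA.2 hA.1
  obtain ⟨B, hB, hBd⟩ := exists_cent_det h2 hA.2 hA.1 d
  have h : (n : M2 F) * B * A = -(A * (n * B)) := by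
    rw [mul_assoc, hB, ← mul_assoc, hn, neg_mul, mul_assoc]
  have hdet : ((n : M2 F) * B).det = d := by
    rw [Matrix.det_mul, hBd, sl_coe_det, one_mul]
  exact ⟨n * B, ⟨trace_of_anti h2 hA.2 h, by rw [hdet]; exact hd⟩, h, hdet⟩

theorem not_prop_of_anti (h2 : (2 : F) ≠ 0) {A A' : M2 F} (hA : TZ A) (hA' : TZ A')
    (h : A' * A = -(A * A')) (c : F) : A' ≠ c • A := by
  rintro rfl
  have h1 : c ≠ 0 := by
    rintro rfl
    apply hA'.2
    simp
  rw [Matrix.smul_mul, Matrix.mul_smul, m2_sq_of_trace hA.1, smul_smul, ← neg_smul] at h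
  have h3 := congrFun (congrFun h 0) 0
  simp at h3
  have h4 : 2 * (c * A.det) = 0 := by linear_combination -h3
  rcases mul_eq_zero.1 h4 with h5 | h5
  · exact h2 h5
  · rcases mul_eq_zero.1 h5 with h6 | h6
    · exact h1 h6
    · exact hA.2 h6

/-- a singular matrix anticommuting with a nonsplit one is `0` -/
theorem eq_zero_of_anti {B D : M2 F} (hB : B.trace = 0) (hns : ¬ IsSquare (-B.det))
    (hD : D.trace = 0) (h : D * B = -(B * D)) (hdet : D.det = 0) : D = 0 := by
  have hb := trace_zero_iff.1 hB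
  have hd := trace_zero_iff.1 hD
  have h00 := congrFun (congrFun h 0) 0
  rw [Matrix.neg_apply, m2_mul_00, m2_mul_00] at h00
  rw [Matrix.det_fin_two, hd] at hdet
  rw [Matrix.det_fin_two, hb] at hns
  have hq : B 0 1 ≠ 0 := by
    intro hq
    apply hns
    refine ⟨B 0 0, ?_⟩
    rw [hq]; ring
  by_cases hy : D 0 1 = 0
  · have hx : D 0 0 = 0 := by
      rw [hy] at hdet
      have : D 0 0 * D 0 0 = 0 := by linear_combination -hdet
      exact mul_self_eq_zero.1 this
    have hz : D 1 0 = 0 := by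
      rw [hx, hy] at h00
      have : B 0 1 * D 1 0 = 0 := by linear_combination h00
      exact (mul_eq_zero.1 this).resolve_left hq
    exact m2_ext (by simp [hx]) (by simp [hy]) (by simp [hz]) (by simp [hd, hx])
  · exfalso
    apply hns
    refine ⟨(B 0 1 * D 0 0 - B 0 0 * D 0 1) / D 0 1, ?_⟩
    field_simp
    linear_combination (B 0 1 * D 0 1) * h00 + (B 0 1 * B 0 1) * hdet

/-- the commutator of two matrices of trace `0` anticommutes with both -/
theorem commutator_anti {B B' : M2 F} (hB : B.trace = 0) :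
    (B * B' - B' * B) * B = -(B * (B * B' - B' * B)) := by
  have h1 : (B * B' - B' * B) * B = B * B' * B - B' * (B * B) := by
    rw [sub_mul]; simp only [mul_assoc]
  have h2 : B * (B * B' - B' * B) = (B * B) * B' - B * B' * B := by
    rw [mul_sub]; simp only [mul_assoc]
  rw [h1, h2, m2_sq_of_trace hB]
  simp

theorem commutator_anti' {B B' : M2 F} (hB' : B'.trace = 0) :
    (B * B' - B' * B) * B' = -(B' * (B * B' - B' * B)) := by
  have h1 := commutator_anti (B := B') (B' := B) hB'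
  have h2 : B * B' - B' * B = -(B' * B - B * B') := by abel
  rw [h2, neg_mul, h1, mul_neg]

theorem commutator_tz (h2 : (2 : F) ≠ 0) {B B' : M2 F} (hB : TZ B) (hns : ¬ IsSquare (-B.det))
    (hB' : TZ B') (hne : ∀ c : F, B' ≠ c • B) : TZ (B * B' - B' * B) := by
  have ht : (B * B' - B' * B).trace = 0 := by
    rw [Matrix.trace_sub, Matrix.trace_mul_comm, sub_self]
  refine ⟨ht, fun hdet => ?_⟩
  have h0 := eq_zero_of_anti hB.1 hns ht (commutator_anti hB.1) hdet
  have h1 : B' * B = B * B' := (sub_eq_zero.1 h0).symm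
  obtain ⟨a, b, hab⟩ := cent_form h2 hB.2 hB.1 h1
  have h3 : 2 * a = 0 := by
    rw [← cent_trace hB.1 a b, ← hab, hB'.1]
  have ha : a = 0 := (mul_eq_zero.1 h3).resolve_left h2
  apply hne b
  rw [hab, ha]
  simp

theorem exists_ns [Finite F] (h2 : (2 : F) ≠ 0) : ∃ a : F, ¬ IsSquare a := by
  have := Fintype.ofFinite F
  apply FiniteField.exists_nonsquare
  intro h
  apply h2
  have := ringChar.Nat.cast_ringChar (R := F)
  rw [h] at this
  exact_mod_cast this

theorem exists_class [Finite F] (h2 : (2 : F) ≠ 0) (P : Prop) : ∃ d : F, d ≠ 0 ∧ (P ↔ IsSquare d) := by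
  by_cases h : P
  · exact ⟨1, one_ne_zero, iff_of_true h (IsSquare.one)⟩
  · obtain ⟨a, ha⟩ := exists_ns h2
    refine ⟨a, ?_, iff_of_false h ha⟩
    rintro rfl
    exact ha IsSquare.zero

/-- a nonempty set of nonsingular matrices of trace `0` which is closed under scaling and
anticommuting is everything -/
theorem all_of_closed [Finite F] (h2 : (2 : F) ≠ 0) (P : M2 F → Prop) (hne : ∃ A, TZ A ∧ P A)
    (hs : ∀ (A : M2 F) (c : F), c ≠ 0 → TZ A → P A → P (c • A))
    (hc : ∀ A A' : M2 F, TZ A → TZ A' → A' * A = -(A * A') → P A → P A') :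
    ∀ A, TZ A → P A := by
  obtain ⟨ν, hν⟩ := exists_ns h2
  have hν0 : -ν ≠ 0 := by
    intro h
    apply hν
    rw [neg_eq_zero.1 h]
    exact IsSquare.zero
  obtain ⟨A0, hA0, hP0⟩ := hne
  obtain ⟨A1, hA1, h1, hd1⟩ := exists_anti_det h2 hA0 hν0
  have hP1 := hc A0 A1 hA0 hA1 h1 hP0
  have hns1 : ¬ IsSquare (-A1.det) := by rw [hd1, neg_neg]; exact hν
  have hnon : ∀ B, TZ B → P B := by
    intro B hB
    by_cases hex : ∃ c : F, B = c • A1
    · obtain ⟨c, rfl⟩ := hex
      refine hs _ c ?_ hA1 hP1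
      rintro rfl
      apply hB.2
      simp
    · push Not at hex
      have hD := commutator_tz h2 hA1 hns1 hB hex
      have hPD := hc A1 _ hA1 hD (commutator_anti hA1.1) hP1
      refine hc _ B hD hB ?_ hPD
      rw [commutator_anti' (B := A1) (B' := B) hB.1, neg_neg]
  exact hnon

end matrices

section local'

variable {G : Type*} [Group G] {t : G} {F1 F2 : Type*} [Field F1] [Field F2] [Finite F1]
  [Finite F2] {L : LocalSL t F1 F2} (H : L.Hyp)

/-- the involutions `≠ t` of `C(t)` -/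
def Inv (t u : G) : Prop := u * t = t * u ∧ u * u = 1 ∧ u ≠ 1 ∧ u ≠ t

include H

theorem inv_of_rep {u : G} {A : M2 F1} {B : M2 F2} (h : L.Rep u A B) (hA : A.trace = 0)
    (hB : B.trace = 0) : Inv t u := by
  refine ⟨h.comm, H.invol h hA hB, ?_, ?_⟩
  · rintro rfl
    obtain ⟨⟨a, _, ha⟩, _⟩ := (LocalSL.Rep.one L).prop h
    exact not_scalar H.two_ne1 h.det1 hA a ha
  · rintro rfl
    obtain ⟨⟨a, _, ha⟩, _⟩ := (LocalSL.Rep.rep_t L).prop h
    exact not_scalar H.two_ne1 h.det1 hA a ha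

theorem rep_of_inv {u : G} (h : Inv t u) : ∃ A B, L.Rep u A B ∧ TZ A ∧ TZ B := by
  obtain ⟨A, B, h1, h2, h3⟩ := H.rep_of_invol h.1 h.2.1 h.2.2.1 h.2.2.2
  exact ⟨A, B, h1, ⟨h2, h1.det1⟩, ⟨h3, h1.det2⟩⟩

theorem exists_inv : ∃ u, Inv t u := by
  obtain ⟨g, D1, D2, h, _, _, _, h1, h2⟩ := H.outer'
  exact ⟨g, inv_of_rep H h h1 h2⟩

theorem exists_neighbour {u : G} {A : M2 F1} {B : M2 F2} (h : L.Rep u A B)
    {A' : M2 F1} {B' : M2 F2} (hA' : TZ A') (hB' : TZ B') (a1 : A' * A = -(A * A'))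
    (a2 : B' * B = -(B * B')) (hcl : IsSquare A'.det ↔ IsSquare B'.det) :
    ∃ u', L.Rep u' A' B' ∧ Inv t u' ∧ u * u' = u' * u := by
  obtain ⟨u', hu'⟩ := H.exists_rep hA'.2 hB'.2 hcl
  exact ⟨u', hu', inv_of_rep H hu' hA'.1 hB'.1, (H.commute_of_anti hu' h a1 a2).symm⟩

/-- a third involution commuting with `t` and `u` -/
theorem third {u : G} (hu : Inv t u) :
    ∃ u', Inv t u' ∧ u * u' = u' * u ∧ u' ≠ u ∧ u' ≠ u * t := by
  obtain ⟨A, B, h, hA, hB⟩ := rep_of_inv H hu
  obtain ⟨A', hA', a1, d1⟩ := exists_anti_det H.two_ne1 hA (d := 1) one_ne_zero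
  obtain ⟨B', hB', a2, d2⟩ := exists_anti_det H.two_ne2 hB (d := 1) one_ne_zero
  obtain ⟨u', hu', hi, hc⟩ := exists_neighbour H h hA' hB' a1 a2
    (by rw [d1, d2]; exact iff_of_true IsSquare.one IsSquare.one)
  refine ⟨u', hi, hc, ?_, ?_⟩
  · rintro rfl
    obtain ⟨⟨a, _, ha⟩, _⟩ := h.prop hu'
    exact not_prop_of_anti H.two_ne1 hA hA' a1 a ha
  · rintro rfl
    have h1 := h.mul (LocalSL.Rep.rep_t L)
    rw [mul_one, mul_one] at h1
    obtain ⟨⟨a, _, ha⟩, _⟩ := h1.prop hu'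
    exact not_prop_of_anti H.two_ne1 hA hA' a1 a ha

/-- connectivity of the commuting graph of the involutions `≠ t` of `C(t)` -/
theorem conn (U : G → Prop) (hne : ∃ u, Inv t u ∧ U u)
    (hc : ∀ u u', Inv t u → Inv t u' → u * u' = u' * u → U u → U u') : ∀ u, Inv t u → U u := by
  have h21 := H.two_ne1
  have h22 := H.two_ne2
  -- the first coordinates
  have step1 : ∀ A, TZ A → ∃ (u : G) (B : M2 F2), L.Rep u A B ∧ TZ B ∧ U u := by
    refine all_of_closed h21 _ ?_ ?_ ?_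
    · obtain ⟨u, hu, hU⟩ := hne
      obtain ⟨A, B, h, hA, hB⟩ := rep_of_inv H hu
      exact ⟨A, hA, u, B, h, hB, hU⟩
    · rintro A c hc0 hA ⟨u, B, h, hB, hU⟩
      refine ⟨u, B, ?_, hB, hU⟩
      have := h.smul hc0 (one_ne_zero (α := F2))
      rwa [one_smul] at this
    · rintro A A' hA hA' ha ⟨u, B, h, hB, hU⟩
      obtain ⟨d, hd, hcl⟩ := exists_class h22 (IsSquare A'.det)
      obtain ⟨B', hB', a2, d2⟩ := exists_anti_det h22 hB hd
      obtain ⟨u', hu', hi, hcm⟩ := exists_neighbour H h hA' hB' ha a2 (by rw [d2]; exact hcl)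
      exact ⟨u', B', hu', hB', hc u u' (inv_of_rep H h hA.1 hB.1) hi hcm hU⟩
  -- the nonsplit ones
  have step2 : ∀ (u : G) (A : M2 F1) (B : M2 F2), L.Rep u A B → TZ A → TZ B →
      ¬ IsSquare (-B.det) → U u := by
    intro u A B h hA hB hns
    obtain ⟨u0, B0, h0, hB0, hU0⟩ := step1 A hA
    have hi0 := inv_of_rep H h0 hA.1 hB0.1
    have hi := inv_of_rep H h hA.1 hB.1
    have hns0 : ¬ IsSquare (-B0.det) := by
      have h3 : IsSquare B0.det ↔ IsSquare B.det := by
        rw [← H.square_iff _ _ _ h0, ← H.square_iff _ _ _ h]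
      have h4 : IsSquare ((-B0.det) * (-B.det)) := by
        rw [neg_mul_neg]
        exact (isSquare_mul_iff hB0.2 hB.2).2 h3
      intro h5
      exact hns (((isSquare_mul_iff (neg_ne_zero.2 hB0.2) (neg_ne_zero.2 hB.2)).1 h4).1 h5)
    by_cases hex : ∃ c : F2, B = c • B0
    · obtain ⟨c, hcB⟩ := hex
      rcases h0.unique h (a := 1) (one_smul _ _).symm hcB with h6 | h6
      · rw [h6]; exact hU0
      · refine hc u0 u hi0 hi ?_ hU0
        rw [h6, mul_assoc, ← hi0.1]
    · push Not at hex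
      have hD := commutator_tz h22 hB0 hns0 hB hex
      obtain ⟨d, hd, hcl⟩ := exists_class h21 (IsSquare (B0 * B - B * B0).det)
      obtain ⟨A', hA', a1, d1⟩ := exists_anti_det h21 hA hd
      have hcl' : IsSquare A'.det ↔ IsSquare (B0 * B - B * B0).det := by
        rw [d1]; exact hcl.symm
      obtain ⟨u', hu', hi', hcm'⟩ := exists_neighbour H h0 hA' hD a1 (commutator_anti hB0.1) hcl'
      have hcm2 : u' * u = u * u' :=
        H.commute_of_anti hu' h a1 (commutator_anti' hB.1)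
      exact hc u' u hi' hi hcm2 (hc u0 u' hi0 hi' hcm' hU0)
  intro u hu
  obtain ⟨A, B, h, hA, hB⟩ := rep_of_inv H hu
  obtain ⟨ν, hν⟩ := exists_ns h22
  have hν0 : -ν ≠ 0 := by
    intro h
    apply hν
    rw [neg_eq_zero.1 h]
    exact IsSquare.zero
  obtain ⟨B', hB', a2, d2⟩ := exists_anti_det h22 hB hν0
  obtain ⟨d, hd, hcl⟩ := exists_class h21 (IsSquare B'.det)
  obtain ⟨A', hA', a1, d1⟩ := exists_anti_det h21 hA hd
  obtain ⟨u', hu', hi', hcm'⟩ := exists_neighbour H h hA' hB' a1 a2 (by rw [d1]; exact hcl.symm)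
  have hU' := step2 u' A' B' hu' hA' hB' (by rw [d2, neg_neg]; exact hν)
  exact hc u' u hi' hu hcm'.symm hU'

end local'

end Cfsg.Agent.GTwoOdd.Core.TrConn
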